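import Mathlib
import Cfsg.Prelude
import Cfsg.Agent.Helper5.PStab
import Cfsg.Agent.Helper13.PSolv
import Cfsg.Agent.Helper13.PPrime
import Cfsg.Agent.Helper10.PComp
import Cfsg.Agent.S0667
import Cfsg.Agent.S0650
import Cfsg.Agent.S2947

set_option autoImplicit false

namespace Cfsg.Agent.Helper5

open Cfsg.Agent.S0072
open scoped commutatorElement

universe u

/-- a homomorphic image of a group with a normal `p`-complement has one -/
theorem npc_of_surjective {H K : Type*} [Group H] [Group K] [Finite H] [Finite K] (p : ℕ)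
    [Fact p.Prime] (f : H →* K) (hf : Function.Surjective f)
    (h : Cfsg.HasNormalPComplement p H) : Cfsg.HasNormalPComplement p K := by
  rw [npc_iff] at h ⊢
  obtain ⟨N, hN, hcop, k, hk⟩ := h
  refine ⟨N.map f, Subgroup.Normal.map hN f hf,
    Nat.Coprime.coprime_dvd_left (N.card_map_dvd f) hcop, ?_⟩
  have h2 : (N.map f).index ∣ p ^ k := by rw [← hk]; exact N.index_map_dvd hf
  obtain ⟨j, -, hj⟩ := (Nat.dvd_prime_pow Fact.out).mp h2
  exact ⟨j, hj⟩

/-- a subgroup all of whose elements have exponent `m` prime to `p` has order prime to `p` -/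
theorem coprime_card_of_pow {G : Type*} [Group G] [Finite G] (p : ℕ) [Fact p.Prime]
    (H : Subgroup G) (m : ℕ) (hm : m.Coprime p) (h : ∀ x ∈ H, x ^ m = 1) :
    (Nat.card H).Coprime p := by
  rw [Nat.coprime_comm]
  apply (Nat.Prime.coprime_iff_not_dvd Fact.out).mpr
  intro hdvd
  obtain ⟨t, ht⟩ := exists_prime_orderOf_dvd_card' p hdvd
  have h1 : t ^ m = 1 := Subtype.ext (by rw [Subgroup.coe_pow]; exact h t t.2)
  have h2 := orderOf_dvd_of_pow_eq_one h1
  rw [ht] at h2
  exact (Nat.Prime.coprime_iff_not_dvd Fact.out).mp hm.symm h2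

theorem npc_of_normalizer_eq_top {G : Type*} [Group G] [Finite G] (p : ℕ) [Fact p.Prime]
    (U : Subgroup G) (hU : Subgroup.normalizer (U : Set G) = ⊤)
    (h : Cfsg.HasNormalPComplement p ↥(Subgroup.normalizer (U : Set G))) :
    Cfsg.HasNormalPComplement p G :=
  npc_of_injective p ((MonoidHom.id G).codRestrict (Subgroup.normalizer (U : Set G))
    (fun g => by rw [hU]; exact Subgroup.mem_top g))
    (fun x y hxy => by have := congrArg Subtype.val hxy; exact this) h

/-- a `p`-element `x` of a subgroup... : if `x ^ m ∈ O` with `m` prime to `p` and `x` is a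
`p`-element then `x ∈ O` -/
theorem mem_of_pow_mem_coprime {G : Type*} [Group G] (p : ℕ) [Fact p.Prime] (O : Subgroup G)
    (x : G) (m : ℕ) (hm : m.Coprime p) (hx : x ^ m ∈ O) (i : ℕ) (hxi : x ^ p ^ i = 1) : x ∈ O := by
  by_cases hi : i = 0
  · subst hi
    rw [pow_zero, pow_one] at hxi
    rw [hxi]; exact one_mem O
  · have h1 : 1 < p ^ i := Nat.one_lt_pow hi (Fact.out : p.Prime).one_lt
    obtain ⟨u, -, hu⟩ := Nat.exists_mul_mod_eq_one_of_coprime (Nat.Coprime.pow_right i hm) h1
    have : x = (x ^ m) ^ u := by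
      rw [← pow_mul, ← Nat.div_add_mod (m * u) (p ^ i), hu, pow_add, pow_mul, hxi, one_pow,
        one_mul, pow_one]
    rw [this]; exact pow_mem hx u

/-- hypotheses on a characteristic `p`-functor `W` for the Glauberman–Thompson argument -/
structure GTFunctor (p : ℕ) (W : ∀ (X : Type u) [Group X], Subgroup X → Subgroup X) : Prop where
  le : ∀ (X : Type u) [Group X] (P : Subgroup X), W X P ≤ P
  ne_bot : ∀ (X : Type u) [Group X] [Finite X] (P : Subgroup X), IsPGroup p P → P ≠ ⊥ →
    W X P ≠ ⊥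
  map : ∀ (X Y : Type u) [Group X] [Group Y] [Finite X] [Finite Y] (f : X →* Y)
    (P : Subgroup X), f.ker ⊓ P = ⊥ → (W X P).map f = W Y (P.map f)
  zj : ∀ (X : Type u) [Group X] [Finite X] (P : Sylow p X),
    Subgroup.centralizer (Cfsg.pCore p X : Set X) ≤ Cfsg.pCore p X →
    (∀ (V : Subgroup X) [V.Normal], IsPGroup p V → Cfsg.IsPStableOn p V) →
    (W X (P : Subgroup X)).Normal

theorem GTFunctor.normalizer_le {p : ℕ} {W : ∀ (X : Type u) [Group X], Subgroup X → Subgroup X}
    (hW : GTFunctor p W) (X : Type u) [Group X] [Finite X] (P : Subgroup X) :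
    Subgroup.normalizer (P : Set X) ≤ Subgroup.normalizer (W X P : Set X) := by
  intro g hg
  apply Cfsg.Agent.S0650.mem_normalizer_of_conj
  intro x hx
  have h1 := hW.map X X (MulAut.conj g).toMonoidHom P (by
    rw [(MonoidHom.ker_eq_bot_iff _).mpr (MulAut.conj g).injective, bot_inf_eq])
  rw [Cfsg.Agent.S0653.map_conj_eq_of_mem_normalizer P hg] at h1
  have : g * x * g⁻¹ ∈ (W X P).map (MulAut.conj g).toMonoidHom := ⟨x, hx, rfl⟩
  rw [h1] at this
  exact this

theorem GTFunctor.npc_conj {p : ℕ} [Fact p.Prime]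
    {W : ∀ (X : Type u) [Group X], Subgroup X → Subgroup X} (hW : GTFunctor p W)
    (G : Type u) [Group G] [Finite G] (P Q : Sylow p G)
    (h : Cfsg.HasNormalPComplement p ↥(Subgroup.normalizer (W G (P : Subgroup G) : Set G))) :
    Cfsg.HasNormalPComplement p ↥(Subgroup.normalizer (W G (Q : Subgroup G) : Set G)) := by
  obtain ⟨g, rfl⟩ := MulAction.exists_smul_eq G P Q
  have hc : ((g • P : Sylow p G) : Subgroup G) =
      (P : Subgroup G).map (MulAut.conj g).toMonoidHom := rfl
  rw [hc]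
  have h1 := hW.map G G (MulAut.conj g).toMonoidHom (P : Subgroup G) (by
    rw [(MonoidHom.ker_eq_bot_iff _).mpr (MulAut.conj g).injective, bot_inf_eq])
  rw [← h1]
  have e1 : ∀ y : G, g * y * g⁻¹ ∈ (W G (P : Subgroup G)).map (MulAut.conj g).toMonoidHom ↔
      y ∈ W G (P : Subgroup G) := by
    intro y
    constructor
    · rintro ⟨z, hz, hzy⟩
      have : z = y := by
        have h' : g * z * g⁻¹ = g * y * g⁻¹ := hzy
        calc z = g⁻¹ * (g * z * g⁻¹) * g := by group
          _ = g⁻¹ * (g * y * g⁻¹) * g := by rw [h']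
          _ = y := by group
      rw [← this]; exact hz
    · intro hy; exact ⟨y, hy, rfl⟩
  have hmem : ∀ x ∈ Subgroup.normalizer
      (((W G (P : Subgroup G)).map (MulAut.conj g).toMonoidHom : Subgroup G) : Set G),
      g⁻¹ * x * g ∈ Subgroup.normalizer (W G (P : Subgroup G) : Set G) := by
    intro x hx
    rw [Subgroup.mem_normalizer_iff] at hx ⊢
    intro w
    have h2 := hx (g * w * g⁻¹)
    rw [e1] at h2
    rw [h2]
    have e2 : x * (g * w * g⁻¹) * x⁻¹ = g * (g⁻¹ * x * g * w * (g⁻¹ * x * g)⁻¹) * g⁻¹ := by group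
    rw [e2, e1]
  refine npc_of_injective p (MonoidHom.mk' (fun x : ↥(Subgroup.normalizer
      (((W G (P : Subgroup G)).map (MulAut.conj g).toMonoidHom : Subgroup G) : Set G)) =>
      (⟨g⁻¹ * (x : G) * g, hmem x x.2⟩ : ↥(Subgroup.normalizer (W G (P : Subgroup G) : Set G))))
    (by
      intro x y
      apply Subtype.ext
      show g⁻¹ * ((x : G) * (y : G)) * g = (g⁻¹ * (x : G) * g) * (g⁻¹ * (y : G) * g)
      group)) ?_ h
  intro x y hxy
  have h' : g⁻¹ * (x : G) * g = g⁻¹ * (y : G) * g := congrArg Subtype.val hxy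
  apply Subtype.ext
  calc (x : G) = g * (g⁻¹ * (x : G) * g) * g⁻¹ := by group
    _ = g * (g⁻¹ * (y : G) * g) * g⁻¹ := by rw [h']
    _ = y := by group

theorem GTFunctor.npc_normalizer_subtype {p : ℕ} [Fact p.Prime]
    {W : ∀ (X : Type u) [Group X], Subgroup X → Subgroup X} (hW : GTFunctor p W)
    (G : Type u) [Group G] [Finite G] (M : Subgroup G) (R : Subgroup ↥M)
    (h : Cfsg.HasNormalPComplement p ↥(Subgroup.normalizer (W G (R.map M.subtype) : Set G))) :
    Cfsg.HasNormalPComplement p ↥(Subgroup.normalizer (W ↥M R : Set ↥M)) := by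
  have h1 := hW.map ↥M G M.subtype R (by rw [Subgroup.ker_subtype, bot_inf_eq])
  have h2 := Subgroup.le_normalizer_map (H := W ↥M R) M.subtype
  rw [h1] at h2
  exact npc_of_injective p ((M.subtype.comp (Subgroup.normalizer (W ↥M R : Set ↥M)).subtype).codRestrict
    _ (fun x => h2 ⟨x, x.2, rfl⟩))
    (fun x y hxy => by
      have := congrArg Subtype.val hxy
      exact Subtype.ext (Subtype.ext this)) h

/-- normalizers of `p`-subgroups in the quotient by a normal `p'`-subgroup -/
theorem normalizer_map_le {G : Type*} [Group G] [Finite G] {p : ℕ} [Fact p.Prime] (D : Subgroup G)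
    [hDn : D.Normal] (hD : (Nat.card D).Coprime p) (U : Subgroup G) (hU : IsPGroup p U) :
    Subgroup.normalizer ((U.map (QuotientGroup.mk' D) : Subgroup (G ⧸ D)) : Set (G ⧸ D)) ≤
      (Subgroup.normalizer (U : Set G)).map (QuotientGroup.mk' D) := by
  intro xb hxb
  obtain ⟨x, rfl⟩ := QuotientGroup.mk'_surjective D xb
  have h1 : ∀ u ∈ U, x * u * x⁻¹ ∈ U ⊔ D := by
    intro u hu
    have h3 := (Subgroup.mem_normalizer_iff.mp hxb (QuotientGroup.mk' D u)).mp
      (Subgroup.mem_map_of_mem _ hu)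
    obtain ⟨u', hu', hu'e⟩ := h3
    have h2 : u'⁻¹ * (x * u * x⁻¹) ∈ D := by
      rw [← QuotientGroup.eq]
      have : QuotientGroup.mk' D u' = QuotientGroup.mk' D (x * u * x⁻¹) := by
        rw [hu'e]; simp only [map_mul, map_inv]
      exact this
    have e : x * u * x⁻¹ = u' * (u'⁻¹ * (x * u * x⁻¹)) := by group
    rw [e]
    exact mul_mem (Subgroup.mem_sup_left hu') (Subgroup.mem_sup_right h2)
  have hQ : IsPGroup p (U.map (MulAut.conj x).toMonoidHom) := hU.map _
  have hQle : U.map (MulAut.conj x).toMonoidHom ≤ U ⊔ D := by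
    rintro _ ⟨u, hu, rfl⟩
    exact h1 u hu
  have hidx : ¬ p ∣ U.relIndex (U ⊔ D) := by
    intro hdvd
    have := Cfsg.Agent.Helper10.relIndex_sup_dvd_card U D
    exact (Nat.Prime.coprime_iff_not_dvd Fact.out).mp hD.symm (hdvd.trans this)
  obtain ⟨h, hh, hconj⟩ :=
    Cfsg.Agent.Helper13.exists_conj_le_of_relIndex (U ⊔ D) U _ hU hidx hQle hQ
  have hn : h * x ∈ Subgroup.normalizer (U : Set G) := by
    apply Cfsg.Agent.S0650.mem_normalizer_of_conj
    intro u hu
    have h4 := hconj (x * u * x⁻¹) ⟨u, hu, rfl⟩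
    have e : h * x * u * (h * x)⁻¹ = h * (x * u * x⁻¹) * h⁻¹ := by group
    rw [e]; exact h4
  obtain ⟨w₀, hw₀, d, hd, hwd⟩ := Subgroup.mem_sup_of_normal_right.mp hh
  refine ⟨w₀⁻¹ * (h * x), mul_mem (inv_mem (Subgroup.le_normalizer hw₀)) hn, ?_⟩
  rw [QuotientGroup.mk'_apply, QuotientGroup.mk'_apply, QuotientGroup.eq]
  have e : (w₀⁻¹ * (h * x))⁻¹ * x = x⁻¹ * d⁻¹ * x := by rw [← hwd]; group
  rw [e]
  simpa using hDn.conj_mem d⁻¹ (inv_mem hd) x⁻¹

/-- **Glauberman–Thompson**, general form, for a functor `W` satisfying `GTFunctor`. -/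
theorem glauberman_thompson_aux {p : ℕ} [Fact p.Prime] (hp2 : p ≠ 2)
    {W : ∀ (X : Type u) [Group X], Subgroup X → Subgroup X} (hW : GTFunctor p W) :
    ∀ (n : ℕ) (G : Type u) [Group G] [Finite G], Nat.card G = n → ∀ P : Sylow p G,
      Cfsg.HasNormalPComplement p ↥(Subgroup.normalizer (W G (P : Subgroup G) : Set G)) →
      Cfsg.HasNormalPComplement p G := by
  intro n
  induction n using Nat.strong_induction_on with
  | _ n ih =>
  intro G _ _ hcard P hN
  by_contra hG
  -- Step 0: proper subgroups containing a Sylow subgroup are p-nilpotent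
  have step0 : ∀ (Q : Sylow p G) (M : Subgroup G), (Q : Subgroup G) ≤ M → M ≠ ⊤ →
      Cfsg.HasNormalPComplement p ↥M := by
    intro Q M hQM hM
    have hlt : Nat.card ↥M < n := by
      rw [← hcard, ← Subgroup.card_top (G := G)]
      exact Cfsg.Agent.S0653.card_lt_of_lt (lt_top_iff_ne_top.mpr hM)
    apply ih _ hlt ↥M rfl (Q.subtype hQM)
    apply hW.npc_normalizer_subtype G M
    rw [Sylow.coe_subtype, Subgroup.subgroupOf_map_subtype, inf_of_le_left hQM]
    exact hW.npc_conj G P Q hN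
  -- Step 1: choose H
  have hex : ∃ H : Subgroup G, IsPGroup p H ∧ H ≠ ⊥ ∧
      ¬ Cfsg.HasNormalPComplement p ↥(Subgroup.normalizer (H : Set G)) := by
    by_contra hcon
    push Not at hcon
    exact hG ((Cfsg.Agent.S0072.result p).mpr hcon)
  obtain ⟨H, ⟨hHp, hH1, hHN⟩, hHmax⟩ := Set.exists_max_image
    {H : Subgroup G | IsPGroup p H ∧ H ≠ ⊥ ∧
      ¬ Cfsg.HasNormalPComplement p ↥(Subgroup.normalizer (H : Set G))}
    (fun H => (Nat.card ↥(Subgroup.normalizer (H : Set G))).factorization p) (Set.toFinite _) hex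
  -- Step 2: H is normal
  have hHtop : Subgroup.normalizer (H : Set G) = ⊤ := by
    by_contra hNtop
    have hlt : Nat.card ↥(Subgroup.normalizer (H : Set G)) < n := by
      rw [← hcard, ← Subgroup.card_top (G := G)]
      exact Cfsg.Agent.S0653.card_lt_of_lt (lt_top_iff_ne_top.mpr hNtop)
    obtain ⟨R⟩ : Nonempty (Sylow p ↥(Subgroup.normalizer (H : Set G))) := inferInstance
    obtain ⟨R₀, hR₀⟩ : ∃ R₀ : Subgroup G, R₀ = (R : Subgroup ↥(Subgroup.normalizer (H : Set G))).map
      (Subgroup.normalizer (H : Set G)).subtype := ⟨_, rfl⟩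
    have hR₀p : IsPGroup p R₀ := by rw [hR₀]; exact R.2.map _
    have hR₀N : R₀ ≤ Subgroup.normalizer (H : Set G) := by
      rw [hR₀]; exact Subgroup.map_subtype_le _
    have hHR : H ≤ R₀ := by
      haveI : (H.subgroupOf (Subgroup.normalizer (H : Set G))).Normal :=
        Subgroup.normal_in_normalizer
      have hp' : IsPGroup p (H.subgroupOf (Subgroup.normalizer (H : Set G))) := hHp.comap_subtype
      have h1 : H.subgroupOf (Subgroup.normalizer (H : Set G)) ≤
          (R : Subgroup ↥(Subgroup.normalizer (H : Set G))) := hp'.le_sylow_of_normal R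
      intro x hx
      rw [hR₀]
      exact ⟨⟨x, Subgroup.le_normalizer hx⟩, h1 (Subgroup.mem_subgroupOf.mpr hx), rfl⟩
    have hR₀1 : R₀ ≠ ⊥ := fun h => hH1 (le_bot_iff.mp (h ▸ hHR))
    have h1 : ¬ Cfsg.HasNormalPComplement p ↥(Subgroup.normalizer
        (W ↥(Subgroup.normalizer (H : Set G))
          (R : Subgroup ↥(Subgroup.normalizer (H : Set G))) :
          Set ↥(Subgroup.normalizer (H : Set G)))) := by
      intro hc
      exact hHN (ih _ hlt ↥(Subgroup.normalizer (H : Set G)) rfl R hc)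
    have h2 : ¬ Cfsg.HasNormalPComplement p ↥(Subgroup.normalizer (W G R₀ : Set G)) := by
      intro hc
      apply h1
      apply hW.npc_normalizer_subtype G (Subgroup.normalizer (H : Set G))
      rw [← hR₀]; exact hc
    have h3 := hHmax (W G R₀) ⟨hR₀p.to_le (hW.le G R₀), hW.ne_bot G R₀ hR₀p hR₀1, h2⟩
    obtain ⟨Q, hQ⟩ := hR₀p.exists_le_sylow
    have hcardR : Nat.card R₀ = p ^ (Nat.card ↥(Subgroup.normalizer (H : Set G))).factorization p := by
      rw [hR₀, Subgroup.card_map_of_injective (Subgroup.subtype_injective _)]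
      exact R.card_eq_multiplicity
    have hRQ : R₀ = (Q : Subgroup G) := by
      by_contra hne
      obtain ⟨r, hrQ, hrR, hrN⟩ :=
        Cfsg.Agent.S2947.exists_normalizer_of_lt Q.2 (lt_of_le_of_ne hQ hne)
      have hTp : IsPGroup p ((Q : Subgroup G) ⊓ Subgroup.normalizer (R₀ : Set G) : Subgroup G) :=
        Q.2.to_le inf_le_left
      have hRT : R₀ < (Q : Subgroup G) ⊓ Subgroup.normalizer (R₀ : Set G) := by
        refine lt_of_le_of_ne (le_inf hQ Subgroup.le_normalizer) ?_
        intro h; apply hrR; rw [h]; exact ⟨hrQ, hrN⟩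
      have hTle : (Q : Subgroup G) ⊓ Subgroup.normalizer (R₀ : Set G) ≤
          Subgroup.normalizer (W G R₀ : Set G) := inf_le_right.trans (hW.normalizer_le G R₀)
      obtain ⟨e, he⟩ := hTp.exists_card_eq
      have hdvd : p ^ e ∣ Nat.card ↥(Subgroup.normalizer (W G R₀ : Set G)) := by
        rw [← he]; exact Subgroup.card_dvd_of_le hTle
      have hle : e ≤ (Nat.card ↥(Subgroup.normalizer (W G R₀ : Set G))).factorization p :=
        (Nat.Prime.pow_dvd_iff_le_factorization Fact.out Nat.card_pos.ne').mp hdvd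
      have hcc : Nat.card ((Q : Subgroup G) ⊓ Subgroup.normalizer (R₀ : Set G) : Subgroup G) ≤
          Nat.card R₀ := by
        rw [he, hcardR]; exact Nat.pow_le_pow_right (Fact.out : p.Prime).pos (hle.trans h3)
      exact absurd (Cfsg.Agent.S0653.card_lt_of_lt hRT) (not_lt.mpr hcc)
    exact hHN (step0 Q _ (hRQ ▸ hR₀N) hNtop)
  haveI hHn : H.Normal := Subgroup.normalizer_eq_top_iff.mp hHtop
  obtain ⟨O, hOdef⟩ : ∃ O : Subgroup G, O = Cfsg.pCore p G := ⟨_, rfl⟩
  haveI hOn : O.Normal := by rw [hOdef]; exact Subgroup.sSup_normal _ (fun _ h => h.1)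
  have hOp : IsPGroup p O := by
    rw [hOdef]; exact Sylow.sSup_of_normal _ (fun _ h => h.2) (fun _ h => h.1)
  have hHO : H ≤ O := by rw [hOdef]; exact le_sSup ⟨hHn, hHp⟩
  have hO1 : O ≠ ⊥ := fun h => hH1 (le_bot_iff.mp (h ▸ hHO))
  have hOP : O ≤ (P : Subgroup G) := hOp.le_sylow_of_normal P
  have hWn : Subgroup.normalizer (W G (P : Subgroup G) : Set G) ≠ ⊤ :=
    fun h => hG (npc_of_normalizer_eq_top p _ h hN)
  -- Step 4: G ⧸ O has a normal p-complement
  have hπ : Function.Surjective (QuotientGroup.mk' O) := QuotientGroup.mk'_surjective O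
  have hkerπ : (QuotientGroup.mk' O).ker = O := QuotientGroup.ker_mk' O
  have hltO : Nat.card (G ⧸ O) < n := by
    rw [← hcard, Subgroup.card_eq_card_quotient_mul_card_subgroup O]
    have h1 : 1 < Nat.card O := (Subgroup.one_lt_card_iff_ne_bot O).mpr hO1
    have h0 : 0 < Nat.card (G ⧸ O) := Nat.card_pos
    nlinarith
  have hquot : Cfsg.HasNormalPComplement p (G ⧸ O) := by
    apply ih _ hltO (G ⧸ O) rfl (P.mapSurjective hπ)
    obtain ⟨Wb, hWb⟩ : ∃ Wb : Subgroup (G ⧸ O), Wb = W (G ⧸ O)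
      ((P.mapSurjective hπ : Sylow p (G ⧸ O)) : Subgroup (G ⧸ O)) := ⟨_, rfl⟩
    rw [← hWb]
    have hWble : Wb ≤ (P : Subgroup G).map (QuotientGroup.mk' O) := by
      have := hW.le (G ⧸ O) ((P.mapSurjective hπ : Sylow p (G ⧸ O)) : Subgroup (G ⧸ O))
      rw [← hWb, Sylow.coe_mapSurjective] at this
      exact this
    have hcomap : (Subgroup.normalizer (Wb : Set (G ⧸ O))).comap (QuotientGroup.mk' O) =
        Subgroup.normalizer ((Wb.comap (QuotientGroup.mk' O) : Subgroup G) : Set G) :=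
      Subgroup.comap_normalizer_eq_of_surjective Wb hπ
    have hPK : (P : Subgroup G) ≤
        Subgroup.normalizer ((Wb.comap (QuotientGroup.mk' O) : Subgroup G) : Set G) := by
      rw [← hcomap]
      intro x hx
      show QuotientGroup.mk' O x ∈ Subgroup.normalizer (Wb : Set (G ⧸ O))
      rw [hWb]
      apply hW.normalizer_le (G ⧸ O) _
      apply Subgroup.le_normalizer
      rw [Sylow.coe_mapSurjective]
      exact Subgroup.mem_map_of_mem (QuotientGroup.mk' O) hx
    have hKnpc : Cfsg.HasNormalPComplement p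
        ↥(Subgroup.normalizer ((Wb.comap (QuotientGroup.mk' O) : Subgroup G) : Set G)) := by
      by_cases hKtop :
          Subgroup.normalizer ((Wb.comap (QuotientGroup.mk' O) : Subgroup G) : Set G) = ⊤
      · exfalso
        haveI hKn : (Wb.comap (QuotientGroup.mk' O)).Normal :=
          Subgroup.normalizer_eq_top_iff.mp hKtop
        have hKP : Wb.comap (QuotientGroup.mk' O) ≤ (P : Subgroup G) := by
          have := Subgroup.comap_mono (f := QuotientGroup.mk' O) hWble
          rw [Subgroup.comap_map_eq, hkerπ, sup_of_le_left hOP] at this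
          exact this
        have hKO' : Wb.comap (QuotientGroup.mk' O) ≤ Cfsg.pCore p G :=
          le_sSup (show _ ∈ {N : Subgroup G | N.Normal ∧ IsPGroup p N} from
            ⟨hKn, P.2.to_le hKP⟩)
        have hKO : Wb.comap (QuotientGroup.mk' O) ≤ O := le_of_le_of_eq hKO' hOdef.symm
        have hWb1 : Wb = ⊥ := by
          rw [← Subgroup.map_comap_eq_self_of_surjective hπ Wb, eq_bot_iff]
          rintro _ ⟨x, hx, rfl⟩
          rw [Subgroup.mem_bot]
          exact (QuotientGroup.eq_one_iff x).mpr (hKO hx)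
        have hPb1 : ((P.mapSurjective hπ : Sylow p (G ⧸ O)) : Subgroup (G ⧸ O)) = ⊥ := by
          by_contra hne
          exact hW.ne_bot (G ⧸ O) _ (P.mapSurjective hπ).2 hne (hWb ▸ hWb1)
        have hPO : (P : Subgroup G) ≤ O := by
          intro x hx
          have : QuotientGroup.mk' O x ∈
              ((P.mapSurjective hπ : Sylow p (G ⧸ O)) : Subgroup (G ⧸ O)) := by
            rw [Sylow.coe_mapSurjective]; exact Subgroup.mem_map_of_mem (QuotientGroup.mk' O) hx
          rw [hPb1, Subgroup.mem_bot] at this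
          exact (QuotientGroup.eq_one_iff x).mp this
        have hPeq : (P : Subgroup G) = O := le_antisymm hPO hOP
        apply hWn
        rw [eq_top_iff]
        have : Subgroup.normalizer ((P : Subgroup G) : Set G) = ⊤ := by
          rw [hPeq]; exact Subgroup.normalizer_eq_top O
        rw [← this]
        exact hW.normalizer_le G _
      · exact step0 P _ hPK hKtop
    refine npc_of_surjective p (((QuotientGroup.mk' O).comp (Subgroup.normalizer
        ((Wb.comap (QuotientGroup.mk' O) : Subgroup G) : Set G)).subtype).codRestrict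
        (Subgroup.normalizer (Wb : Set (G ⧸ O))) (fun x => ?_)) ?_ hKnpc
    · have : (x : G) ∈ (Subgroup.normalizer (Wb : Set (G ⧸ O))).comap (QuotientGroup.mk' O) := by
        rw [hcomap]; exact x.2
      exact this
    · intro y
      obtain ⟨x, hx⟩ := hπ (y : G ⧸ O)
      have hxn : x ∈ Subgroup.normalizer
          ((Wb.comap (QuotientGroup.mk' O) : Subgroup G) : Set G) := by
        rw [← hcomap, Subgroup.mem_comap, hx]; exact y.2
      exact ⟨⟨x, hxn⟩, Subtype.ext hx⟩
  -- Step 5: the preimage of the normal p-complement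
  obtain ⟨Nb, hNbn, hNbcop, k, hNbk⟩ := (npc_iff p).mp hquot
  obtain ⟨K₁, hK₁⟩ : ∃ K₁ : Subgroup G, K₁ = Nb.comap (QuotientGroup.mk' O) := ⟨_, rfl⟩
  haveI hK₁n : K₁.Normal := by rw [hK₁]; infer_instance
  have hmemK : ∀ x : G, x ∈ K₁ ↔ QuotientGroup.mk' O x ∈ Nb := by
    intro x; rw [hK₁]; rfl
  have hOK : O ≤ K₁ := by
    intro x hx
    rw [hmemK, QuotientGroup.mk'_apply, (QuotientGroup.eq_one_iff x).mpr hx]
    exact one_mem _
  have hK₁idx : K₁.index = p ^ k := by
    rw [hK₁, Subgroup.index_comap_of_surjective Nb hπ]; exact hNbk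
  have hKm : ∀ x ∈ K₁, x ^ Nat.card ↥Nb ∈ O := by
    intro x hx
    have h1 : (⟨QuotientGroup.mk' O x, (hmemK x).mp hx⟩ : ↥Nb) ^ Nat.card ↥Nb = 1 :=
      pow_card_eq_one'
    have h2 := congrArg Subtype.val h1
    rw [Subgroup.coe_pow] at h2
    rw [← QuotientGroup.eq_one_iff, QuotientGroup.mk_pow]
    exact h2
  have hk : ∀ g : G, g ^ p ^ k ∈ K₁ := by
    intro g
    have h2 : (g : G ⧸ K₁) ^ (p ^ k) = 1 := by
      rw [← hK₁idx, Subgroup.index_eq_card]; exact pow_card_eq_one'
    rw [← QuotientGroup.eq_one_iff, QuotientGroup.mk_pow]; exact h2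
  have hKmap : K₁.map (QuotientGroup.mk' O) = Nb := by
    rw [hK₁]; exact Subgroup.map_comap_eq_self_of_surjective hπ Nb
  -- Step 6: O_{p'}(G) = 1
  have hD : Cfsg.pPrimeCore p G = ⊥ := by
    by_contra hD1
    haveI hDn : (Cfsg.pPrimeCore p G).Normal := Subgroup.sSup_normal _ (fun _ h => h.1)
    have hDc : (Nat.card (Cfsg.pPrimeCore p G)).Coprime p := Cfsg.Agent.S0667.pPrimeCore_coprime' p
    have hπD : Function.Surjective (QuotientGroup.mk' (Cfsg.pPrimeCore p G)) :=
      QuotientGroup.mk'_surjective _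
    have hltD : Nat.card (G ⧸ Cfsg.pPrimeCore p G) < n := by
      rw [← hcard, Subgroup.card_eq_card_quotient_mul_card_subgroup (Cfsg.pPrimeCore p G)]
      have h1 : 1 < Nat.card (Cfsg.pPrimeCore p G) :=
        (Subgroup.one_lt_card_iff_ne_bot _).mpr hD1
      have h0 : 0 < Nat.card (G ⧸ Cfsg.pPrimeCore p G) := Nat.card_pos
      nlinarith
    have hdisj : (QuotientGroup.mk' (Cfsg.pPrimeCore p G)).ker ⊓ (P : Subgroup G) = ⊥ := by
      rw [QuotientGroup.ker_mk']
      obtain ⟨e, he⟩ := P.2.exists_card_eq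
      exact disjoint_iff.mp (Subgroup.disjoint_of_coprime_natCard (by
        rw [he]; exact Nat.Coprime.pow_right e hDc))
    have hquotD : Cfsg.HasNormalPComplement p (G ⧸ Cfsg.pPrimeCore p G) := by
      apply ih _ hltD (G ⧸ Cfsg.pPrimeCore p G) rfl (P.mapSurjective hπD)
      rw [Sylow.coe_mapSurjective,
        ← hW.map G (G ⧸ Cfsg.pPrimeCore p G) (QuotientGroup.mk' _) (P : Subgroup G) hdisj]
      have hle := normalizer_map_le (Cfsg.pPrimeCore p G) hDc (W G (P : Subgroup G))
        (P.2.to_le (hW.le G _))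
      refine npc_of_surjective p (((QuotientGroup.mk' (Cfsg.pPrimeCore p G)).comp
        (Subgroup.normalizer (W G (P : Subgroup G) : Set G)).subtype).codRestrict
        (Subgroup.normalizer (((W G (P : Subgroup G)).map (QuotientGroup.mk' (Cfsg.pPrimeCore p G)) :
          Subgroup (G ⧸ Cfsg.pPrimeCore p G)) : Set (G ⧸ Cfsg.pPrimeCore p G)))
        (fun x => ?_)) ?_ hN
      · exact Subgroup.le_normalizer_map (QuotientGroup.mk' (Cfsg.pPrimeCore p G)) ⟨x, x.2, rfl⟩
      · intro y
        obtain ⟨x, hx, hxy⟩ := hle y.2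
        exact ⟨⟨x, hx⟩, Subtype.ext hxy⟩
    obtain ⟨Lb, hLbn, hLbcop, k', hLbk⟩ := (npc_iff p).mp hquotD
    apply hG
    rw [npc_iff]
    refine ⟨Lb.comap (QuotientGroup.mk' (Cfsg.pPrimeCore p G)), inferInstance, ?_, k', ?_⟩
    · apply coprime_card_of_pow p _ (Nat.card ↥Lb * Nat.card (Cfsg.pPrimeCore p G))
        (Nat.Coprime.mul_left hLbcop hDc)
      intro x hx
      have h1 : x ^ Nat.card ↥Lb ∈ Cfsg.pPrimeCore p G := by
        have h3 : (⟨QuotientGroup.mk' (Cfsg.pPrimeCore p G) x, hx⟩ : ↥Lb) ^ Nat.card ↥Lb = 1 :=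
          pow_card_eq_one'
        have h2 := congrArg Subtype.val h3
        rw [Subgroup.coe_pow] at h2
        rw [← QuotientGroup.eq_one_iff, QuotientGroup.mk_pow]
        exact h2
      rw [pow_mul]
      have h4 : (⟨x ^ Nat.card ↥Lb, h1⟩ : ↥(Cfsg.pPrimeCore p G)) ^
          Nat.card ↥(Cfsg.pPrimeCore p G) = 1 := pow_card_eq_one'
      exact congrArg Subtype.val h4
    · rw [Subgroup.index_comap_of_surjective Lb hπD]; exact hLbk
  -- Step 7: C_G(O) ≤ O
  have hcent : Subgroup.centralizer (O : Set G) ≤ O := by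
    have hps : Cfsg.IsPSolvable p G := by
      obtain ⟨e, he⟩ := hOp.exists_card_eq
      refine ⟨3, ![⊥, O, K₁, ⊤], rfl, rfl, ?_, ?_, ?_⟩
      · apply Fin.monotone_iff_le_succ.mpr
        intro i
        fin_cases i
        · show (⊥ : Subgroup G) ≤ O
          exact bot_le
        · show O ≤ K₁
          exact hOK
        · show K₁ ≤ (⊤ : Subgroup G)
          exact le_top
      · intro i
        fin_cases i
        · show (⊥ : Subgroup G).Normal
          infer_instance
        · exact hOn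
        · exact hK₁n
        · show (⊤ : Subgroup G).Normal
          infer_instance
      · intro i
        fin_cases i
        · left
          refine ⟨e, ?_⟩
          show (⊥ : Subgroup G).relIndex O = p ^ e
          rw [Subgroup.relIndex_bot_left]; exact he
        · right
          show (O.relIndex K₁).Coprime p
          have h1 : ((⊥ : Subgroup (G ⧸ O)).comap (QuotientGroup.mk' O)).relIndex K₁ =
              (⊥ : Subgroup (G ⧸ O)).relIndex (K₁.map (QuotientGroup.mk' O)) :=
            Subgroup.relIndex_comap (⊥ : Subgroup (G ⧸ O)) (QuotientGroup.mk' O) K₁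
          have h2 : (⊥ : Subgroup (G ⧸ O)).comap (QuotientGroup.mk' O) = O := by
            rw [MonoidHom.comap_bot]; exact hkerπ
          rw [h2, hKmap, Subgroup.relIndex_bot_left] at h1
          rw [h1]; exact hNbcop
        · left
          refine ⟨k, ?_⟩
          show K₁.relIndex (⊤ : Subgroup G) = p ^ k
          rw [Subgroup.relIndex_top_right]; exact hK₁idx
    have := Cfsg.Agent.Helper13.centralizer_pCore_le_of_isPSolvable hps hD
    rw [← hOdef] at this
    exact this
  -- Step 8a: P-invariant subgroups between O and K₁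
  have step8a : ∀ L : Subgroup G, O ≤ L → L ≤ K₁ →
      (P : Subgroup G) ≤ Subgroup.normalizer (L : Set G) → L = O ∨ L = K₁ := by
    intro L hOL hLK hPL
    by_cases hM : L ⊔ (P : Subgroup G) = ⊤
    · right
      haveI hLn : L.Normal := by
        rw [← Subgroup.normalizer_eq_top_iff, eq_top_iff, ← hM]
        exact sup_le Subgroup.le_normalizer hPL
      have hidx : ∃ j, L.index = p ^ j := by
        have h1 : L.index = L.relIndex (P : Subgroup G) := by
          rw [← Subgroup.relIndex_top_right, ← hM, Subgroup.relIndex_sup_left]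
        have h2 : L.relIndex (P : Subgroup G) ∣ Nat.card (P : Subgroup G) :=
          Subgroup.relIndex_dvd_card _ _
        obtain ⟨e, he⟩ := P.2.exists_card_eq
        rw [he, ← h1] at h2
        obtain ⟨j, -, hj⟩ := (Nat.dvd_prime_pow Fact.out).mp h2
        exact ⟨j, hj⟩
      obtain ⟨j, hj⟩ := hidx
      apply le_antisymm hLK
      intro x hx
      obtain ⟨a, c, ha, hc, hxac, ⟨i, hai⟩, hccop⟩ := Cfsg.Agent.S0667.exists_p_decomp p x
      have haK : a ∈ K₁ := (Subgroup.zpowers_le.mpr hx) ha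
      have haO : a ∈ O := mem_of_pow_mem_coprime p O a _ hNbcop (hKm a haK) i hai
      have hcL : c ∈ L := Cfsg.Agent.S0072.mem_of_coprime_pow p L j hj c (orderOf c) hccop
        (pow_orderOf_eq_one c)
      rw [hxac]; exact mul_mem (hOL haO) hcL
    · left
      have hnpc := step0 P (L ⊔ (P : Subgroup G)) le_sup_right hM
      obtain ⟨Y, hYn, hYcop, j, hYj⟩ := (npc_iff p).mp hnpc
      apply le_antisymm _ hOL
      intro x hx
      obtain ⟨a, c, ha, hc, hxac, ⟨i, hai⟩, hccop⟩ := Cfsg.Agent.S0667.exists_p_decomp p x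
      have haL : a ∈ L := (Subgroup.zpowers_le.mpr hx) ha
      have hcL : c ∈ L := (Subgroup.zpowers_le.mpr hx) hc
      have haO : a ∈ O := mem_of_pow_mem_coprime p O a _ hNbcop (hKm a (hLK haL)) i hai
      have hcM : c ∈ L ⊔ (P : Subgroup G) := le_sup_left (α := Subgroup G) hcL
      have hcY : (⟨c, hcM⟩ : ↥(L ⊔ (P : Subgroup G))) ∈ Y :=
        Cfsg.Agent.S0072.mem_of_coprime_pow p Y j hYj ⟨c, hcM⟩ (orderOf c) hccop
          (Subtype.ext (by rw [Subgroup.coe_pow]; exact pow_orderOf_eq_one c))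
      have hYO : ∀ y : ↥(L ⊔ (P : Subgroup G)), y ∈ Y →
          (y : G) ∈ Subgroup.centralizer (O : Set G) := by
        intro y hy
        rw [Subgroup.mem_centralizer_iff]
        intro o ho
        have hoM : o ∈ L ⊔ (P : Subgroup G) := le_sup_left (α := Subgroup G) (hOL ho)
        have h1 : o * (y : G) * o⁻¹ * (y : G)⁻¹ ∈ O := by
          have h5 := hOn.conj_mem o⁻¹ (inv_mem ho) (y : G)
          have e : o * (y : G) * o⁻¹ * (y : G)⁻¹ = o * ((y : G) * o⁻¹ * (y : G)⁻¹) := by group
          rw [e]; exact mul_mem ho h5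
        have h2 : (⟨o, hoM⟩ : ↥(L ⊔ (P : Subgroup G))) * y *
            (⟨o, hoM⟩ : ↥(L ⊔ (P : Subgroup G)))⁻¹ * y⁻¹ ∈ Y :=
          mul_mem (hYn.conj_mem y hy _) (inv_mem hy)
        obtain ⟨e, he⟩ := hOp ⟨_, h1⟩
        have he' : (o * (y : G) * o⁻¹ * (y : G)⁻¹) ^ p ^ e = 1 := congrArg Subtype.val he
        have h3 : (o * (y : G) * o⁻¹ * (y : G)⁻¹) ^ Nat.card ↥Y = 1 := by
          have h6 : (⟨_, h2⟩ : ↥Y) ^ Nat.card ↥Y = 1 := pow_card_eq_one'
          have h4 := congrArg (fun z : ↥Y => ((z : ↥(L ⊔ (P : Subgroup G))) : G)) h6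
          exact h4
        have ho : orderOf (o * (y : G) * o⁻¹ * (y : G)⁻¹) ∣ Nat.gcd (Nat.card ↥Y) (p ^ e) :=
          Nat.dvd_gcd (orderOf_dvd_of_pow_eq_one h3) (orderOf_dvd_of_pow_eq_one he')
        rw [Nat.Coprime.gcd_eq_one (Nat.Coprime.pow_right e hYcop)] at ho
        have h5 : o * (y : G) * o⁻¹ * (y : G)⁻¹ = 1 := orderOf_eq_one_iff.mp (Nat.dvd_one.mp ho)
        calc o * (y : G) = (o * (y : G) * o⁻¹ * (y : G)⁻¹) * ((y : G) * o) := by group
          _ = (y : G) * o := by rw [h5, one_mul]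
      have hcO : c ∈ O := hcent (hYO ⟨c, hcM⟩ hcY)
      rw [hxac]; exact mul_mem haO hcO
  -- Step 8b: K₁ / O is abelian
  have hab : ∀ x ∈ K₁, ∀ y ∈ K₁, x * y * x⁻¹ * y⁻¹ ∈ O := by
    by_cases hNb1 : Nb = ⊥
    · intro x hx y hy
      have hKO : K₁ ≤ O := by
        intro z hz
        have := (hmemK z).mp hz
        rw [hNb1, Subgroup.mem_bot] at this
        exact (QuotientGroup.eq_one_iff z).mp this
      exact mul_mem (mul_mem (mul_mem (hKO hx) (hKO hy)) (inv_mem (hKO hx))) (inv_mem (hKO hy))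
    have hcomapL : ∀ U : Subgroup (G ⧸ O), U ≤ Nb →
        (QuotientGroup.mk' O '' ((P : Subgroup G) : Set G)) ⊆ Subgroup.normalizer (U : Set (G ⧸ O)) →
        U = ⊥ ∨ U = Nb := by
      intro U hU hPU
      have h1 := step8a (U.comap (QuotientGroup.mk' O))
        (fun x hx => by
              show QuotientGroup.mk' O x ∈ U
              rw [QuotientGroup.mk'_apply, (QuotientGroup.eq_one_iff x).mpr hx]
              exact one_mem U)
        (by rw [hK₁]; exact Subgroup.comap_mono hU)
        (by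
          rw [← Subgroup.comap_normalizer_eq_of_surjective U hπ]
          intro x hx
          exact hPU ⟨x, hx, rfl⟩)
      rcases h1 with h | h
      · left
        rw [← Subgroup.map_comap_eq_self_of_surjective hπ U, h, eq_bot_iff]
        rintro _ ⟨x, hx, rfl⟩
        rw [Subgroup.mem_bot]
        exact (QuotientGroup.eq_one_iff x).mpr hx
      · right
        rw [← Subgroup.map_comap_eq_self_of_surjective hπ U, h, hKmap]
    -- a prime q dividing |Nb|
    obtain ⟨q, hq, hqd⟩ := Nat.exists_prime_and_dvd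
      (show Nat.card ↥Nb ≠ 1 from fun h => hNb1 (Subgroup.card_eq_one.mp h))
    haveI := Fact.mk hq
    obtain ⟨Qb⟩ : Nonempty (Sylow q ↥Nb) := inferInstance
    have hfr := Sylow.normalizer_sup_eq_top Qb
    obtain ⟨Q', hQ'⟩ : ∃ Q' : Subgroup (G ⧸ O), Q' = (Qb : Subgroup ↥Nb).map Nb.subtype :=
      ⟨_, rfl⟩
    rw [← hQ'] at hfr
    have hQ'Nb : Q' ≤ Nb := by rw [hQ']; exact Subgroup.map_subtype_le _
    have hQ'q : IsPGroup q Q' := by rw [hQ']; exact Qb.2.map _
    have hQ'card : 1 < Nat.card Q' := by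
      rw [hQ', Subgroup.card_map_of_injective (Subgroup.subtype_injective _),
        Qb.card_eq_multiplicity]
      have hpos : 0 < (Nat.card ↥Nb).factorization q :=
        Nat.Prime.factorization_pos_of_dvd hq Nat.card_pos.ne' hqd
      exact Nat.one_lt_pow hpos.ne' hq.one_lt
    -- the Sylow p-subgroup of G ⧸ O
    have hPbdvd : Nat.card ((P.mapSurjective hπ : Sylow p (G ⧸ O)) : Subgroup (G ⧸ O)) ∣
        Nat.card ↥(Subgroup.normalizer (Q' : Set (G ⧸ O))) := by
      have h1 := Cfsg.Agent.S0667.card_sup_dvd_mul' (Subgroup.normalizer (Q' : Set (G ⧸ O))) Nb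
      rw [hfr, Subgroup.card_top] at h1
      have h2 : Nat.card ((P.mapSurjective hπ : Sylow p (G ⧸ O)) : Subgroup (G ⧸ O)) ∣
          Nat.card ↥(Subgroup.normalizer (Q' : Set (G ⧸ O))) * Nat.card ↥Nb :=
        (Subgroup.card_subgroup_dvd_card _).trans h1
      obtain ⟨e, he⟩ := (P.mapSurjective hπ).2.exists_card_eq
      have hc : (Nat.card ((P.mapSurjective hπ : Sylow p (G ⧸ O)) : Subgroup (G ⧸ O))).Coprime
          (Nat.card ↥Nb) := by
        rw [he]; exact (Nat.Coprime.pow_right e hNbcop).symm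
      exact hc.dvd_of_dvd_mul_right h2
    obtain ⟨S⟩ : Nonempty (Sylow p ↥(Subgroup.normalizer (Q' : Set (G ⧸ O)))) := inferInstance
    obtain ⟨S', hS'⟩ : ∃ S' : Subgroup (G ⧸ O), S' =
      (S : Subgroup ↥(Subgroup.normalizer (Q' : Set (G ⧸ O)))).map
        (Subgroup.normalizer (Q' : Set (G ⧸ O))).subtype := ⟨_, rfl⟩
    have hS'p : IsPGroup p S' := by rw [hS']; exact S.2.map _
    have hS'N : S' ≤ Subgroup.normalizer (Q' : Set (G ⧸ O)) := by
      rw [hS']; exact Subgroup.map_subtype_le _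
    have hS'card : Nat.card ((P.mapSurjective hπ : Sylow p (G ⧸ O)) : Subgroup (G ⧸ O)) ≤
        Nat.card S' := by
      rw [hS', Subgroup.card_map_of_injective (Subgroup.subtype_injective _),
        S.card_eq_multiplicity]
      obtain ⟨e, he⟩ := (P.mapSurjective hπ).2.exists_card_eq
      rw [he] at hPbdvd ⊢
      exact Nat.pow_le_pow_right (Fact.out : p.Prime).pos
        ((Nat.Prime.pow_dvd_iff_le_factorization Fact.out Nat.card_pos.ne').mp hPbdvd)
    obtain ⟨h, hh⟩ := Cfsg.Agent.S0072.exists_conj_mem_sylow p S' hS'p (P.mapSurjective hπ)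
    have hmapeq : S'.map (MulAut.conj h).toMonoidHom =
        ((P.mapSurjective hπ : Sylow p (G ⧸ O)) : Subgroup (G ⧸ O)) := by
      apply Subgroup.eq_of_le_of_card_ge
      · rintro _ ⟨s, hs, rfl⟩
        exact hh s hs
      · rw [Subgroup.card_map_of_injective (MulAut.conj h).injective]
        exact hS'card
    obtain ⟨Q'', hQ''⟩ : ∃ Q'' : Subgroup (G ⧸ O), Q'' = Q'.map (MulAut.conj h).toMonoidHom :=
      ⟨_, rfl⟩
    have hQ''Nb : Q'' ≤ Nb := by
      rw [hQ'']
      rintro _ ⟨t, ht, rfl⟩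
      exact hNbn.conj_mem t (hQ'Nb ht) h
    have hQ''q : IsPGroup q Q'' := by rw [hQ'']; exact hQ'q.map _
    have hQ''1 : Q'' ≠ ⊥ := by
      intro hbot
      have : Nat.card Q'' = Nat.card Q' := by
        rw [hQ'', Subgroup.card_map_of_injective (MulAut.conj h).injective]
      rw [hbot, Subgroup.card_bot] at this
      omega
    have hPQ'' : (QuotientGroup.mk' O '' ((P : Subgroup G) : Set G)) ⊆
        Subgroup.normalizer (Q'' : Set (G ⧸ O)) := by
      rintro _ ⟨x, hx, rfl⟩
      have hxP : QuotientGroup.mk' O x ∈ S'.map (MulAut.conj h).toMonoidHom := by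
        rw [hmapeq, Sylow.coe_mapSurjective]
        exact Subgroup.mem_map_of_mem _ hx
      obtain ⟨s, hs, hsx⟩ := hxP
      have hsN := hS'N hs
      show QuotientGroup.mk' O x ∈ Subgroup.normalizer (Q'' : Set (G ⧸ O))
      rw [← hsx]
      apply Cfsg.Agent.S0650.mem_normalizer_of_conj
      intro z hz
      rw [hQ''] at hz ⊢
      obtain ⟨t, ht, rfl⟩ := hz
      refine ⟨s * t * s⁻¹, (Subgroup.mem_normalizer_iff.mp hsN t).mp ht, ?_⟩
      show h * (s * t * s⁻¹) * h⁻¹ = (h * s * h⁻¹) * (h * t * h⁻¹) * (h * s * h⁻¹)⁻¹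
      group
    have hNbq : IsPGroup q Nb := by
      rcases hcomapL Q'' hQ''Nb hPQ'' with h | h
      · exact absurd h hQ''1
      · rw [← h]; exact hQ''q
    -- the commutator subgroup
    have hcomm : ⁅Nb, Nb⁆ = ⊥ := by
      rcases hcomapL ⁅Nb, Nb⁆ (Subgroup.commutator_le_right Nb Nb) (by
        intro x _
        have : (⁅Nb, Nb⁆ : Subgroup (G ⧸ O)).Normal := inferInstance
        rw [Subgroup.normalizer_eq_top]
        trivial) with h | h
      · exact h
      · exact absurd h (Cfsg.Agent.S0072.commutator_ne_self_of_isPGroup Nb hNbq hNb1)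
    intro x hx y hy
    have h1 : ⁅QuotientGroup.mk' O x, QuotientGroup.mk' O y⁆ ∈ ⁅Nb, Nb⁆ :=
      Subgroup.commutator_mem_commutator ((hmemK x).mp hx) ((hmemK y).mp hy)
    rw [hcomm, Subgroup.mem_bot, commutatorElement_def] at h1
    rw [← QuotientGroup.eq_one_iff]
    have h2 : QuotientGroup.mk' O (x * y * x⁻¹ * y⁻¹) = 1 := by
      rw [map_mul, map_mul, map_mul, map_inv, map_inv]; exact h1
    exact h2
  -- Step 9: p-stability, Step 10: conclusion
  have hst : ∀ (V : Subgroup G) [V.Normal], IsPGroup p V → Cfsg.IsPStableOn p V :=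
    fun V _ hV => pstable_of_structure hp2 K₁ O hOp hab _ hNbcop hKm k hk V hV
  have hcent' : Subgroup.centralizer (Cfsg.pCore p G : Set G) ≤ Cfsg.pCore p G := by
    rw [← hOdef]; exact hcent
  have hWnorm := hW.zj G P hcent' hst
  exact hWn (Subgroup.normalizer_eq_top_iff.mpr hWnorm)

/-- **Glauberman–Thompson**, general form. -/
theorem glauberman_thompson {p : ℕ} [Fact p.Prime] (hp2 : p ≠ 2)
    {W : ∀ (X : Type u) [Group X], Subgroup X → Subgroup X} (hW : GTFunctor p W)
    (G : Type u) [Group G] [Finite G] (P : Sylow p G)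
    (h : Cfsg.HasNormalPComplement p ↥(Subgroup.normalizer (W G (P : Subgroup G) : Set G))) :
    Cfsg.HasNormalPComplement p G :=
  glauberman_thompson_aux hp2 hW _ G rfl P h

end Cfsg.Agent.Helper5
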