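import Mathlib

/-!
The counting endgame for S4016: an abelian group `L` with a subgroup `L0` of index `d ∣ p - 1`,
`d ≠ 1`, of order `≡ 1 (mod p)`, with cyclic quotient `L / L0`, and containing at least `p`
subgroups of order `|L0|` meeting pairwise trivially, has `p = 3`, `|L| = 4`, `|L0| = 2`.
-/

set_option autoImplicit false

namespace Cfsg.Agent.S4016P

/-- arithmetic core of the counting endgame -/
theorem eg_arith {p a d : ℕ} (hp : p.Prime) (ha : 2 ≤ a) (hd : 2 ≤ d) (hdp : d ∣ p - 1)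
    (hmod : (a * d) % p = 1) (hcount : p * (a - 1) + 1 ≤ a * d) : a = p - 1 ∧ d = p - 1 := by
  have hp2 := hp.two_le
  have hdle : d ≤ p - 1 := Nat.le_of_dvd (by omega) hdp
  obtain ⟨e, he⟩ := hdp
  have hpe : p = d * e + 1 := by omega
  have hk : a * d = p * (a * d / p) + 1 := by
    have := Nat.div_add_mod (a * d) p
    omega
  obtain ⟨b, rfl⟩ : ∃ b, a = b + 1 := ⟨a - 1, by omega⟩
  have hb : 1 ≤ b := by omega
  simp only [Nat.add_sub_cancel] at hcount
  generalize (b + 1) * d / p = k at hk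
  have hk1 : b ≤ k := by
    by_contra hlt
    push_neg at hlt
    have : p * (k + 1) ≤ p * b := Nat.mul_le_mul_left p (by omega)
    nlinarith
  have hk2 : k ≤ b := by
    by_contra hgt
    push_neg at hgt
    have h1 : (b + 1) * d ≤ (b + 1) * (p - 1) := Nat.mul_le_mul_left (b + 1) hdle
    have h2 : p * (b + 1) ≤ p * k := Nat.mul_le_mul_left p (by omega)
    have h3 : (b + 1) * (p - 1) + (b + 1) = p * (b + 1) := by
      obtain ⟨r, rfl⟩ : ∃ r, p = r + 1 := ⟨p - 1, by omega⟩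
      simp only [Nat.add_sub_cancel]
      ring
    omega
  have hkeq : k = b := le_antisymm hk2 hk1
  subst hkeq
  have he' : e = 1 := by
    by_contra hne
    have he0 : e ≠ 0 := by
      rintro rfl
      omega
    have he2 : 2 ≤ e := by omega
    have h1 : d * 2 ≤ d * e := Nat.mul_le_mul_left d he2
    have h2 : d * 1 ≤ d * k := Nat.mul_le_mul_left d hb
    have h3 : (d * 2 + 1) * k ≤ p * k := Nat.mul_le_mul_right k (by omega)
    nlinarith
  subst he'
  have hpd : p = d + 1 := by omega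
  subst hpd
  have h4 : (k + 1) * d = k * d + d := by ring
  have h5 : (d + 1) * k = k * d + k := by ring
  constructor <;> omega

/-- subgroups of a common order meeting pairwise trivially: the count, and the covering when the
count is sharp -/
theorem eg_count_le {G ι : Type*} [Group G] [Finite G] [Finite ι] [Nonempty ι] (L : Subgroup G)
    (A : ι → Subgroup G) (hAL : ∀ i, A i ≤ L) (a : ℕ) (hA : ∀ i, Nat.card (A i) = a)
    (hdisj : ∀ i j, i ≠ j → A i ⊓ A j = ⊥) :
    Nat.card ι * (a - 1) + 1 ≤ Nat.card L ∧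
      (Nat.card ι * (a - 1) + 1 = Nat.card L → ∀ x ∈ L, ∃ i, x ∈ A i) := by
  classical
  haveI := Fintype.ofFinite G
  haveI := Fintype.ofFinite ι
  let F : ι → Finset G := fun i => (Finset.univ.filter (fun x => x ∈ A i)).erase 1
  have hF : ∀ i, (F i).card = a - 1 := by
    intro i
    rw [Finset.card_erase_of_mem (by simp [(A i).one_mem]), ← hA i, Nat.card_eq_fintype_card,
      Fintype.card_subtype]
  have hdF : ∀ i ∈ (Finset.univ : Finset ι), ∀ j ∈ (Finset.univ : Finset ι), i ≠ j →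
      Disjoint (F i) (F j) := by
    intro i _ j _ hij
    rw [Finset.disjoint_left]
    intro x hx hx'
    simp only [F, Finset.mem_erase, Finset.mem_filter, Finset.mem_univ, true_and] at hx hx'
    have hmem : x ∈ A i ⊓ A j := ⟨hx.2, hx'.2⟩
    rw [hdisj i j hij, Subgroup.mem_bot] at hmem
    exact hx.1 hmem
  have hcard : (Finset.univ.biUnion F).card = Nat.card ι * (a - 1) := by
    rw [Finset.card_biUnion hdF, Finset.sum_congr rfl (fun i _ => hF i), Finset.sum_const,
      Finset.card_univ, smul_eq_mul, Nat.card_eq_fintype_card]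
  let FL : Finset G := (Finset.univ.filter (fun x => x ∈ L)).erase 1
  have hFL : FL.card = Nat.card L - 1 := by
    rw [Finset.card_erase_of_mem (by simp [L.one_mem]), Nat.card_eq_fintype_card,
      Fintype.card_subtype]
  have hsub : Finset.univ.biUnion F ⊆ FL := by
    intro x hx
    simp only [F, FL, Finset.mem_biUnion, Finset.mem_erase, Finset.mem_filter, Finset.mem_univ,
      true_and] at hx ⊢
    obtain ⟨i, hx1, hxi⟩ := hx
    exact ⟨hx1, hAL i hxi⟩
  have hpos : 0 < Nat.card L := Nat.card_pos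
  have hle := Finset.card_le_card hsub
  rw [hcard, hFL] at hle
  refine ⟨by omega, ?_⟩
  intro heq x hx
  by_cases hx1 : x = 1
  · obtain ⟨i⟩ := ‹Nonempty ι›
    exact ⟨i, hx1 ▸ (A i).one_mem⟩
  · have hEq : Finset.univ.biUnion F = FL :=
      Finset.eq_of_subset_of_card_le hsub (by rw [hcard, hFL]; omega)
    have hxFL : x ∈ FL := by simp [FL, hx1, hx]
    rw [← hEq] at hxFL
    simp only [F, Finset.mem_biUnion, Finset.mem_erase, Finset.mem_filter, Finset.mem_univ,
      true_and] at hxFL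
    obtain ⟨i, _, hxi⟩ := hxFL
    exact ⟨i, hxi⟩

/-- an abelian group partitioned by subgroups: all nonidentity elements have the same order -/
theorem eg_partition_same_order {G ι : Type*} [Group G] (L : Subgroup G)
    (hLab : ∀ x ∈ L, ∀ y ∈ L, x * y = y * x) (A : ι → Subgroup G) (hAL : ∀ i, A i ≤ L)
    (hdisj : ∀ i j, i ≠ j → A i ⊓ A j = ⊥) (hcov : ∀ x ∈ L, ∃ i, x ∈ A i)
    (hnt : ∀ i, ∃ j, j ≠ i ∧ A j ≠ ⊥) :
    ∀ x ∈ L, ∀ y ∈ L, x ≠ 1 → y ≠ 1 → orderOf x = orderOf y := by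
  have key : ∀ i j, i ≠ j → ∀ x ∈ A i, ∀ y ∈ A j, x ≠ 1 → y ^ orderOf x = 1 := by
    intro i j hij x hx y hy hx1
    obtain ⟨k, hk⟩ := hcov (x * y) (L.mul_mem (hAL i hx) (hAL j hy))
    have hkj : k ≠ j := by
      rintro rfl
      have hxk : x ∈ A k := by
        have h1 := (A k).mul_mem hk ((A k).inv_mem hy)
        rwa [mul_inv_cancel_right] at h1
      have h2 : x ∈ A i ⊓ A k := ⟨hx, hxk⟩
      rw [hdisj i k hij, Subgroup.mem_bot] at h2
      exact hx1 h2
    have hpow : (x * y) ^ orderOf x = y ^ orderOf x := by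
      rw [(show Commute x y from hLab x (hAL i hx) y (hAL j hy)).mul_pow, pow_orderOf_eq_one,
        one_mul]
    have h3 : y ^ orderOf x ∈ A k ⊓ A j := ⟨hpow ▸ (A k).pow_mem hk _, (A j).pow_mem hy _⟩
    rw [hdisj k j hkj, Subgroup.mem_bot] at h3
    exact h3
  have key2 : ∀ i j, i ≠ j → ∀ x ∈ A i, ∀ y ∈ A j, x ≠ 1 → y ≠ 1 → orderOf x = orderOf y := by
    intro i j hij x hx y hy hx1 hy1
    apply Nat.dvd_antisymm
    · exact orderOf_dvd_of_pow_eq_one (key j i hij.symm y hy x hx hy1)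
    · exact orderOf_dvd_of_pow_eq_one (key i j hij x hx y hy hx1)
  intro x hx y hy hx1 hy1
  obtain ⟨i, hxi⟩ := hcov x hx
  obtain ⟨j, hyj⟩ := hcov y hy
  by_cases hij : i = j
  · subst hij
    obtain ⟨j, hji, hAj⟩ := hnt i
    obtain ⟨w, hw, hw1⟩ : ∃ w ∈ A j, w ≠ 1 := by
      by_contra hcon
      push_neg at hcon
      exact hAj ((Subgroup.eq_bot_iff_forall _).mpr hcon)
    rw [key2 i j hji.symm x hxi w hw hx1 hw1, key2 i j hji.symm y hyj w hw hy1 hw1]
  · exact key2 i j hij x hxi y hyj hx1 hy1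

/-- the counting endgame, with the cyclic quotient given by a generator modulo `L0` -/
theorem endgame_count_core {G ι : Type*} [Group G] [Finite G] [Finite ι]
    {p : ℕ} (hp : p.Prime) (L L0 : Subgroup G)
    (hLab : ∀ x ∈ L, ∀ y ∈ L, x * y = y * x) (hle : L0 ≤ L) (hL0 : L0 ≠ ⊥)
    (d : ℕ) (hLd : Nat.card L = Nat.card L0 * d) (hd1 : d ≠ 1) (hdp : d ∣ p - 1)
    (hmod : Nat.card L % p = 1)
    (hcyc : ∃ g ∈ L, ∀ x ∈ L, ∃ h ∈ Subgroup.zpowers g, x * h ∈ L0)
    (A : ι → Subgroup G) (hι : p ≤ Nat.card ι) (hAL : ∀ i, A i ≤ L)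
    (hA : ∀ i, Nat.card (A i) = Nat.card L0)
    (hdisj : ∀ i j, i ≠ j → A i ⊓ A j = ⊥) :
    p = 3 ∧ Nat.card L = 4 ∧ Nat.card L0 = 2 := by
  have hp2 := hp.two_le
  have hLpos : 0 < Nat.card L := Nat.card_pos
  generalize ha_def : Nat.card L0 = a at hLd hA
  have ha2 : 2 ≤ a := by
    have h1 : a ≠ 1 := fun h => hL0 (Subgroup.eq_bot_of_card_eq L0 (ha_def.trans h))
    have h0 : 0 < a := ha_def ▸ Nat.card_pos
    omega
  have hd0 : d ≠ 0 := by
    rintro rfl
    rw [Nat.mul_zero] at hLd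
    omega
  have hd2 : 2 ≤ d := by omega
  haveI : Nonempty ι := by
    by_contra h
    rw [not_nonempty_iff] at h
    have h0 : Nat.card ι = 0 := Nat.card_of_isEmpty
    omega
  obtain ⟨hcnt, hcov⟩ := eg_count_le L A hAL a hA hdisj
  have hιmul := Nat.mul_le_mul_right (a - 1) hι
  have hcount : p * (a - 1) + 1 ≤ a * d := by omega
  obtain ⟨hap, hdp'⟩ := eg_arith hp ha2 hd2 hdp (by rw [← hLd]; exact hmod) hcount
  have had : a = d := hap.trans hdp'.symm
  have h2 : a * d = p * (a - 1) + 1 := by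
    obtain ⟨r, rfl⟩ : ∃ r, p = r + 2 := ⟨p - 2, by omega⟩
    have hr : a = r + 1 := by omega
    subst hr
    subst had
    simp only [Nat.add_sub_cancel]
    ring
  have hιeq : Nat.card ι * (a - 1) + 1 = Nat.card L := by omega
  have hcov' := hcov hιeq
  have hnt : ∀ i, ∃ j, j ≠ i ∧ A j ≠ ⊥ := by
    intro i
    have hex : ∃ j, j ≠ i := by
      by_contra hcon
      push_neg at hcon
      haveI : Subsingleton ι := ⟨fun x y => (hcon x).trans (hcon y).symm⟩
      have h1 : Nat.card ι ≤ 1 := Finite.card_le_one_iff_subsingleton.mpr inferInstance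
      omega
    obtain ⟨j, hj⟩ := hex
    refine ⟨j, hj, ?_⟩
    intro hbot
    have h1 := hA j
    rw [hbot, Subgroup.card_bot] at h1
    omega
  have hsame := eg_partition_same_order L hLab A hAL hdisj hcov' hnt
  obtain ⟨x0, hx0, hx01⟩ : ∃ x ∈ L0, x ≠ 1 := by
    by_contra hcon
    push_neg at hcon
    exact hL0 ((Subgroup.eq_bot_iff_forall _).mpr hcon)
  have hma : orderOf x0 ∣ a := by
    have h1 := orderOf_dvd_natCard (⟨x0, hx0⟩ : L0)
    rwa [Subgroup.orderOf_mk, ha_def] at h1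
  obtain ⟨g, hgL, hg⟩ := hcyc
  have hg1 : g ≠ 1 := by
    rintro rfl
    have hLL0 : L ≤ L0 := by
      intro x hx
      obtain ⟨h, hh, hxh⟩ := hg x hx
      rw [Subgroup.zpowers_one_eq_bot, Subgroup.mem_bot] at hh
      rwa [hh, mul_one] at hxh
    have h1 := Subgroup.card_le_of_le hLL0
    rw [ha_def, hLd] at h1
    have h3 : a * 2 ≤ a * d := Nat.mul_le_mul_left a hd2
    omega
  have hgm : orderOf g = orderOf x0 := hsame g hgL x0 (hle hx0) hg1 hx01
  have hLam : Nat.card L ≤ a * orderOf x0 := by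
    let ψ : L0 × Subgroup.zpowers g → L := fun yh =>
      ⟨(yh.1 : G) * ((yh.2 : G))⁻¹,
        L.mul_mem (hle yh.1.2) (L.inv_mem ((Subgroup.zpowers_le.mpr hgL) yh.2.2))⟩
    have hψ : Function.Surjective ψ := by
      rintro ⟨x, hx⟩
      obtain ⟨h, hh, hxh⟩ := hg x hx
      refine ⟨(⟨x * h, hxh⟩, ⟨h, hh⟩), ?_⟩
      apply Subtype.ext
      show x * h * h⁻¹ = x
      rw [mul_inv_cancel_right]
    have h1 := Nat.card_le_card_of_surjective ψ hψ
    rwa [Nat.card_prod, Nat.card_zpowers, hgm, ha_def] at h1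
  have ham : a = orderOf x0 := by
    have h1 : d ≤ orderOf x0 := by
      rw [hLd] at hLam
      exact Nat.le_of_mul_le_mul_left hLam (by omega)
    have h3 : orderOf x0 ≤ a := Nat.le_of_dvd (by omega) hma
    omega
  have hmprime : (orderOf x0).Prime := by
    by_contra hnp
    obtain ⟨r, hr, hr2, hrlt⟩ := Nat.exists_dvd_of_not_prime2 (by omega) hnp
    have hxr1 : x0 ^ r ≠ 1 := by
      intro h
      have := Nat.le_of_dvd (by omega) (orderOf_dvd_of_pow_eq_one h)
      omega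
    have h1 := hsame (x0 ^ r) (L.pow_mem (hle hx0) r) x0 (hle hx0) hxr1 hx01
    rw [orderOf_pow_of_dvd (by omega) hr] at h1
    have h3 : orderOf x0 / r < orderOf x0 := Nat.div_lt_self (by omega) (by omega)
    omega
  have hp3 : p = 3 := by
    rcases hp.eq_two_or_odd' with h | h
    · subst h
      rw [← ham] at hmprime
      have : a = 1 := by omega
      rw [this] at hmprime
      exact absurd hmprime Nat.not_prime_one
    · have hev : Even (orderOf x0) := by
        rw [← ham, hap]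
        obtain ⟨k, hk⟩ := h
        exact ⟨k, by omega⟩
      have := (Nat.Prime.even_iff hmprime).mp hev
      omega
  subst hp3
  have ha' : a = 2 := by omega
  have hd' : d = 2 := by omega
  subst ha' hd'
  exact ⟨rfl, hLd, rfl⟩

/-- the counting endgame, with the cyclic quotient given by a homomorphism to a cyclic group -/
theorem endgame_count {G ι C : Type*} [Group G] [Finite G] [Finite ι] [Group C] [IsCyclic C]
    {p : ℕ} (hp : p.Prime) (L L0 : Subgroup G)
    (hLab : ∀ x ∈ L, ∀ y ∈ L, x * y = y * x) (hle : L0 ≤ L) (hL0 : L0 ≠ ⊥)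
    (d : ℕ) (hLd : Nat.card L = Nat.card L0 * d) (hd1 : d ≠ 1) (hdp : d ∣ p - 1)
    (hmod : Nat.card L % p = 1)
    (f : ↥L →* C) (hf : ∀ x : ↥L, f x = 1 → (x : G) ∈ L0)
    (A : ι → Subgroup G) (hι : p ≤ Nat.card ι) (hAL : ∀ i, A i ≤ L)
    (hA : ∀ i, Nat.card (A i) = Nat.card L0)
    (hdisj : ∀ i j, i ≠ j → A i ⊓ A j = ⊥) :
    p = 3 ∧ Nat.card L = 4 ∧ Nat.card L0 = 2 := by
  refine endgame_count_core hp L L0 hLab hle hL0 d hLd hd1 hdp hmod ?_ A hι hAL hA hdisj
  obtain ⟨⟨c, g, rfl⟩, hgen⟩ := (inferInstance : IsCyclic f.range).exists_generator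
  refine ⟨g, g.2, ?_⟩
  intro x hx
  have h1 := hgen ⟨f ⟨x, hx⟩, ⟨x, hx⟩, rfl⟩
  obtain ⟨k, hk⟩ := Subgroup.mem_zpowers_iff.mp h1
  have hk' : f g ^ k = f ⟨x, hx⟩ := congrArg Subtype.val hk
  refine ⟨((g : G) ^ k)⁻¹, (Subgroup.zpowers (g : G)).inv_mem (Subgroup.zpow_mem_zpowers _ k), ?_⟩
  have h2 : f (⟨x, hx⟩ * (g ^ k)⁻¹) = 1 := by
    rw [map_mul, map_inv, map_zpow, hk', mul_inv_cancel]
  exact hf _ h2

end Cfsg.Agent.S4016P
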