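import Mathlib
import Cfsg.Prelude
import Cfsg.Agent.Helper9.KleinRec
import Cfsg.Agent.Helper21.S3Conf
import Cfsg.Agent.Helper5.PStabSolv
import Cfsg.Agent.S0650

/-!
# `S₄`-sections from an involution inverting an element acting with order 3 (helper5)

* `s4_quot`: a finite group `H = U·⟨a, y⟩` with `U` a normal four-group on which `y` (of odd
  order, inverted by the involution `a`) acts as a 3-cycle has a quotient isomorphic to `S₄`.
* `s4_of_config`: an involution `a` inverting an element `y` of odd order, both normalizing an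
  elementary abelian 2-subgroup `V` on which `y` acts nontrivially with `y³` acting trivially:
  then `S₄` is involved in the group.
-/

set_option autoImplicit false
set_option linter.style.haveILetI false

namespace Cfsg.Agent.Helper5.S4Sec

open Cfsg

theorem s4_quot {H : Type*} [Group H] [Finite H] (U : Subgroup H) [hUn : U.Normal]
    (w w₁ a y : H) (hw : w ∈ U) (hw₁ : w₁ ∈ U)
    (hU : ∀ u ∈ U, u = 1 ∨ u = w ∨ u = w₁ ∨ u = w * w₁)
    (hww : w * w = 1) (hw₁w₁ : w₁ * w₁ = 1) (hcomm : w * w₁ = w₁ * w)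
    (hw1 : w ≠ 1) (hw₁1 : w₁ ≠ 1) (hne : w ≠ w₁)
    (ha : a * a = 1) (hay : a * y * a⁻¹ = y⁻¹) (hodd : Odd (orderOf y))
    (hyw : y * w * y⁻¹ = w₁) (hyw₁ : y * w₁ * y⁻¹ = w * w₁)
    (haw : a * w * a⁻¹ = w) (haw₁ : a * w₁ * a⁻¹ = w * w₁)
    (hgen : U ⊔ Subgroup.closure {a, y} = ⊤) :
    ∃ (R : Subgroup H) (_ : R.Normal), Nonempty (H ⧸ R ≃* Equiv.Perm (Fin 4)) := by
  classical
  have hU2 : ∀ u ∈ U, u * u = 1 := by
    intro u hu
    rcases hU u hu with rfl | rfl | rfl | rfl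
    · exact one_mul 1
    · exact hww
    · exact hw₁w₁
    · calc w * w₁ * (w * w₁) = w * w₁ * (w₁ * w) := by rw [hcomm]
        _ = w * (w₁ * w₁) * w := by group
        _ = 1 := by rw [hw₁w₁, mul_one, hww]
  have hUc : ∀ u ∈ U, ∀ v ∈ U, u * v = v * u := Cfsg.Agent.Helper21.comm_of_sq_one U hU2
  have yw : y * w = w₁ * y := mul_inv_eq_iff_eq_mul.mp hyw
  have yw₁ : y * w₁ = w * w₁ * y := mul_inv_eq_iff_eq_mul.mp hyw₁
  have aw : a * w = w * a := mul_inv_eq_iff_eq_mul.mp haw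
  have aw₁ : a * w₁ = w * w₁ * a := mul_inv_eq_iff_eq_mul.mp haw₁
  have ainv : a⁻¹ = a := inv_eq_of_mul_eq_one_left ha
  have y3w : y ^ 3 * w = w * y ^ 3 := by
    have h3 : y ^ 3 = y * y * y := by rw [pow_succ, pow_two]
    have e1 : y * y * y * w * (y * y * y)⁻¹ = y * (y * (y * w * y⁻¹) * y⁻¹) * y⁻¹ := by group
    have e2 : y * (w * w₁) * y⁻¹ = (y * w * y⁻¹) * (y * w₁ * y⁻¹) := by group
    have e3 : y ^ 3 * w * (y ^ 3)⁻¹ = w := by
      rw [h3, e1, hyw, hyw₁, e2, hyw, hyw₁, ← mul_assoc, ← hcomm, mul_assoc, hw₁w₁, mul_one]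
    exact mul_inv_eq_iff_eq_mul.mp e3
  have y3w₁ : y ^ 3 * w₁ = w₁ * y ^ 3 := by
    calc y ^ 3 * w₁ = y ^ 3 * (y * w * y⁻¹) := by rw [hyw]
      _ = y * (y ^ 3 * w) * y⁻¹ := by group
      _ = y * (w * y ^ 3) * y⁻¹ := by rw [y3w]
      _ = (y * w * y⁻¹) * y ^ 3 := by group
      _ = w₁ * y ^ 3 := by rw [hyw]
  have hy3U : ∀ u ∈ U, y ^ 3 * u = u * y ^ 3 := by
    intro u hu
    rcases hU u hu with rfl | rfl | rfl | rfl
    · rw [mul_one, one_mul]
    · exact y3w
    · exact y3w₁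
    · rw [← mul_assoc, y3w, mul_assoc, y3w₁, mul_assoc]
  obtain ⟨R, hRdef⟩ : ∃ R : Subgroup H, R = Subgroup.zpowers (y ^ 3) := ⟨_, rfl⟩
  have hRmem : ∀ r ∈ R, ∃ k : ℤ, r = (y ^ 3) ^ k := by
    intro r hr
    rw [hRdef] at hr
    obtain ⟨k, hk⟩ := Subgroup.mem_zpowers_iff.mp hr
    exact ⟨k, hk.symm⟩
  have hy3R : y ^ 3 ∈ R := by rw [hRdef]; exact Subgroup.mem_zpowers _
  have hRw : ∀ r ∈ R, r * w = w * r := by
    intro r hr
    obtain ⟨k, rfl⟩ := hRmem r hr
    exact ((show Commute (y ^ 3) w from y3w).zpow_left k).eq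
  have hRw₁ : ∀ r ∈ R, r * w₁ = w₁ * r := by
    intro r hr
    obtain ⟨k, rfl⟩ := hRmem r hr
    exact ((show Commute (y ^ 3) w₁ from y3w₁).zpow_left k).eq
  have hcop : (orderOf y).Coprime 2 := hodd.coprime_two_right
  have hRU : ∀ u ∈ U, u ∈ R → u = 1 := by
    intro u hu hr
    rw [hRdef] at hr
    have h1 : orderOf u ∣ orderOf (y ^ 3) := orderOf_dvd_of_mem_zpowers hr
    have h2 : orderOf (y ^ 3) ∣ orderOf y := orderOf_pow_dvd 3
    have h3 : orderOf u ∣ 2 := orderOf_dvd_of_pow_eq_one (by rw [pow_two]; exact hU2 u hu)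
    exact orderOf_eq_one_iff.mp (Nat.eq_one_of_dvd_coprimes hcop (h1.trans h2) h3)
  -- normality of `R`
  have hconj : ∀ g : H, (∀ x ∈ R, g * x * g⁻¹ ∈ R) → g ∈ Subgroup.normalizer (R : Set H) :=
    fun g hg => Cfsg.Agent.S0650.mem_normalizer_of_conj R g hg
  have hay3 : a * y ^ 3 * a⁻¹ = (y ^ 3)⁻¹ := by
    rw [← conj_pow, hay, inv_pow]
  have hRn : R.Normal := by
    rw [← Subgroup.normalizer_eq_top_iff, eq_top_iff, ← hgen]
    apply sup_le
    · intro u hu
      apply hconj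
      intro x hx
      obtain ⟨k, rfl⟩ := hRmem x hx
      have hc : Commute u ((y ^ 3) ^ k) :=
        (show Commute u (y ^ 3) from (hy3U u hu).symm).zpow_right k
      rw [hc.eq, mul_inv_cancel_right]
      exact hx
    · apply (Subgroup.closure_le _).mpr
      intro g hg
      rcases hg with rfl | hg
      · apply hconj
        intro x hx
        obtain ⟨k, rfl⟩ := hRmem x hx
        rw [← conj_zpow, hay3, inv_zpow]
        exact R.inv_mem hx
      · rw [Set.mem_singleton_iff] at hg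
        rw [hg]
        apply hconj
        intro x hx
        obtain ⟨k, rfl⟩ := hRmem x hx
        have hc : Commute y ((y ^ 3) ^ k) :=
          ((Commute.refl y).pow_right 3).zpow_right k
        rw [hc.eq, mul_inv_cancel_right]
        exact hx
  -- normal form in `⟨a, y⟩`
  have hazy : ∀ j : ℤ, a * y ^ j = y ^ (-j) * a := by
    intro j
    have h1 : a * y ^ j * a⁻¹ = y ^ (-j) := by
      rw [← conj_zpow, hay, inv_zpow']
    exact mul_inv_eq_iff_eq_mul.mp h1
  have hNF : ∀ d ∈ Subgroup.closure ({a, y} : Set H), ∃ i : ℤ, d = y ^ i ∨ d = y ^ i * a := by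
    intro d hd
    induction hd using Subgroup.closure_induction with
    | mem x hx =>
      rcases hx with rfl | hx
      · exact ⟨0, Or.inr (by rw [zpow_zero, one_mul])⟩
      · rw [Set.mem_singleton_iff] at hx
        exact ⟨1, Or.inl (by rw [zpow_one, hx])⟩
    | one => exact ⟨0, Or.inl (by rw [zpow_zero])⟩
    | mul x z hx hz ihx ihz =>
      obtain ⟨i, hi | hi⟩ := ihx <;> obtain ⟨j, hj | hj⟩ := ihz
      · exact ⟨i + j, Or.inl (by rw [hi, hj, zpow_add])⟩
      · exact ⟨i + j, Or.inr (by rw [hi, hj, zpow_add, mul_assoc])⟩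
      · refine ⟨i + -j, Or.inr ?_⟩
        rw [hi, hj, mul_assoc, hazy, ← mul_assoc, zpow_add]
      · refine ⟨i + -j, Or.inl ?_⟩
        rw [hi, hj, mul_assoc, ← mul_assoc a, hazy, mul_assoc, ha, mul_one, zpow_add]
    | inv x hx ihx =>
      obtain ⟨i, hi | hi⟩ := ihx
      · exact ⟨-i, Or.inl (by rw [hi, zpow_neg])⟩
      · refine ⟨i, Or.inr ?_⟩
        rw [hi, mul_inv_rev, ainv, ← zpow_neg, hazy, neg_neg]
  -- powers of `y` commuting with `w` lie in `R`
  have hAL : ∀ i : ℤ, y ^ i * w = w * y ^ i → y ^ i ∈ R := by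
    intro i hi
    have e3 : y ^ (3 : ℤ) = y ^ 3 := by norm_cast
    have hdec : y ^ i = (y ^ 3) ^ (i / 3) * y ^ (i % 3) := by
      rw [← e3, ← zpow_mul, ← zpow_add, Int.mul_ediv_add_emod]
    have hzR : (y ^ 3) ^ (i / 3) ∈ R := R.zpow_mem hy3R _
    have hzw := hRw _ hzR
    have hrw : y ^ (i % 3) * w = w * y ^ (i % 3) := by
      have h1 : (y ^ 3) ^ (i / 3) * (y ^ (i % 3) * w) = (y ^ 3) ^ (i / 3) * (w * y ^ (i % 3)) := by
        rw [← mul_assoc, ← hdec, hi, hdec, ← mul_assoc, ← mul_assoc, hzw]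
      exact mul_left_cancel h1
    have hr0 : 0 ≤ i % 3 := Int.emod_nonneg i (by norm_num)
    have hr3 : i % 3 < 3 := Int.emod_lt_of_pos i (by norm_num)
    have hcases : i % 3 = 0 ∨ i % 3 = 1 ∨ i % 3 = 2 := by omega
    rcases hcases with h0 | h1 | h2
    · rw [hdec, h0, zpow_zero, mul_one]; exact hzR
    · exfalso
      rw [h1, zpow_one, yw] at hrw
      exact hne (mul_right_cancel hrw).symm
    · exfalso
      rw [h2] at hrw
      have e2 : y ^ (2 : ℤ) = y * y := by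
        have : y ^ (2 : ℤ) = y ^ 2 := by norm_cast
        rw [this, pow_two]
      rw [e2] at hrw
      have h5 : y * y * w = w * w₁ * (y * y) := by
        rw [mul_assoc, yw, ← mul_assoc, yw₁, mul_assoc]
      rw [h5] at hrw
      have h6 : w * w₁ = w := mul_right_cancel hrw
      have h7 : w * w₁ = w * 1 := by rw [mul_one]; exact h6
      exact hw₁1 (mul_left_cancel h7)
  -- the quotient
  haveI := hRn
  obtain ⟨π, hπdef⟩ : ∃ π : H →* H ⧸ R, π = QuotientGroup.mk' R := ⟨_, rfl⟩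
  have hπs : Function.Surjective π := by rw [hπdef]; exact QuotientGroup.mk'_surjective R
  have hπ1 : ∀ g : H, π g = 1 ↔ g ∈ R := by
    intro g; rw [hπdef]; exact QuotientGroup.eq_one_iff g
  have hπeq : ∀ g h : H, π g = π h → g⁻¹ * h ∈ R := by
    intro g h hgh
    rw [← hπ1, map_mul, map_inv, hgh, inv_mul_cancel]
  obtain ⟨Ub, hUb⟩ : ∃ Ub : Subgroup (H ⧸ R), Ub = U.map π := ⟨_, rfl⟩
  haveI hUbn : Ub.Normal := by rw [hUb]; exact hUn.map π hπs
  -- `U` is a four-group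
  have hUset : (U : Set H) = {1, w, w₁, w * w₁} := by
    ext u
    constructor
    · intro hu
      rcases hU u hu with h | h | h | h
      · rw [h]; simp
      · rw [h]; simp
      · rw [h]; simp
      · rw [h]; simp
    · intro hu
      rcases hu with h | h | h | h
      · rw [h]; exact U.one_mem
      · rw [h]; exact hw
      · rw [h]; exact hw₁
      · rw [Set.mem_singleton_iff] at h; rw [h]; exact U.mul_mem hw hw₁
  have hUcard : Nat.card U = 4 := by
    have h1 : Nat.card U = (U : Set H).ncard := rfl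
    rw [h1, hUset]
    have hn3 : w₁ ∉ ({w * w₁} : Set H) := by
      intro h
      rw [Set.mem_singleton_iff] at h
      have h' : 1 * w₁ = w * w₁ := by rw [one_mul]; exact h
      exact hw1 (mul_right_cancel h').symm
    have hn2 : w ∉ ({w₁, w * w₁} : Set H) := by
      intro h
      rcases h with h | h
      · exact hne h
      · rw [Set.mem_singleton_iff] at h
        have h' : w * 1 = w * w₁ := by rw [mul_one]; exact h
        exact hw₁1 (mul_left_cancel h').symm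
    have hn1 : (1 : H) ∉ ({w, w₁, w * w₁} : Set H) := by
      intro h
      rcases h with h | h | h
      · exact hw1 h.symm
      · exact hw₁1 h.symm
      · rw [Set.mem_singleton_iff] at h
        have h' : w * w₁ = w * w := by rw [← h, hww]
        exact hne (mul_left_cancel h').symm
    rw [Set.ncard_insert_of_notMem hn1, Set.ncard_insert_of_notMem hn2,
      Set.ncard_insert_of_notMem hn3, Set.ncard_singleton]
  have hfinj : Function.Injective (π.comp U.subtype) := by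
    rw [injective_iff_map_eq_one]
    intro u hu
    apply Subtype.ext
    exact hRU u.1 u.2 ((hπ1 _).mp hu)
  have hrange : (π.comp U.subtype).range = Ub := by
    rw [hUb, MonoidHom.range_comp, Subgroup.range_subtype]
  let e0 : U ≃* Ub := (MonoidHom.ofInjective hfinj).trans (MulEquiv.subgroupCongr hrange)
  have hUexp : Monoid.exponent U = 2 := by
    have h1 : Monoid.exponent U ∣ 2 := by
      apply Monoid.exponent_dvd_of_forall_pow_eq_one
      intro u
      apply Subtype.ext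
      rw [Subgroup.coe_pow, pow_two]
      exact hU2 u.1 u.2
    rcases (Nat.dvd_prime Nat.prime_two).mp h1 with h | h
    · exfalso
      have := Monoid.exp_eq_one_iff.mp h
      have h2 : (⟨w, hw⟩ : U) = 1 := Subsingleton.elim _ _
      exact hw1 (congrArg Subtype.val h2)
    · exact h
  haveI hK4 : IsKleinFour Ub :=
    ⟨(Nat.card_congr e0.toEquiv).symm.trans hUcard,
      (Monoid.exponent_eq_of_mulEquiv e0).symm.trans hUexp⟩
  -- `Ub` is self-centralizing
  have hcentr : ∀ h : H, π h ∈ Subgroup.centralizer (Ub : Set (H ⧸ R)) →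
      h * w = w * h ∧ h * w₁ = w₁ * h := by
    intro h hh
    rw [Subgroup.mem_centralizer_iff] at hh
    have key : ∀ u ∈ U, h * u = u * h := by
      intro u hu
      have h1 := hh (π u) (by rw [hUb]; exact ⟨u, hu, rfl⟩)
      rw [← map_mul, ← map_mul] at h1
      have h2 := hπeq _ _ h1
      have h3 : (u * h)⁻¹ * (h * u) = h⁻¹ * u⁻¹ * h * u := by group
      have h4 : h⁻¹ * u⁻¹ * h * u ∈ U := by
        have h5 : h⁻¹ * u⁻¹ * h⁻¹⁻¹ ∈ U := hUn.conj_mem _ (U.inv_mem hu) h⁻¹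
        rw [inv_inv] at h5
        exact U.mul_mem h5 hu
      rw [h3] at h2
      have h6 := hRU _ h4 h2
      have h7 : h * u = u * h * (h⁻¹ * u⁻¹ * h * u) := by group
      rw [h7, h6, mul_one]
    exact ⟨key w hw, key w₁ hw₁⟩
  have hC : Subgroup.centralizer (Ub : Set (H ⧸ R)) ≤ Ub := by
    intro n hn
    obtain ⟨h, rfl⟩ := hπs n
    obtain ⟨hhw, hhw₁⟩ := hcentr h hn
    have hmem : h ∈ ((U ⊔ Subgroup.closure {a, y} : Subgroup H) : Set H) := by
      rw [hgen]; exact Set.mem_univ h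
    rw [Subgroup.normal_mul] at hmem
    obtain ⟨u, hu, d, hd, rfl⟩ := Set.mem_mul.mp hmem
    have huU : u ∈ U := hu
    have hdw : d * w = w * d := by
      have h1 : u * (d * w) = u * (w * d) := by
        rw [← mul_assoc, hhw, ← mul_assoc, hUc w hw u huU, mul_assoc]
      exact mul_left_cancel h1
    have hdw₁ : d * w₁ = w₁ * d := by
      have h1 : u * (d * w₁) = u * (w₁ * d) := by
        rw [← mul_assoc, hhw₁, ← mul_assoc, hUc w₁ hw₁ u huU, mul_assoc]
      exact mul_left_cancel h1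
    obtain ⟨i, hi | hi⟩ := hNF d hd
    · have hdR : d ∈ R := by rw [hi]; exact hAL i (by rw [← hi]; exact hdw)
      rw [map_mul, (hπ1 d).mpr hdR, mul_one, hUb]
      exact ⟨u, huU, rfl⟩
    · exfalso
      have h1 : y ^ i * w = w * y ^ i := by
        have h2 : y ^ i * w * a = w * y ^ i * a := by
          rw [mul_assoc, ← aw, ← mul_assoc, ← hi, hdw, hi, mul_assoc]
        exact mul_right_cancel h2
      have hyR := hAL i h1
      have h3 := hRw₁ _ hyR
      have h4 : y ^ i * (w * w₁) * a = y ^ i * w₁ * a := by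
        calc y ^ i * (w * w₁) * a = y ^ i * (w * w₁ * a) := by rw [mul_assoc]
          _ = y ^ i * (a * w₁) := by rw [aw₁]
          _ = (y ^ i * a) * w₁ := by rw [mul_assoc]
          _ = w₁ * (y ^ i * a) := by rw [← hi]; exact hdw₁
          _ = y ^ i * w₁ * a := by rw [← mul_assoc, ← h3]
      have h5 : w * w₁ = w₁ := mul_left_cancel (mul_right_cancel h4)
      have h6 : w * w₁ = 1 * w₁ := by rw [one_mul]; exact h5
      exact hw1 (mul_right_cancel h6)
  -- order considerations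
  have hπy3 : π y ^ 3 = 1 := by rw [← map_pow]; exact (hπ1 _).mpr hy3R
  have hπy1 : π y ≠ 1 := by
    intro h
    have hyR := (hπ1 y).mp h
    have h1 := hRw y hyR
    rw [yw] at h1
    exact hne (mul_right_cancel h1).symm
  haveI : Fact (Nat.Prime 3) := ⟨Nat.prime_three⟩
  have h3 : 3 ∣ Nat.card (H ⧸ R) := by
    have := orderOf_eq_prime hπy3 hπy1
    rw [← this]
    exact orderOf_dvd_natCard _
  have h12 : Nat.card (H ⧸ R) ≠ 12 := by
    intro h
    have hq := Subgroup.card_eq_card_quotient_mul_card_subgroup Ub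
    rw [h, hK4.card_four] at hq
    have hq3 : Nat.card ((H ⧸ R) ⧸ Ub) = 3 := by omega
    have h1 : (QuotientGroup.mk' Ub (π a)) ^ 3 = 1 := by
      rw [← hq3]; exact pow_card_eq_one'
    have h2 : (QuotientGroup.mk' Ub (π a)) ^ 2 = 1 := by
      rw [← map_pow, ← map_pow, pow_two, ha, map_one, map_one]
    have h4 : QuotientGroup.mk' Ub (π a) = 1 := by
      have : (QuotientGroup.mk' Ub (π a)) ^ 3 = (QuotientGroup.mk' Ub (π a)) ^ 2 *
          QuotientGroup.mk' Ub (π a) := pow_succ _ 2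
      rw [h1, h2, one_mul] at this
      exact this.symm
    have h5 : π a ∈ Ub := (QuotientGroup.eq_one_iff _).mp h4
    have h6 : π a ∈ Subgroup.centralizer (Ub : Set (H ⧸ R)) := by
      rw [Subgroup.mem_centralizer_iff]
      intro n hn
      rw [hUb] at hn h5
      obtain ⟨u, hu, rfl⟩ := hn
      obtain ⟨v, hv, hva⟩ := h5
      rw [← hva, ← map_mul, ← map_mul, hUc u hu v hv]
    have h7 := (hcentr a h6).2
    rw [aw₁] at h7
    have h8 : w * w₁ = w₁ := mul_right_cancel h7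
    have h9 : w * w₁ = 1 * w₁ := by rw [one_mul]; exact h8
    exact hw1 (mul_right_cancel h9)
  obtain ⟨e⟩ := Cfsg.Agent.Helper9.klein_recog_S4_h9 Ub hC h3 h12
  exact ⟨R, hRn, ⟨e⟩⟩

/-- An involution `a` inverting `y` of odd order, both normalizing the elementary abelian
`2`-subgroup `V`, with `y³` centralizing `V` but `y` not: then `S₄` is involved. -/
theorem s4_of_config {G : Type*} [Group G] [Finite G] (V : Subgroup G)
    (hV2 : ∀ v ∈ V, v * v = 1) (a y : G)
    (haV : ∀ v ∈ V, a * v * a⁻¹ ∈ V) (hyV : ∀ v ∈ V, y * v * y⁻¹ ∈ V)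
    (ha : a * a = 1) (hay : a * y * a⁻¹ = y⁻¹) (hodd : Odd (orderOf y))
    (hy3 : ∀ v ∈ V, y ^ 3 * v = v * y ^ 3) (hyne : ∃ v ∈ V, y * v ≠ v * y) :
    Cfsg.Involves (Equiv.Perm (Fin 4)) G := by
  classical
  have hVc := Cfsg.Agent.Helper21.comm_of_sq_one V hV2
  have ainv : a⁻¹ = a := inv_eq_of_mul_eq_one_left ha
  have h3 : y ^ 3 = y * y * y := by rw [pow_succ, pow_two]
  -- `y⁻¹ x y = y (y x y⁻¹) y⁻¹` on `V`
  have hyinv : ∀ x ∈ V, y⁻¹ * x * y = y * (y * x * y⁻¹) * y⁻¹ := by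
    intro x hx
    have h1 := hy3 x hx
    rw [h3] at h1
    calc y⁻¹ * x * y = y⁻¹ * (x * (y * y * y)) * y⁻¹ * y⁻¹ := by group
      _ = y⁻¹ * (y * y * y * x) * y⁻¹ * y⁻¹ := by rw [h1]
      _ = y * (y * x * y⁻¹) * y⁻¹ := by group
  have hccc : ∀ x ∈ V, y * (y * (y * x * y⁻¹) * y⁻¹) * y⁻¹ = x := by
    intro x hx
    have h1 := hy3 x hx
    rw [h3] at h1
    calc y * (y * (y * x * y⁻¹) * y⁻¹) * y⁻¹ = (y * y * y * x) * (y * y * y)⁻¹ := by group
      _ = x := by rw [h1, mul_inv_cancel_right]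
  -- conjugation by `a` versus conjugation by `y`
  have hac : ∀ x ∈ V, y * (a * x * a⁻¹) * y⁻¹ = a * (y * (y * x * y⁻¹) * y⁻¹) * a⁻¹ := by
    intro x hx
    have h1 : y = a * y⁻¹ * a⁻¹ := by
      have h0 : (a * y * a⁻¹)⁻¹ = y := by rw [hay, inv_inv]
      have e0 : (a * y * a⁻¹)⁻¹ = a * y⁻¹ * a⁻¹ := by group
      rw [e0] at h0
      exact h0.symm
    calc y * (a * x * a⁻¹) * y⁻¹ = (a * y⁻¹ * a⁻¹) * (a * x * a⁻¹) * (a * y⁻¹ * a⁻¹)⁻¹ := by
          rw [← h1]
      _ = a * (y⁻¹ * x * y) * a⁻¹ := by group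
      _ = a * (y * (y * x * y⁻¹) * y⁻¹) * a⁻¹ := by rw [hyinv x hx]
  -- norm-one elements
  have hNu : ∀ v ∈ V, (v * (y * v * y⁻¹)) * (y * (v * (y * v * y⁻¹)) * y⁻¹) *
      (y * (y * (v * (y * v * y⁻¹)) * y⁻¹) * y⁻¹) = 1 := by
    intro v hv
    have hp := hyV v hv
    have hq := hyV _ hp
    have e1 : y * (v * (y * v * y⁻¹)) * y⁻¹ = (y * v * y⁻¹) * (y * (y * v * y⁻¹) * y⁻¹) := by
      group
    have e2 : y * (y * (v * (y * v * y⁻¹)) * y⁻¹) * y⁻¹ =
        (y * (y * v * y⁻¹) * y⁻¹) * (y * (y * (y * v * y⁻¹) * y⁻¹) * y⁻¹) := by group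
    rw [e2, e1, hccc v hv]
    obtain ⟨p, hpdef⟩ : ∃ p : G, p = y * v * y⁻¹ := ⟨_, rfl⟩
    obtain ⟨q, hqdef⟩ : ∃ q : G, q = y * p * y⁻¹ := ⟨_, rfl⟩
    rw [← hpdef, ← hqdef]
    rw [← hpdef] at hp hq
    rw [← hqdef] at hq
    calc v * p * (p * q) * (q * v) = v * (p * p) * (q * q) * v := by group
      _ = 1 := by rw [hV2 p hp, hV2 q hq, mul_one, mul_one, hV2 v hv]
  -- an `a`-fixed norm-one element
  have hex : ∃ w ∈ V, w ≠ 1 ∧ a * w * a⁻¹ = w ∧
      w * (y * w * y⁻¹) * (y * (y * w * y⁻¹) * y⁻¹) = 1 := by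
    obtain ⟨v, hv, hvy⟩ := hyne
    obtain ⟨u, hudef⟩ : ∃ u : G, u = v * (y * v * y⁻¹) := ⟨_, rfl⟩
    have huV : u ∈ V := by rw [hudef]; exact V.mul_mem hv (hyV v hv)
    have hu1 : u ≠ 1 := by
      intro h
      rw [hudef] at h
      have h1 : v * (y * v * y⁻¹) = v * v := by rw [h, hV2 v hv]
      have h2 : y * v * y⁻¹ = v := mul_left_cancel h1
      exact hvy (mul_inv_eq_iff_eq_mul.mp h2)
    have hNu' : u * (y * u * y⁻¹) * (y * (y * u * y⁻¹) * y⁻¹) = 1 := by
      rw [hudef]; exact hNu v hv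
    by_cases hfix : a * u * a⁻¹ = u
    · exact ⟨u, huV, hu1, hfix, hNu'⟩
    · obtain ⟨u', hu'def⟩ : ∃ u' : G, u' = a * u * a⁻¹ := ⟨_, rfl⟩
      have hu'V : u' ∈ V := by rw [hu'def]; exact haV u huV
      have hcu := hyV u huV
      have hccu := hyV _ hcu
      have hcu' : y * u' * y⁻¹ = a * (y * (y * u * y⁻¹) * y⁻¹) * a⁻¹ := by
        rw [hu'def]; exact hac u huV
      have hccu' : y * (y * u' * y⁻¹) * y⁻¹ = a * (y * u * y⁻¹) * a⁻¹ := by
        rw [hcu', hac _ hccu, hccc u huV]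
      have hNu'' : u' * (y * u' * y⁻¹) * (y * (y * u' * y⁻¹) * y⁻¹) = 1 := by
        rw [hccu', hcu', hu'def]
        have e : a * u * a⁻¹ * (a * (y * (y * u * y⁻¹) * y⁻¹) * a⁻¹) * (a * (y * u * y⁻¹) * a⁻¹) =
            a * (u * (y * (y * u * y⁻¹) * y⁻¹) * (y * u * y⁻¹)) * a⁻¹ := by group
        have e' : u * (y * (y * u * y⁻¹) * y⁻¹) * (y * u * y⁻¹) = 1 := by
          rw [mul_assoc, hVc _ hccu _ hcu, ← mul_assoc]; exact hNu'
        rw [e, e', mul_one, mul_inv_cancel]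
      refine ⟨u * u', V.mul_mem huV hu'V, ?_, ?_, ?_⟩
      · intro h
        have h1 : u * u' = u * u := by rw [h, hV2 u huV]
        have h2 : u' = u := mul_left_cancel h1
        rw [hu'def] at h2
        exact hfix h2
      · have e : a * (u * u') * a⁻¹ = (a * u * a⁻¹) * (a * u' * a⁻¹) := by group
        rw [e, ← hu'def]
        have e2 : a * u' * a⁻¹ = u := by
          rw [hu'def, ainv]
          calc a * (a * u * a) * a = (a * a) * u * (a * a) := by group
            _ = u := by rw [ha, one_mul, mul_one]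
        rw [e2]
        exact hVc _ hu'V _ huV
      · have e1 : y * (u * u') * y⁻¹ = (y * u * y⁻¹) * (y * u' * y⁻¹) := by group
        have e2 : y * ((y * u * y⁻¹) * (y * u' * y⁻¹)) * y⁻¹ =
            (y * (y * u * y⁻¹) * y⁻¹) * (y * (y * u' * y⁻¹) * y⁻¹) := by group
        rw [e1, e2]
        have hcu'V := hyV u' hu'V
        have hccu'V := hyV _ hcu'V
        obtain ⟨p, hp⟩ : ∃ p : G, p = y * u * y⁻¹ := ⟨_, rfl⟩
        obtain ⟨q, hq⟩ : ∃ q : G, q = y * p * y⁻¹ := ⟨_, rfl⟩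
        obtain ⟨p', hp'⟩ : ∃ p' : G, p' = y * u' * y⁻¹ := ⟨_, rfl⟩
        obtain ⟨q', hq'⟩ : ∃ q' : G, q' = y * p' * y⁻¹ := ⟨_, rfl⟩
        have hpV : p ∈ V := by rw [hp]; exact hcu
        have hqV : q ∈ V := by rw [hq, hp]; exact hccu
        have hp'V : p' ∈ V := by rw [hp']; exact hcu'V
        have hN1 : u * p * q = 1 := by rw [hq, hp]; exact hNu'
        have hN2 : u' * p' * q' = 1 := by rw [hq', hp']; exact hNu''
        rw [← hp, ← hp', ← hq, ← hq']
        calc u * u' * (p * p') * (q * q') = u * (u' * p) * (p' * q) * q' := by group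
          _ = u * (p * u') * (q * p') * q' := by rw [hVc u' hu'V p hpV, hVc p' hp'V q hqV]
          _ = u * p * (u' * q) * p' * q' := by group
          _ = u * p * (q * u') * p' * q' := by rw [hVc u' hu'V q hqV]
          _ = (u * p * q) * (u' * p' * q') := by group
          _ = 1 := by rw [hN1, hN2, mul_one]
  obtain ⟨w, hwV, hw1, haw, hNw⟩ := hex
  obtain ⟨w₁, hw₁def⟩ : ∃ w₁ : G, w₁ = y * w * y⁻¹ := ⟨_, rfl⟩
  have hw₁V : w₁ ∈ V := by rw [hw₁def]; exact hyV w hwV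
  have hww := hV2 w hwV
  have hw₁w₁ := hV2 w₁ hw₁V
  have hcomm : w * w₁ = w₁ * w := hVc w hwV w₁ hw₁V
  have hyw : y * w * y⁻¹ = w₁ := hw₁def.symm
  rw [← hw₁def] at hNw
  have hyw₁ : y * w₁ * y⁻¹ = w * w₁ := by
    have h1 : w * w₁ * (y * w₁ * y⁻¹) = w * w₁ * (w * w₁) := by
      rw [hNw, hV2 _ (V.mul_mem hwV hw₁V)]
    exact mul_left_cancel h1
  have hw₁1 : w₁ ≠ 1 := by
    intro h
    rw [hw₁def] at h
    have h1 : y * w * y⁻¹ = y * 1 * y⁻¹ := by rw [h, mul_one, mul_inv_cancel]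
    exact hw1 (mul_left_cancel (mul_right_cancel h1))
  have hne : w ≠ w₁ := by
    intro h
    have h1 : y * w * y⁻¹ = w := by rw [hyw]; exact h.symm
    have h2 : w * w * (y * w * y⁻¹) = 1 := by
      have := hNw
      rw [← h] at this
      exact this
    rw [h1, hww, one_mul] at h2
    exact hw1 h2
  have haw₁ : a * w₁ * a⁻¹ = w * w₁ := by
    have h1 : a * w₁ * a⁻¹ = (a * y * a⁻¹) * (a * w * a⁻¹) * (a * y * a⁻¹)⁻¹ := by
      rw [hw₁def]; group
    rw [h1, hay, haw, inv_inv, hyinv w hwV, hyw, hyw₁]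
  -- the four-group
  obtain ⟨U₀, hU₀def⟩ : ∃ U₀ : Subgroup G, U₀ = Subgroup.closure {w, w₁} := ⟨_, rfl⟩
  have hwU : w ∈ U₀ := by rw [hU₀def]; exact Subgroup.subset_closure (by simp)
  have hw₁U : w₁ ∈ U₀ := by rw [hU₀def]; exact Subgroup.subset_closure (by simp)
  have hleft : ∀ u : G, (u = 1 ∨ u = w ∨ u = w₁ ∨ u = w * w₁) →
      (w * u = 1 ∨ w * u = w ∨ w * u = w₁ ∨ w * u = w * w₁) ∧
      (w₁ * u = 1 ∨ w₁ * u = w ∨ w₁ * u = w₁ ∨ w₁ * u = w * w₁) := by
    intro u hu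
    rcases hu with rfl | rfl | rfl | rfl
    · exact ⟨Or.inr (Or.inl (mul_one w)), Or.inr (Or.inr (Or.inl (mul_one w₁)))⟩
    · exact ⟨Or.inl hww, Or.inr (Or.inr (Or.inr hcomm.symm))⟩
    · exact ⟨Or.inr (Or.inr (Or.inr rfl)), Or.inl hw₁w₁⟩
    · refine ⟨Or.inr (Or.inr (Or.inl ?_)), Or.inr (Or.inl ?_)⟩
      · rw [← mul_assoc, hww, one_mul]
      · rw [hcomm, ← mul_assoc, hw₁w₁, one_mul]
  have hU₀ : ∀ u ∈ U₀, u = 1 ∨ u = w ∨ u = w₁ ∨ u = w * w₁ := by
    intro u hu
    rw [hU₀def] at hu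
    induction hu using Subgroup.closure_induction with
    | mem x hx =>
      rcases hx with rfl | hx
      · exact Or.inr (Or.inl rfl)
      · rw [Set.mem_singleton_iff] at hx
        exact Or.inr (Or.inr (Or.inl hx))
    | one => exact Or.inl rfl
    | mul x z hx hz ihx ihz =>
      rcases ihx with rfl | rfl | rfl | rfl
      · rw [one_mul]; exact ihz
      · exact (hleft z ihz).1
      · exact (hleft z ihz).2
      · rw [mul_assoc]
        exact (hleft _ (hleft z ihz).2).1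
    | inv x hx ihx =>
      rcases ihx with rfl | rfl | rfl | rfl
      · exact Or.inl inv_one
      · exact Or.inr (Or.inl (inv_eq_of_mul_eq_one_left hww))
      · exact Or.inr (Or.inr (Or.inl (inv_eq_of_mul_eq_one_left hw₁w₁)))
      · refine Or.inr (Or.inr (Or.inr (inv_eq_of_mul_eq_one_left ?_)))
        calc w * w₁ * (w * w₁) = w * w₁ * (w₁ * w) := by rw [hcomm]
          _ = w * (w₁ * w₁) * w := by group
          _ = 1 := by rw [hw₁w₁, mul_one, hww]
  -- the group `K₀`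
  obtain ⟨K₀, hK₀def⟩ : ∃ K₀ : Subgroup G, K₀ = U₀ ⊔ Subgroup.closure {a, y} := ⟨_, rfl⟩
  have hUK : U₀ ≤ K₀ := by rw [hK₀def]; exact le_sup_left
  have haK : a ∈ K₀ := by
    rw [hK₀def]; exact (le_sup_right : _ ≤ U₀ ⊔ _) (Subgroup.subset_closure (by simp))
  have hyK : y ∈ K₀ := by
    rw [hK₀def]; exact (le_sup_right : _ ≤ U₀ ⊔ _) (Subgroup.subset_closure (by simp))
  have hKn : K₀ ≤ Subgroup.normalizer (U₀ : Set G) := by
    rw [hK₀def]
    apply sup_le Subgroup.le_normalizer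
    apply (Subgroup.closure_le _).mpr
    intro g hg
    rcases hg with rfl | hg
    · apply Cfsg.Agent.S0650.mem_normalizer_of_conj
      intro x hx
      rcases hU₀ x hx with rfl | rfl | rfl | rfl
      · rw [mul_one, mul_inv_cancel]; exact U₀.one_mem
      · rw [haw]; exact hwU
      · rw [haw₁]; exact U₀.mul_mem hwU hw₁U
      · have e : g * (w * w₁) * g⁻¹ = (g * w * g⁻¹) * (g * w₁ * g⁻¹) := by group
        rw [e, haw, haw₁, ← mul_assoc, hww, one_mul]; exact hw₁U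
    · rw [Set.mem_singleton_iff] at hg
      rw [hg]
      apply Cfsg.Agent.S0650.mem_normalizer_of_conj
      intro x hx
      rcases hU₀ x hx with rfl | rfl | rfl | rfl
      · rw [mul_one, mul_inv_cancel]; exact U₀.one_mem
      · rw [hyw]; exact hw₁U
      · rw [hyw₁]; exact U₀.mul_mem hwU hw₁U
      · have e : y * (w * w₁) * y⁻¹ = (y * w * y⁻¹) * (y * w₁ * y⁻¹) := by group
        rw [e, hyw, hyw₁, hcomm, ← mul_assoc, hw₁w₁, one_mul]; exact hwU
  haveI hUn : (U₀.subgroupOf K₀).Normal :=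
    (Subgroup.normal_subgroupOf_iff_le_normalizer hUK).mpr hKn
  have hgen : U₀.subgroupOf K₀ ⊔ Subgroup.closure
      ({(⟨a, haK⟩ : ↥K₀), ⟨y, hyK⟩} : Set ↥K₀) = ⊤ := by
    apply Subgroup.map_injective K₀.subtype_injective
    rw [Subgroup.map_sup, Subgroup.map_subgroupOf_eq_of_le hUK, MonoidHom.map_closure,
      Set.image_pair, ← MonoidHom.range_eq_map, Subgroup.range_subtype]
    exact hK₀def.symm
  obtain ⟨R, hRn, ⟨e⟩⟩ := s4_quot (U₀.subgroupOf K₀) (⟨w, hUK hwU⟩ : ↥K₀) ⟨w₁, hUK hw₁U⟩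
    ⟨a, haK⟩ ⟨y, hyK⟩ (Subgroup.mem_subgroupOf.mpr hwU) (Subgroup.mem_subgroupOf.mpr hw₁U)
    (by
      intro u hu
      rcases hU₀ u.1 (Subgroup.mem_subgroupOf.mp hu) with h | h | h | h
      · exact Or.inl (Subtype.ext h)
      · exact Or.inr (Or.inl (Subtype.ext h))
      · exact Or.inr (Or.inr (Or.inl (Subtype.ext h)))
      · exact Or.inr (Or.inr (Or.inr (Subtype.ext h))))
    (Subtype.ext hww) (Subtype.ext hw₁w₁) (Subtype.ext hcomm)
    (fun h => hw1 (congrArg Subtype.val h)) (fun h => hw₁1 (congrArg Subtype.val h))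
    (fun h => hne (congrArg Subtype.val h)) (Subtype.ext ha) (Subtype.ext hay)
    (by rw [Subgroup.orderOf_mk]; exact hodd) (Subtype.ext hyw) (Subtype.ext hyw₁)
    (Subtype.ext haw) (Subtype.ext haw₁) hgen
  haveI := hRn
  obtain ⟨L, hL, hiso⟩ := Cfsg.Agent.Helper5.sec_of_surj K₀
    (e.toMonoidHom.comp (QuotientGroup.mk' R))
    (e.surjective.comp (QuotientGroup.mk'_surjective R))
  exact ⟨K₀, L, hL, hiso⟩

end Cfsg.Agent.Helper5.S4Sec
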