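import Mathlib
import Cfsg.Prelude
import Cfsg.Agent.Helper21.S3Conf
import Cfsg.Agent.Helper5.PStabSolv
import Cfsg.Agent.Helper10.PComp
import Cfsg.Agent.S0650

/-!
# Small offenders on a normal elementary abelian 2-subgroup of a solvable group (helper5)

`exists_s3_pair`: `G` finite solvable, `V ⊴ G` elementary abelian 2-group with
`O₂(G / C_G(V)) = 1`, `A` a subgroup of exponent 2 not centralizing `V` with
`|V| · |C_A(V)| ≤ |A| · |C_V(A)|`.  Then some `a ∈ A` inverts an element `y` of odd order with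
`y³` centralizing `V` but `y` not.  (Faithful model `V ⋊ G/C_G(V)` + `Helper21.s3_config`.)
-/

set_option autoImplicit false
set_option linter.style.haveILetI false

namespace Cfsg.Agent.Helper5.TwoModel

open Cfsg

theorem relIndex_mul_card_of_le {G : Type*} [Group G] {H K : Subgroup G} (h : H ≤ K) :
    H.relIndex K * Nat.card H = Nat.card K := by
  have h1 := Subgroup.index_mul_card (H.subgroupOf K)
  rw [Cfsg.Agent.S0650.card_subgroupOf h] at h1
  exact h1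

theorem relIndex_mul_card_inf {G : Type*} [Group G] (H K : Subgroup G) :
    H.relIndex K * Nat.card (H ⊓ K : Subgroup G) = Nat.card K := by
  rw [← Subgroup.inf_relIndex_right]
  exact relIndex_mul_card_of_le inf_le_right

theorem exists_s3_pair {G : Type*} [Group G] [Finite G] [Group.IsSolvable G]
    (V : Subgroup G) [hVn : V.Normal] (hV2 : ∀ v ∈ V, v * v = 1)
    (hO2 : ∀ N : Subgroup G, N.Normal →
      (∀ n ∈ N, ∃ k : ℕ, n ^ 2 ^ k ∈ Subgroup.centralizer (V : Set G)) →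
      N ≤ Subgroup.centralizer (V : Set G))
    (A : Subgroup G) (hA2 : ∀ a ∈ A, a * a = 1)
    (hAne : ¬ A ≤ Subgroup.centralizer (V : Set G))
    (hoff : Nat.card V * Nat.card (A ⊓ Subgroup.centralizer (V : Set G) : Subgroup G) ≤
      Nat.card A * Nat.card (V ⊓ Subgroup.centralizer (A : Set G) : Subgroup G)) :
    ∃ a ∈ A, ∃ y : G, Odd (orderOf y) ∧ a * y * a⁻¹ = y⁻¹ ∧
      (∀ v ∈ V, y ^ 3 * v = v * y ^ 3) ∧ ∃ v ∈ V, y * v ≠ v * y := by
  classical
  haveI : Fact (Nat.Prime 2) := ⟨Nat.prime_two⟩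
  obtain ⟨C, hCdef⟩ : ∃ C : Subgroup G, C = Subgroup.centralizer (V : Set G) := ⟨_, rfl⟩
  haveI hCn : C.Normal := by rw [hCdef]; infer_instance
  have hCmem : ∀ g : G, g ∈ C ↔ ∀ v ∈ V, g * v = v * g := by
    intro g
    rw [hCdef, Subgroup.mem_centralizer_iff]
    constructor
    · intro h v hv; exact (h v hv).symm
    · intro h v hv; exact (h v hv).symm
  rw [← hCdef] at hO2 hAne hoff
  -- the quotient
  obtain ⟨π, hπdef⟩ : ∃ π : G →* G ⧸ C, π = QuotientGroup.mk' C := ⟨_, rfl⟩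
  have hπs : Function.Surjective π := by rw [hπdef]; exact QuotientGroup.mk'_surjective C
  have hπ1 : ∀ g : G, π g = 1 ↔ g ∈ C := by
    intro g; rw [hπdef]; exact QuotientGroup.eq_one_iff g
  have hπker : π.ker = C := by rw [hπdef]; exact QuotientGroup.ker_mk' C
  -- the action
  have hker : C ≤ (MulAut.conjNormal (H := V)).ker := by
    intro g hg
    rw [MonoidHom.mem_ker]
    ext v
    rw [MulAut.conjNormal_apply, MulAut.one_apply, (hCmem g).mp hg v v.2, mul_inv_cancel_right]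
  obtain ⟨φ, hφ⟩ : ∃ φ : G ⧸ C →* MulAut V,
      ∀ (g : G) (v : V), ((φ (π g)) v : G) = g * v * g⁻¹ := by
    refine ⟨QuotientGroup.lift C MulAut.conjNormal hker, fun g v => ?_⟩
    rw [hπdef]
    show ((QuotientGroup.lift C MulAut.conjNormal hker (QuotientGroup.mk g)) v : G) = _
    rw [QuotientGroup.lift_mk, MulAut.conjNormal_apply]
  have hφinj : ∀ m : G ⧸ C, (∀ v : V, φ m v = v) → m = 1 := by
    intro m hm
    obtain ⟨g, rfl⟩ := hπs m
    rw [hπ1, hCmem]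
    intro v hv
    have h1 := congrArg Subtype.val (hm ⟨v, hv⟩)
    rw [hφ] at h1
    exact mul_inv_eq_iff_eq_mul.mp h1
  -- `O₂(G/C) = 1`
  have hpc : Cfsg.pCore 2 (G ⧸ C) = ⊥ := by
    unfold Cfsg.pCore
    rw [sSup_eq_bot]
    rintro N ⟨hNn, hNp⟩
    haveI := hNn
    have h1 : N.comap π ≤ C := by
      apply hO2 (N.comap π) inferInstance
      intro n hn
      obtain ⟨k, hk⟩ := hNp ⟨π n, hn⟩
      refine ⟨k, ?_⟩
      rw [← hπ1, map_pow]
      have := congrArg Subtype.val hk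
      rw [Subgroup.coe_pow] at this
      exact this
    rw [eq_bot_iff]
    intro x hx
    obtain ⟨g, rfl⟩ := hπs x
    rw [Subgroup.mem_bot, hπ1]
    exact h1 hx
  have hHH := Cfsg.Agent.Helper5.centralizer_pPrimeCore_le
    (Cfsg.Agent.Helper5.isPSolvable_of_isSolvable (G := G ⧸ C) 2) hpc
  obtain ⟨Kp, hKpdef⟩ : ∃ Kp : Subgroup (G ⧸ C), Kp = Cfsg.pPrimeCore 2 (G ⧸ C) := ⟨_, rfl⟩
  rw [← hKpdef] at hHH
  have hKpn : Kp.Normal := by rw [hKpdef]; exact Subgroup.sSup_normal _ (fun _ h => h.1)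
  have hKpc : (Nat.card Kp).Coprime 2 := by
    rw [hKpdef]; exact Cfsg.Agent.Helper10.pPrimeCore_coprime 2 _
  -- the model
  haveI : Finite (V ⋊[φ] (G ⧸ C)) :=
    Finite.of_equiv (V × (G ⧸ C)) SemidirectProduct.equivProd.symm
  obtain ⟨il, hil⟩ : ∃ il : V →* V ⋊[φ] (G ⧸ C), il = SemidirectProduct.inl := ⟨_, rfl⟩
  obtain ⟨ir, hir⟩ : ∃ ir : (G ⧸ C) →* V ⋊[φ] (G ⧸ C), ir = SemidirectProduct.inr := ⟨_, rfl⟩
  have hilinj : Function.Injective il := by rw [hil]; exact SemidirectProduct.inl_injective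
  have hirinj : Function.Injective ir := by rw [hir]; exact SemidirectProduct.inr_injective
  have haut : ∀ (m : G ⧸ C) (v : V), ir m * il v * (ir m)⁻¹ = il (φ m v) := by
    intro m v
    rw [hil, hir, ← map_inv]
    exact (SemidirectProduct.inl_aut m v).symm
  obtain ⟨V', hV'def⟩ : ∃ V' : Subgroup (V ⋊[φ] (G ⧸ C)), V' = il.range := ⟨_, rfl⟩
  obtain ⟨K', hK'def⟩ : ∃ K' : Subgroup (V ⋊[φ] (G ⧸ C)), K' = Kp.map ir := ⟨_, rfl⟩
  obtain ⟨A', hA'def⟩ : ∃ A' : Subgroup (V ⋊[φ] (G ⧸ C)), A' = (A.map π).map ir := ⟨_, rfl⟩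
  haveI hV'n : V'.Normal := by
    rw [hV'def, hil, SemidirectProduct.range_inl_eq_ker_rightHom]
    infer_instance
  have hV2' : ∀ v ∈ V', v * v = 1 := by
    intro v hv
    rw [hV'def] at hv
    obtain ⟨x, rfl⟩ := hv
    rw [← map_mul]
    have : x * x = 1 := Subtype.ext (hV2 x.1 x.2)
    rw [this, map_one]
  have hK : (Nat.card K').Coprime 2 := by
    rw [hK'def, Subgroup.card_map_of_injective hirinj]; exact hKpc
  have hKV : K' ≤ Subgroup.normalizer (V' : Set (V ⋊[φ] (G ⧸ C))) := by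
    rw [Subgroup.normalizer_eq_top]; exact le_top
  have hcentV : ∀ m : G ⧸ C, ir m ∈ Subgroup.centralizer (V' : Set (V ⋊[φ] (G ⧸ C))) →
      m = 1 := by
    intro m hm
    rw [Subgroup.mem_centralizer_iff] at hm
    apply hφinj
    intro v
    have h1 := hm (il v) (by rw [hV'def]; exact ⟨v, rfl⟩)
    have h2 : ir m * il v * (ir m)⁻¹ = il v := by rw [← h1, mul_inv_cancel_right]
    rw [haut] at h2
    exact hilinj h2
  have hKf : K' ⊓ Subgroup.centralizer (V' : Set (V ⋊[φ] (G ⧸ C))) = ⊥ := by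
    rw [eq_bot_iff]
    intro x hx
    obtain ⟨hxK, hxC⟩ := Subgroup.mem_inf.mp hx
    rw [hK'def] at hxK
    obtain ⟨m, hm, rfl⟩ := hxK
    rw [Subgroup.mem_bot, hcentV m hxC, map_one]
  have hA2' : ∀ a ∈ A', a * a = 1 := by
    intro a ha
    rw [hA'def] at ha
    obtain ⟨_, ⟨a₀, ha₀, rfl⟩, rfl⟩ := ha
    rw [← map_mul, ← map_mul, hA2 a₀ ha₀, map_one, map_one]
  have hAK : A' ≤ Subgroup.normalizer (K' : Set (V ⋊[φ] (G ⧸ C))) := by
    intro x hx
    rw [hA'def] at hx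
    obtain ⟨m, -, rfl⟩ := hx
    apply Cfsg.Agent.S0650.mem_normalizer_of_conj
    intro z hz
    rw [hK'def] at hz ⊢
    obtain ⟨k, hk, rfl⟩ := hz
    exact ⟨m * k * m⁻¹, hKpn.conj_mem k hk m, by rw [map_mul, map_mul, map_inv]⟩
  have hAV : A' ≤ Subgroup.normalizer (V' : Set (V ⋊[φ] (G ⧸ C))) := by
    rw [Subgroup.normalizer_eq_top]; exact le_top
  have hAf : A' ⊓ Subgroup.centralizer (K' : Set (V ⋊[φ] (G ⧸ C))) = ⊥ := by
    rw [eq_bot_iff]
    intro x hx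
    obtain ⟨hxA, hxC⟩ := Subgroup.mem_inf.mp hx
    rw [hA'def] at hxA
    obtain ⟨_, ⟨a₀, ha₀, rfl⟩, rfl⟩ := hxA
    rw [Subgroup.mem_bot]
    have h1 : π a₀ ∈ Subgroup.centralizer (Kp : Set (G ⧸ C)) := by
      rw [Subgroup.mem_centralizer_iff]
      intro k hk
      rw [Subgroup.mem_centralizer_iff] at hxC
      have h2 := hxC (ir k) (by rw [hK'def]; exact ⟨k, hk, rfl⟩)
      rw [← map_mul, ← map_mul] at h2
      exact hirinj h2
    have h3 : π a₀ ∈ Kp := hHH h1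
    have h4 : orderOf (⟨π a₀, h3⟩ : Kp) ∣ Nat.card Kp := orderOf_dvd_natCard _
    rw [Subgroup.orderOf_mk] at h4
    have h5 : orderOf (π a₀) ∣ 2 := by
      apply orderOf_dvd_of_pow_eq_one
      rw [pow_two, ← map_mul, hA2 a₀ ha₀, map_one]
    have h6 := Nat.eq_one_of_dvd_coprimes hKpc h4 h5
    rw [orderOf_eq_one_iff.mp h6, map_one]
  -- cardinalities
  have hF : V' ⊓ Subgroup.centralizer (A' : Set (V ⋊[φ] (G ⧸ C))) =
      ((V ⊓ Subgroup.centralizer (A : Set G)).subgroupOf V).map il := by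
    ext x
    constructor
    · intro hx
      obtain ⟨hxV, hxC⟩ := Subgroup.mem_inf.mp hx
      rw [hV'def] at hxV
      obtain ⟨v, rfl⟩ := hxV
      refine ⟨v, ?_, rfl⟩
      rw [SetLike.mem_coe, Subgroup.mem_subgroupOf]
      refine Subgroup.mem_inf.mpr ⟨v.2, ?_⟩
      rw [Subgroup.mem_centralizer_iff]
      intro a ha
      rw [Subgroup.mem_centralizer_iff] at hxC
      have h1 := hxC (ir (π a)) (by rw [hA'def]; exact ⟨π a, ⟨a, ha, rfl⟩, rfl⟩)
      have h2 : ir (π a) * il v * (ir (π a))⁻¹ = il v := by rw [h1, mul_inv_cancel_right]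
      rw [haut] at h2
      have h3 := congrArg Subtype.val (hilinj h2)
      rw [hφ] at h3
      exact (mul_inv_eq_iff_eq_mul.mp h3)
    · rintro ⟨v, hv, rfl⟩
      rw [SetLike.mem_coe, Subgroup.mem_subgroupOf] at hv
      obtain ⟨-, hvC⟩ := Subgroup.mem_inf.mp hv
      rw [Subgroup.mem_centralizer_iff] at hvC
      refine Subgroup.mem_inf.mpr ⟨by rw [hV'def]; exact ⟨v, rfl⟩, ?_⟩
      rw [Subgroup.mem_centralizer_iff]
      intro z hz
      rw [hA'def] at hz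
      obtain ⟨_, ⟨a, ha, rfl⟩, rfl⟩ := hz
      have h1 : φ (π a) v = v := by
        apply Subtype.ext
        rw [hφ, hvC a ha, mul_inv_cancel_right]
      have h2 := haut (π a) v
      rw [h1] at h2
      exact (mul_inv_eq_iff_eq_mul.mp h2)
  have hcF : Nat.card ↥(V' ⊓ Subgroup.centralizer (A' : Set (V ⋊[φ] (G ⧸ C)))) =
      Nat.card ↥(V ⊓ Subgroup.centralizer (A : Set G)) := by
    rw [hF, Subgroup.card_map_of_injective hilinj, Cfsg.Agent.S0650.card_subgroupOf inf_le_left]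
  have hcV : Nat.card V' = Nat.card V := by
    rw [hV'def, MonoidHom.range_eq_map, Subgroup.card_map_of_injective hilinj, Subgroup.card_top]
  have hcA : Nat.card A' = C.relIndex A := by
    have hk : π.ker.relIndex A = C.relIndex A := congrArg (fun H => H.relIndex A) hπker
    rw [hA'def, Subgroup.card_map_of_injective hirinj, ← hk]
    exact (Subgroup.relIndex_ker (K := A) π).symm
  have hr := relIndex_mul_card_of_le
    (inf_le_left : V' ⊓ Subgroup.centralizer (A' : Set (V ⋊[φ] (G ⧸ C))) ≤ V')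
  rw [hcF, hcV] at hr
  have hα := relIndex_mul_card_inf C A
  rw [inf_comm] at hα
  have hα2 : 2 ≤ C.relIndex A := by
    have h1 : C.relIndex A ≠ 1 := fun h => hAne (Subgroup.relIndex_eq_one.mp h)
    have h0 : C.relIndex A ≠ 0 := by
      intro h
      rw [h, zero_mul] at hα
      exact (Nat.card_pos (α := A)).ne' hα.symm
    omega
  have hsmall : (V' ⊓ Subgroup.centralizer (A' : Set (V ⋊[φ] (G ⧸ C)))).relIndex V' <
      Nat.card A' ^ 2 := by
    rw [hcA]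
    obtain ⟨r, hrdef⟩ : ∃ r : ℕ,
        r = (V' ⊓ Subgroup.centralizer (A' : Set (V ⋊[φ] (G ⧸ C)))).relIndex V' := ⟨_, rfl⟩
    rw [← hrdef] at hr ⊢
    obtain ⟨α', hα'def⟩ : ∃ α' : ℕ, α' = C.relIndex A := ⟨_, rfl⟩
    rw [← hα'def] at hα hα2 ⊢
    have hc'pos : 0 < Nat.card ↥(V ⊓ Subgroup.centralizer (A : Set G)) := Nat.card_pos
    have hβpos : 0 < Nat.card ↥(A ⊓ C) := Nat.card_pos
    have h1 : r * (Nat.card ↥(V ⊓ Subgroup.centralizer (A : Set G)) * Nat.card ↥(A ⊓ C)) ≤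
        α' * (Nat.card ↥(V ⊓ Subgroup.centralizer (A : Set G)) * Nat.card ↥(A ⊓ C)) := by
      calc r * (Nat.card ↥(V ⊓ Subgroup.centralizer (A : Set G)) * Nat.card ↥(A ⊓ C))
          = Nat.card V * Nat.card ↥(A ⊓ C) := by rw [← hr, mul_assoc]
        _ ≤ Nat.card A * Nat.card ↥(V ⊓ Subgroup.centralizer (A : Set G)) := hoff
        _ = α' * (Nat.card ↥(V ⊓ Subgroup.centralizer (A : Set G)) * Nat.card ↥(A ⊓ C)) := by
            rw [← hα]; ring
    have h2 : r ≤ α' := Nat.le_of_mul_le_mul_right h1 (Nat.mul_pos hc'pos hβpos)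
    nlinarith
  obtain ⟨a', ha'A, y', hy'K, -, hy'1, hy'3, hay'⟩ :=
    Cfsg.Agent.Helper21.s3_config V' K' hV2' hK hKV hKf (Nat.card A') A' le_rfl hA2' hAK hAV hAf
      hsmall
  rw [hA'def] at ha'A
  obtain ⟨_, ⟨a, haA, rfl⟩, rfl⟩ := ha'A
  rw [hK'def] at hy'K
  obtain ⟨k, -, rfl⟩ := hy'K
  obtain ⟨y₀, rfl⟩ := hπs k
  have hz3 : π y₀ ^ 3 = 1 := by
    apply hirinj
    rw [map_pow, hy'3, map_one]
  have hz1 : π y₀ ≠ 1 := by
    intro h
    exact hy'1 (by rw [h, map_one])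
  have hza : π a * π y₀ * (π a)⁻¹ = (π y₀)⁻¹ := by
    apply hirinj
    rw [map_mul, map_mul, map_inv, map_inv]
    exact hay'
  have haa : a * a = 1 := hA2 a haA
  have ainv : a⁻¹ = a := inv_eq_of_mul_eq_one_left haa
  obtain ⟨b, hbdef⟩ : ∃ b : G, b = y₀ * a * y₀⁻¹ := ⟨_, rfl⟩
  have hbb : b * b = 1 := by
    rw [hbdef]
    calc y₀ * a * y₀⁻¹ * (y₀ * a * y₀⁻¹) = y₀ * (a * a) * y₀⁻¹ := by group
      _ = 1 := by rw [haa, mul_one, mul_inv_cancel]
  have binv : b⁻¹ = b := inv_eq_of_mul_eq_one_left hbb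
  obtain ⟨ρ, hρdef⟩ : ∃ ρ : G, ρ = a * b := ⟨_, rfl⟩
  have hρinv : a * ρ * a⁻¹ = ρ⁻¹ := by
    rw [hρdef, mul_inv_rev, binv, ainv]
    calc a * (a * b) * a = (a * a) * b * a := by group
      _ = b * a := by rw [haa, one_mul]
  have hzinv : (π y₀)⁻¹ * (π y₀)⁻¹ = π y₀ := by
    have h1 : π y₀ * (π y₀ * π y₀) = 1 := by
      rw [← hz3, pow_succ, pow_two, mul_assoc]
    have h2 := eq_inv_of_mul_eq_one_left h1
    rw [mul_inv_rev] at h2
    exact h2.symm
  have hπρ : π ρ = π y₀ := by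
    have hπa : (π a)⁻¹ = π a := by rw [← map_inv, ainv]
    rw [hρdef, hbdef, map_mul, map_mul, map_mul, map_inv]
    calc π a * (π y₀ * π a * (π y₀)⁻¹) = (π a * π y₀ * π a) * (π y₀)⁻¹ := by group
      _ = (π a * π y₀ * (π a)⁻¹) * (π y₀)⁻¹ := by rw [hπa]
      _ = π y₀ := by rw [hza, hzinv]
  have hn : orderOf ρ ≠ 0 := (orderOf_pos ρ).ne'
  obtain ⟨e, m, hm, hnm⟩ := Nat.exists_eq_two_pow_mul_odd hn
  obtain ⟨y, hydef⟩ : ∃ y : G, y = ρ ^ (4 ^ e) := ⟨_, rfl⟩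
  have h4e : (4 : ℕ) ^ e = 2 ^ e * 2 ^ e := by
    rw [← mul_pow]; norm_num
  have hym : y ^ m = 1 := by
    rw [hydef, ← pow_mul]
    have h1 : 4 ^ e * m = orderOf ρ * 2 ^ e := by rw [hnm, h4e]; ring
    rw [h1, pow_mul, pow_orderOf_eq_one, one_pow]
  have hyodd : Odd (orderOf y) := Odd.of_dvd_nat hm (orderOf_dvd_of_pow_eq_one hym)
  have hay : a * y * a⁻¹ = y⁻¹ := by
    rw [hydef, ← conj_pow, hρinv, inv_pow]
  have hπy : π y = π y₀ := by
    rw [hydef, map_pow, hπρ]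
    have h1 : 4 ^ e % 3 = 1 := by
      rw [Nat.pow_mod]; norm_num
    have h2 := Nat.div_add_mod (4 ^ e) 3
    rw [h1] at h2
    rw [← h2, pow_succ, pow_mul, hz3, one_pow, one_mul]
  have hy3C : y ^ 3 ∈ C := by
    rw [← hπ1, map_pow, hπy, hz3]
  have hyC : y ∉ C := by
    rw [← hπ1, hπy]; exact hz1
  refine ⟨a, haA, y, hyodd, hay, fun v hv => (hCmem _).mp hy3C v hv, ?_⟩
  by_contra hcon
  push Not at hcon
  exact hyC ((hCmem y).mpr hcon)

end Cfsg.Agent.Helper5.TwoModel
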