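import Mathlib
import Cfsg.Prelude
import Cfsg.Agent.Helper5.PStabSolv

/-!
# Groups with abelian Sylow `2`-subgroups have no `SL(2,3)` section (helper5)
-/

set_option autoImplicit false

namespace Cfsg.Agent.Helper5

open scoped commutatorElement

set_option maxRecDepth 1000000 in
theorem card_sl23 : Nat.card (Matrix.SpecialLinearGroup (Fin 2) (ZMod 3)) = 24 := by
  rw [Nat.card_eq_fintype_card]
  decide

set_option maxRecDepth 100000 in
theorem sl23_sq_aux : ∀ a b c d : ZMod 3, a * d - b * c = 1 →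
    (!![a, b; c, d] : Matrix (Fin 2) (Fin 2) (ZMod 3)) ^ 2 = 1 →
    (!![a, b; c, d] : Matrix (Fin 2) (Fin 2) (ZMod 3)) = 1 ∨
    (!![a, b; c, d] : Matrix (Fin 2) (Fin 2) (ZMod 3)) = -1 := by decide

set_option maxRecDepth 100000 in
theorem sl23_pow8_aux : ∀ a b c d : ZMod 3, a * d - b * c = 1 →
    (!![a, b; c, d] : Matrix (Fin 2) (Fin 2) (ZMod 3)) ^ 8 = 1 →
    (!![a, b; c, d] : Matrix (Fin 2) (Fin 2) (ZMod 3)) ^ 4 = 1 := by decide

theorem sl23_eta (x : Matrix.SpecialLinearGroup (Fin 2) (ZMod 3)) :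
    (x : Matrix (Fin 2) (Fin 2) (ZMod 3)) = !![x.1 0 0, x.1 0 1; x.1 1 0, x.1 1 1] ∧
    x.1 0 0 * x.1 1 1 - x.1 0 1 * x.1 1 0 = 1 := by
  refine ⟨Matrix.eta_fin_two _, ?_⟩
  have := x.2
  rw [Matrix.det_fin_two] at this
  exact this

theorem sl23_sq (x : Matrix.SpecialLinearGroup (Fin 2) (ZMod 3)) (h : x ^ 2 = 1) :
    x = 1 ∨ x = -1 := by
  obtain ⟨e, hdet⟩ := sl23_eta x
  have h1 := congrArg Subtype.val h
  rw [Matrix.SpecialLinearGroup.coe_pow, e] at h1
  rcases sl23_sq_aux _ _ _ _ hdet h1 with h2 | h2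
  · left
    apply Subtype.ext
    rw [e]; exact h2
  · right
    apply Subtype.ext
    rw [e]; exact h2

theorem sl23_pow8 (x : Matrix.SpecialLinearGroup (Fin 2) (ZMod 3)) (h : x ^ 8 = 1) :
    x ^ 4 = 1 := by
  obtain ⟨e, hdet⟩ := sl23_eta x
  have h1 := congrArg Subtype.val h
  rw [Matrix.SpecialLinearGroup.coe_pow, e] at h1
  apply Subtype.ext
  rw [Matrix.SpecialLinearGroup.coe_pow, e]
  exact sl23_pow8_aux _ _ _ _ hdet h1

/-- an abelian subgroup of exponent `4` of `SL(2,3)` has order at most `4` -/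
theorem sl23_card_le_four (A : Subgroup (Matrix.SpecialLinearGroup (Fin 2) (ZMod 3)))
    (hA : ∀ x ∈ A, ∀ y ∈ A, x * y = y * x) (h4 : ∀ x ∈ A, x ^ 4 = 1) : Nat.card A ≤ 4 := by
  classical
  have hfin : (A : Set (Matrix.SpecialLinearGroup (Fin 2) (ZMod 3))).Finite := Set.toFinite _
  have hs : Nat.card A = hfin.toFinset.card := by
    rw [← Set.ncard_eq_toFinset_card _ hfin]
    exact (Nat.card_coe_set_eq (A : Set (Matrix.SpecialLinearGroup (Fin 2) (ZMod 3))))
  have hmem : ∀ a, a ∈ hfin.toFinset ↔ a ∈ A := fun a => by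
    rw [Set.Finite.mem_toFinset]; exact Iff.rfl
  have hmaps : ∀ a ∈ hfin.toFinset, a ^ 2 ∈
      ({1, -1} : Finset (Matrix.SpecialLinearGroup (Fin 2) (ZMod 3))) := by
    intro a ha
    have haA : a ∈ A := (hmem a).mp ha
    have : (a ^ 2) ^ 2 = 1 := by rw [← pow_mul]; exact h4 a haA
    rcases sl23_sq _ this with h | h
    · rw [h]; exact Finset.mem_insert_self _ _
    · rw [h]; exact Finset.mem_insert_of_mem (Finset.mem_singleton_self _)
  have hfib : ∀ b ∈ ({1, -1} : Finset (Matrix.SpecialLinearGroup (Fin 2) (ZMod 3))),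
      (hfin.toFinset.filter (fun a => a ^ 2 = b)).card ≤ 2 := by
    intro b _
    by_cases hne : (hfin.toFinset.filter (fun a => a ^ 2 = b)).Nonempty
    · obtain ⟨x0, hx0⟩ := hne
      rw [Finset.mem_filter] at hx0
      have hsub : hfin.toFinset.filter (fun a => a ^ 2 = b) ⊆ {x0, -x0} := by
        intro y hy
        rw [Finset.mem_filter] at hy
        have hyA := (hmem y).mp hy.1
        have hxA := (hmem x0).mp hx0.1
        have hc : Commute y x0⁻¹ := (hA y hyA x0⁻¹ (A.inv_mem hxA))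
        have h1 : (y * x0⁻¹) ^ 2 = 1 := by
          rw [hc.mul_pow, hy.2, inv_pow, hx0.2, mul_inv_cancel]
        rcases sl23_sq _ h1 with h | h
        · have : y = x0 := by
            have := congrArg (· * x0) h
            simpa using this
          rw [this]; exact Finset.mem_insert_self _ _
        · have : y = -x0 := by
            have := congrArg (· * x0) h
            simpa using this
          rw [this]; exact Finset.mem_insert_of_mem (Finset.mem_singleton_self _)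
      exact (Finset.card_le_card hsub).trans Finset.card_le_two
    · rw [Finset.not_nonempty_iff_eq_empty] at hne
      rw [hne]; simp
  have h1 := Finset.card_le_mul_card_image_of_maps_to hmaps 2 hfib
  have h2 : ({1, -1} : Finset (Matrix.SpecialLinearGroup (Fin 2) (ZMod 3))).card ≤ 2 :=
    Finset.card_le_two
  rw [hs]
  omega

/-- a finite group with abelian Sylow `2`-subgroups has no section isomorphic to `SL(2,3)` -/
theorem not_hasSL2Sec_of_abelian_sylow {G : Type*} [Group G] [Finite G]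
    (hab : ∀ T : Sylow 2 G, IsMulCommutative T) : ¬ HasSL2Sec 3 G := by
  rintro ⟨K, ψ, hψ⟩
  obtain ⟨T1⟩ : Nonempty (Sylow 2 ↥K) := inferInstance
  have hT1p : IsPGroup 2 ((T1 : Subgroup ↥K).map K.subtype) := T1.isPGroup'.map _
  obtain ⟨T, hT⟩ := hT1p.exists_le_sylow
  have hcomm : ∀ x ∈ (T1 : Subgroup ↥K), ∀ y ∈ (T1 : Subgroup ↥K), x * y = y * x := by
    intro x hx y hy
    have hx' : (x : G) ∈ (T : Subgroup G) := hT ⟨x, hx, rfl⟩
    have hy' : (y : G) ∈ (T : Subgroup G) := hT ⟨y, hy, rfl⟩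
    have := (hab T).is_comm.comm (⟨(x : G), hx'⟩ : ↥(T : Subgroup G)) ⟨(y : G), hy'⟩
    have h2 : (x : G) * (y : G) = (y : G) * (x : G) := congrArg Subtype.val this
    exact Subtype.ext h2
  have hAc : ∀ x ∈ (T1 : Subgroup ↥K).map ψ, ∀ y ∈ (T1 : Subgroup ↥K).map ψ, x * y = y * x := by
    rintro _ ⟨x, hx, rfl⟩ _ ⟨y, hy, rfl⟩
    rw [← map_mul, ← map_mul, hcomm x hx y hy]
  have hA4 : ∀ x ∈ (T1 : Subgroup ↥K).map ψ, x ^ 4 = 1 := by
    rintro _ ⟨x, hx, rfl⟩
    apply sl23_pow8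
    obtain ⟨k, hk⟩ := T1.isPGroup' ⟨x, hx⟩
    have hk' : x ^ 2 ^ k = 1 := by
      have := congrArg Subtype.val hk
      simpa using this
    have h1 : (ψ x) ^ (2 ^ k) = 1 := by rw [← map_pow, hk', map_one]
    have h2 : (ψ x) ^ 24 = 1 := by rw [← card_sl23]; exact pow_card_eq_one'
    have hd1 := orderOf_dvd_of_pow_eq_one h1
    have hd2 := orderOf_dvd_of_pow_eq_one h2
    have hd3 : orderOf (ψ x) ∣ 8 := by
      obtain ⟨j, hj, hj2⟩ := (Nat.dvd_prime_pow Nat.prime_two).mp hd1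
      rw [hj2] at hd2 ⊢
      have hj3 : j ≤ 3 := by
        by_contra hcon
        have h16 : 2 ^ 4 ∣ 24 := (pow_dvd_pow 2 (by omega : 4 ≤ j)).trans hd2
        omega
      exact pow_dvd_pow 2 hj3
    exact orderOf_dvd_iff_pow_eq_one.mp hd3
  have hcard := sl23_card_le_four _ hAc hA4
  have hidx : ((T1 : Subgroup ↥K).map ψ).index ∣ (T1 : Subgroup ↥K).index :=
    Subgroup.index_map_dvd _ hψ
  have hodd : ¬ 2 ∣ (T1 : Subgroup ↥K).index := T1.not_dvd_index
  have hmul : Nat.card ((T1 : Subgroup ↥K).map ψ) * ((T1 : Subgroup ↥K).map ψ).index = 24 := by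
    rw [Subgroup.card_mul_index, card_sl23]
  have hodd' : ¬ 2 ∣ ((T1 : Subgroup ↥K).map ψ).index := fun h => hodd (h.trans hidx)
  have hdvd : ((T1 : Subgroup ↥K).map ψ).index ∣ 24 := ⟨_, by rw [← hmul]; ring⟩
  have hle : ((T1 : Subgroup ↥K).map ψ).index ≤ 24 := Nat.le_of_dvd (by norm_num) hdvd
  generalize ((T1 : Subgroup ↥K).map ψ).index = v at hmul hodd' hle
  generalize Nat.card ((T1 : Subgroup ↥K).map ψ) = c at hmul hcard
  interval_cases v <;> omega

end Cfsg.Agent.Helper5
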