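import Mathlib
import Cfsg.Prelude
import Cfsg.Agent.Helper5.S4Sec
import Cfsg.Agent.Helper5.TwoModel
import Cfsg.Agent.Helper13.PSolv
import Cfsg.Agent.Helper16.CharP
import Cfsg.Agent.Helper17.Basic
import Cfsg.Agent.Lead.ThA
import Cfsg.Agent.S0109

/-!
# Solvable `S₄`-free groups with Sylow 2-subgroups of class two (helper5)

`JA_le_pCore`: `G` finite solvable with `O_{2'}(G) = 1`, no section `S₄`, Sylow 2-subgroup `S` of
class at most two.  Then every elementary abelian subgroup of `S` of largest order lies in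
`O₂(G)`, so `J_e(S) = J_e(O₂(G))` is normal in `G`.  `main` is the general factorization
`G = N_G(J_e(S)) O_{2'}(G)`.
-/

set_option autoImplicit false
set_option linter.style.haveILetI false

namespace Cfsg.Agent.Helper5.ClassTwo

open Cfsg
open Cfsg.Agent.S0653 (calA JA)
open scoped commutatorElement

universe u

/-- the central involutions of `S`, with the identity -/
def omZ {G : Type u} [Group G] (S : Subgroup G) : Subgroup G where
  carrier := {z | z ∈ S ∧ (∀ s ∈ S, z * s = s * z) ∧ z * z = 1}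
  one_mem' := ⟨S.one_mem, fun s _ => by rw [one_mul, mul_one], by rw [one_mul]⟩
  mul_mem' := by
    rintro x y ⟨hx, hxc, hx2⟩ ⟨hy, hyc, hy2⟩
    refine ⟨S.mul_mem hx hy, fun s hs => ?_, ?_⟩
    · rw [mul_assoc, hyc s hs, ← mul_assoc, hxc s hs, mul_assoc]
    · calc x * y * (x * y) = x * (y * x) * y := by group
        _ = x * (x * y) * y := by rw [hyc x hx]
        _ = (x * x) * (y * y) := by group
        _ = 1 := by rw [hx2, hy2, one_mul]
  inv_mem' := by
    rintro x ⟨hx, hxc, hx2⟩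
    have hinv : x⁻¹ = x := inv_eq_of_mul_eq_one_left hx2
    rw [hinv]
    exact ⟨hx, hxc, hx2⟩

theorem involves_of_surj {G G' : Type*} [Group G] [Group G'] {T : Type*} [Group T] (f : G →* G')
    (hf : Function.Surjective f) (h : Cfsg.Involves T G') : Cfsg.Involves T G := by
  obtain ⟨K, R, hn, ⟨e⟩⟩ := h
  haveI := hn
  obtain ⟨L, hL, hne⟩ := Cfsg.Agent.Helper5.sec_of_surj (K.comap f)
    ((e.toMonoidHom.comp (QuotientGroup.mk' (R.subgroupOf K))).comp (f.subgroupComap K))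
    ((e.surjective.comp (QuotientGroup.mk'_surjective _)).comp
      (f.subgroupComap_surjective_of_surjective K hf))
  exact ⟨K.comap f, L, hL, hne⟩

theorem JA_le_pCore {G : Type u} [Group G] [Finite G] [Group.IsSolvable G]
    (hO : Cfsg.pPrimeCore 2 G = ⊥)
    (hS4 : ¬ Cfsg.Involves (Equiv.Perm (Fin 4)) G) (S : Sylow 2 G)
    (hcl : ∀ x ∈ (S : Subgroup G), ∀ y ∈ (S : Subgroup G), ∀ z ∈ (S : Subgroup G),
      (x * y * x⁻¹ * y⁻¹) * z = z * (x * y * x⁻¹ * y⁻¹)) :
    JA 2 (S : Subgroup G) ≤ Cfsg.pCore 2 G := by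
  classical
  haveI : Fact (Nat.Prime 2) := ⟨Nat.prime_two⟩
  obtain ⟨Q, hQdef⟩ : ∃ Q : Subgroup G, Q = Cfsg.pCore 2 G := ⟨_, rfl⟩
  rw [← hQdef]
  haveI hQn : Q.Normal := by rw [hQdef]; exact Cfsg.Agent.Helper16.pCore_normal 2 G
  have hQp : IsPGroup 2 Q := by rw [hQdef]; exact Cfsg.Agent.Helper16.isPGroup_pCore 2 G
  have hQS : Q ≤ (S : Subgroup G) := by rw [hQdef]; exact Cfsg.Agent.Helper17.pCore_le_sylow S
  have hCQ : Subgroup.centralizer (Q : Set G) ≤ Q := by
    rw [hQdef]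
    exact Cfsg.Agent.Helper13.centralizer_pCore_le_of_isPSolvable
      (Cfsg.Agent.Helper5.isPSolvable_of_isSolvable 2) hO
  -- `Z₁` and `V`
  obtain ⟨Z₁, hZ₁def⟩ : ∃ Z₁ : Subgroup G, Z₁ = omZ (S : Subgroup G) := ⟨_, rfl⟩
  have hZ₁mem : ∀ z : G, z ∈ Z₁ ↔ z ∈ (S : Subgroup G) ∧
      (∀ s ∈ (S : Subgroup G), z * s = s * z) ∧ z * z = 1 := by
    intro z; rw [hZ₁def]; exact Iff.rfl
  obtain ⟨V, hVdef⟩ : ∃ V : Subgroup G, V = Subgroup.normalClosure (Z₁ : Set G) := ⟨_, rfl⟩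
  haveI hVn : V.Normal := by rw [hVdef]; infer_instance
  have hZ₁V : Z₁ ≤ V := by rw [hVdef]; exact Subgroup.subset_normalClosure
  have hVCQ : V ≤ Subgroup.centralizer (Q : Set G) := by
    rw [hVdef]
    apply Subgroup.normalClosure_le_normal
    intro z hz
    have hz' := (hZ₁mem z).mp hz
    rw [SetLike.mem_coe, Subgroup.mem_centralizer_iff]
    intro q hq
    exact (hz'.2.1 q (hQS hq)).symm
  have hVQ : V ≤ Q := hVCQ.trans hCQ
  have hVS : V ≤ (S : Subgroup G) := hVQ.trans hQS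
  have hVcomm : ∀ v ∈ V, ∀ w ∈ V, v * w = w * v := by
    intro v hv w hw
    exact (Subgroup.mem_centralizer_iff.mp (hVCQ hv) w (hVQ hw)).symm
  have hV2 : ∀ v ∈ V, v * v = 1 := by
    intro v hv
    have hv' : v ∈ Subgroup.closure (Group.conjugatesOfSet (Z₁ : Set G)) := by
      rw [hVdef] at hv; exact hv
    induction hv' using Subgroup.closure_induction with
    | mem x hx =>
      obtain ⟨z, hz, hzx⟩ := Group.mem_conjugatesOfSet_iff.mp hx
      obtain ⟨g, hg⟩ := isConj_iff.mp hzx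
      rw [← hg]
      have hzz := ((hZ₁mem z).mp hz).2.2
      calc g * z * g⁻¹ * (g * z * g⁻¹) = g * (z * z) * g⁻¹ := by group
        _ = 1 := by rw [hzz, mul_one, mul_inv_cancel]
    | one => rw [one_mul]
    | mul x y hx hy ihx ihy =>
      have hxV : x ∈ V := by rw [hVdef]; exact hx
      have hyV : y ∈ V := by rw [hVdef]; exact hy
      calc x * y * (x * y) = x * (y * x) * y := by group
        _ = x * (x * y) * y := by rw [hVcomm y hyV x hxV]
        _ = (x * x) * (y * y) := by group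
        _ = 1 := by rw [ihx hxV, ihy hyV, one_mul]
    | inv x hx ih =>
      have hxV : x ∈ V := by rw [hVdef]; exact hx
      rw [inv_eq_of_mul_eq_one_left (ih hxV)]; exact ih hxV
  -- commutators of involutions of `S` with `S` lie in `Z₁`
  have hcomm_mem : ∀ a ∈ (S : Subgroup G), a * a = 1 → ∀ x ∈ (S : Subgroup G),
      a * x * a⁻¹ * x⁻¹ ∈ Z₁ := by
    intro a ha haa x hx
    rw [hZ₁mem]
    refine ⟨?_, fun s hs => hcl a ha x hx s hs, ?_⟩
    · exact Subgroup.mul_mem _ (Subgroup.mul_mem _ (Subgroup.mul_mem _ ha hx)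
        (Subgroup.inv_mem _ ha)) (Subgroup.inv_mem _ hx)
    · have hc := hcl a ha x hx a ha
      have ainv : a⁻¹ = a := inv_eq_of_mul_eq_one_left haa
      calc (a * x * a⁻¹ * x⁻¹) * (a * x * a⁻¹ * x⁻¹)
          = ((a * x * a⁻¹ * x⁻¹) * a) * (x * a⁻¹ * x⁻¹) := by group
        _ = a * (a * x * a⁻¹ * x⁻¹) * (x * a⁻¹ * x⁻¹) := by rw [hc]
        _ = (a * a) * x * (a⁻¹ * a⁻¹) * x⁻¹ := by group
        _ = 1 := by rw [ainv, haa]; group
  -- the normal 2-subgroup `D`
  obtain ⟨D, hDmem, hDn⟩ : ∃ D : Subgroup G,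
      (∀ g : G, g ∈ D ↔ (∀ v ∈ V, g * v = v * g) ∧ ∀ x ∈ Q, g * x * g⁻¹ * x⁻¹ ∈ V) ∧
        D.Normal := by
    refine ⟨{ carrier := {g | (∀ v ∈ V, g * v = v * g) ∧ ∀ x ∈ Q, g * x * g⁻¹ * x⁻¹ ∈ V}
              one_mem' := ?_
              mul_mem' := ?_
              inv_mem' := ?_ }, fun g => Iff.rfl, ⟨?_⟩⟩
    · rintro g h ⟨hg1, hg2⟩ ⟨hh1, hh2⟩
      refine ⟨fun v hv => ?_, fun x hx => ?_⟩
      · rw [mul_assoc, hh1 v hv, ← mul_assoc, hg1 v hv, mul_assoc]
      · have : g * h * x * (g * h)⁻¹ * x⁻¹ =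
            (g * (h * x * h⁻¹ * x⁻¹) * g⁻¹) * (g * x * g⁻¹ * x⁻¹) := by group
        rw [this]
        exact V.mul_mem (hVn.conj_mem _ (hh2 x hx) g) (hg2 x hx)
    · refine ⟨fun v _ => by rw [one_mul, mul_one], fun x _ => ?_⟩
      have : (1 : G) * x * 1⁻¹ * x⁻¹ = 1 := by group
      rw [this]; exact V.one_mem
    · rintro g ⟨hg1, hg2⟩
      refine ⟨fun v hv => ?_, fun x hx => ?_⟩
      · have := hg1 v hv
        calc g⁻¹ * v = g⁻¹ * (v * g) * g⁻¹ := by group
          _ = g⁻¹ * (g * v) * g⁻¹ := by rw [this]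
          _ = v * g⁻¹ := by group
      · have : g⁻¹ * x * g⁻¹⁻¹ * x⁻¹ = g⁻¹ * (g * x * g⁻¹ * x⁻¹)⁻¹ * g⁻¹⁻¹ := by group
        rw [this]
        exact hVn.conj_mem _ (V.inv_mem (hg2 x hx)) g⁻¹
    · rintro g ⟨hg1, hg2⟩ t
      refine ⟨fun v hv => ?_, fun x hx => ?_⟩
      · have h1 := hg1 (t⁻¹ * v * t⁻¹⁻¹) (hVn.conj_mem v hv t⁻¹)
        calc t * g * t⁻¹ * v = t * (g * (t⁻¹ * v * t⁻¹⁻¹)) * t⁻¹ := by group
          _ = t * ((t⁻¹ * v * t⁻¹⁻¹) * g) * t⁻¹ := by rw [h1]
          _ = v * (t * g * t⁻¹) := by group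
      · have h1 := hg2 (t⁻¹ * x * t⁻¹⁻¹) (hQn.conj_mem x hx t⁻¹)
        have : t * g * t⁻¹ * x * (t * g * t⁻¹)⁻¹ * x⁻¹ =
            t * (g * (t⁻¹ * x * t⁻¹⁻¹) * g⁻¹ * (t⁻¹ * x * t⁻¹⁻¹)⁻¹) * t⁻¹ := by group
        rw [this]
        exact hVn.conj_mem _ h1 t
  have hDQ : D ≤ Q := by
    rw [hQdef]
    apply Cfsg.Agent.Helper16.le_pCore hDn
    rintro ⟨g, hg⟩
    obtain ⟨hg1, hg2⟩ := (hDmem g).mp hg
    have hgg : g * g ∈ Q := by
      apply hCQ
      rw [Subgroup.mem_centralizer_iff]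
      intro x hx
      obtain ⟨v, hvdef⟩ : ∃ v : G, v = g * x * g⁻¹ * x⁻¹ := ⟨_, rfl⟩
      have hv : v ∈ V := by rw [hvdef]; exact hg2 x hx
      have hvg := hg1 v hv
      have hvv := hV2 v hv
      have hgx : g * x = v * x * g := by rw [hvdef]; group
      calc x * (g * g) = (v * v) * x * g * g := by rw [hvv]; group
        _ = v * (v * x * g) * g := by group
        _ = v * (g * x) * g := by rw [← hgx]
        _ = (v * g) * x * g := by group
        _ = (g * v) * x * g := by rw [hvg]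
        _ = g * (v * x * g) := by group
        _ = g * (g * x) := by rw [← hgx]
        _ = g * g * x := by group
    obtain ⟨k, hk⟩ := hQp ⟨g * g, hgg⟩
    have hk' : (g * g) ^ 2 ^ k = 1 := by
      have := congrArg Subtype.val hk
      rw [Subgroup.coe_pow] at this
      exact this
    refine ⟨k + 1, Subtype.ext ?_⟩
    show g ^ 2 ^ (k + 1) = 1
    rw [pow_succ, mul_comm, pow_mul, pow_two]
    exact hk'
  -- the main claim
  have hmain : ∀ A ∈ calA 2 (S : Subgroup G), A ≤ Q := by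
    intro A hA
    obtain ⟨hAS, hAc, hA2, hAmax⟩ := hA
    haveI := hAc
    have hA2' : ∀ a ∈ A, a * a = 1 := fun a ha => by rw [← pow_two]; exact hA2 a ha
    by_contra hAQ
    have hAne : ¬ A ≤ Subgroup.centralizer (V : Set G) := by
      intro hAC
      apply hAQ
      intro a ha
      apply hDQ
      rw [hDmem]
      refine ⟨fun v hv => ?_, fun x hx => ?_⟩
      · exact (Subgroup.mem_centralizer_iff.mp (hAC ha) v hv).symm
      · exact hZ₁V (hcomm_mem a (hAS ha) (hA2' a ha) x (hQS hx))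
    -- the offender inequality
    have hoff : Nat.card V * Nat.card (A ⊓ Subgroup.centralizer (V : Set G) : Subgroup G) ≤
        Nat.card A * Nat.card (V ⊓ Subgroup.centralizer (A : Set G) : Subgroup G) := by
      obtain ⟨A₀, hA₀def⟩ : ∃ A₀ : Subgroup G, A₀ = A ⊓ Subgroup.centralizer (V : Set G) :=
        ⟨_, rfl⟩
      rw [← hA₀def]
      have hA₀A : A₀ ≤ A := hA₀def ▸ inf_le_left
      have hA₀C : ∀ a ∈ A₀, ∀ v ∈ V, a * v = v * a := by
        intro a ha v hv
        rw [hA₀def] at ha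
        exact (Subgroup.mem_centralizer_iff.mp (Subgroup.mem_inf.mp ha).2 v hv).symm
      obtain ⟨B, hBdef⟩ : ∃ B : Subgroup G, B = A₀ ⊔ V := ⟨_, rfl⟩
      have hBmem : ∀ b ∈ B, ∃ a ∈ A₀, ∃ v ∈ V, a * v = b := by
        intro b hb
        rw [hBdef] at hb
        exact Subgroup.mem_sup_of_normal_right.mp hb
      have hBS : B ≤ (S : Subgroup G) := by
        rw [hBdef]; exact sup_le (hA₀A.trans hAS) hVS
      have hBc : IsMulCommutative B := by
        refine .of_setLike_mul_comm ?_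
        intro b hb b' hb'
        obtain ⟨a, ha, v, hv, rfl⟩ := hBmem b hb
        obtain ⟨a', ha', v', hv', rfl⟩ := hBmem b' hb'
        have h1 : a * a' = a' * a := setLike_mul_comm (hA₀A ha) (hA₀A ha')
        have h2 := hA₀C a ha v' hv'
        have h3 := hA₀C a' ha' v hv
        have h4 := hVcomm v hv v' hv'
        calc a * v * (a' * v') = a * (v * a') * v' := by group
          _ = a * (a' * v) * v' := by rw [h3]
          _ = (a * a') * (v * v') := by group
          _ = (a' * a) * (v' * v) := by rw [h1, h4]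
          _ = a' * (a * v') * v := by group
          _ = a' * (v' * a) * v := by rw [h2]
          _ = a' * v' * (a * v) := by group
      have hB2 : ∀ b ∈ B, b ^ 2 = 1 := by
        intro b hb
        obtain ⟨a, ha, v, hv, rfl⟩ := hBmem b hb
        have h2 := hA₀C a ha v hv
        rw [pow_two]
        calc a * v * (a * v) = a * (v * a) * v := by group
          _ = a * (a * v) * v := by rw [h2]
          _ = (a * a) * (v * v) := by group
          _ = 1 := by rw [hA2' a (hA₀A ha), hV2 v hv, one_mul]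
      have hcard := hAmax B hBS hBc hB2
      have h1 : V.relIndex B * Nat.card V = Nat.card B :=
        Cfsg.Agent.Helper5.TwoModel.relIndex_mul_card_of_le (hBdef ▸ le_sup_right)
      have h2 : V.relIndex B = V.relIndex A₀ := by
        rw [hBdef]; exact Subgroup.relIndex_sup_right A₀ V
      have h3 := Cfsg.Agent.Helper5.TwoModel.relIndex_mul_card_inf V A₀
      have h4 : Nat.card (V ⊓ A₀ : Subgroup G) ≤
          Nat.card (V ⊓ Subgroup.centralizer (A : Set G) : Subgroup G) := by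
        apply Subgroup.card_le_of_le
        intro x hx
        obtain ⟨hxV, hxA⟩ := Subgroup.mem_inf.mp hx
        refine Subgroup.mem_inf.mpr ⟨hxV, ?_⟩
        rw [Subgroup.mem_centralizer_iff]
        intro a ha
        exact setLike_mul_comm ha (hA₀A hxA)
      calc Nat.card V * Nat.card A₀
          = Nat.card V * (V.relIndex A₀ * Nat.card (V ⊓ A₀ : Subgroup G)) := by rw [h3]
        _ = (V.relIndex B * Nat.card V) * Nat.card (V ⊓ A₀ : Subgroup G) := by rw [h2]; ring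
        _ = Nat.card B * Nat.card (V ⊓ A₀ : Subgroup G) := by rw [h1]
        _ ≤ Nat.card A * Nat.card (V ⊓ Subgroup.centralizer (A : Set G) : Subgroup G) :=
            Nat.mul_le_mul hcard h4
    -- `O₂(G / C_G(V)) = 1`
    have hO2 : ∀ N : Subgroup G, N.Normal →
        (∀ n ∈ N, ∃ k : ℕ, n ^ 2 ^ k ∈ Subgroup.centralizer (V : Set G)) →
        N ≤ Subgroup.centralizer (V : Set G) := by
      intro N hNn hN2
      haveI := hNn
      rw [Subgroup.le_centralizer_iff, hVdef]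
      apply Subgroup.normalClosure_le_normal
      intro z hz
      rw [SetLike.mem_coe, Subgroup.mem_centralizer_iff]
      intro n hn
      obtain ⟨s, hs, c, hc, rfl⟩ : ∃ s ∈ (S : Subgroup G),
          ∃ c ∈ Subgroup.centralizer (V : Set G), s * c = n := by
        haveI hCn : (Subgroup.centralizer (V : Set G)).Normal := inferInstance
        have hπs := QuotientGroup.mk'_surjective (Subgroup.centralizer (V : Set G))
        have hNp : IsPGroup 2 (N.map (QuotientGroup.mk' (Subgroup.centralizer (V : Set G)))) := by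
          rintro ⟨_, m, hm, rfl⟩
          obtain ⟨k, hk⟩ := hN2 m hm
          refine ⟨k, Subtype.ext ?_⟩
          show (QuotientGroup.mk' (Subgroup.centralizer (V : Set G)) m) ^ 2 ^ k = 1
          rw [← map_pow]
          exact (QuotientGroup.eq_one_iff _).mpr hk
        haveI : (N.map (QuotientGroup.mk' (Subgroup.centralizer (V : Set G)))).Normal :=
          Subgroup.Normal.map hNn _ hπs
        have hle := hNp.le_sylow_of_normal (S.mapSurjective hπs)
        have h1 : QuotientGroup.mk' (Subgroup.centralizer (V : Set G)) n ∈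
            (S : Subgroup G).map (QuotientGroup.mk' (Subgroup.centralizer (V : Set G))) :=
          hle (Subgroup.mem_map_of_mem _ hn)
        obtain ⟨s, hs, hsn⟩ := h1
        refine ⟨s, hs, s⁻¹ * n, ?_, by group⟩
        apply (QuotientGroup.eq_one_iff _).mp
        show QuotientGroup.mk' (Subgroup.centralizer (V : Set G)) (s⁻¹ * n) = 1
        rw [map_mul, map_inv, hsn, inv_mul_cancel]
      have hz' := (hZ₁mem z).mp hz
      have h1 := hz'.2.1 s hs
      have h2 := Subgroup.mem_centralizer_iff.mp hc z (hZ₁V hz)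
      calc s * c * z = s * (c * z) := by group
        _ = s * (z * c) := by rw [h2]
        _ = (s * z) * c := by group
        _ = (z * s) * c := by rw [h1]
        _ = z * (s * c) := by group
    obtain ⟨a, haA, y, hyodd, hay, hy3, hyne⟩ :=
      Cfsg.Agent.Helper5.TwoModel.exists_s3_pair V hV2 hO2 A hA2' hAne hoff
    apply hS4
    exact Cfsg.Agent.Helper5.S4Sec.s4_of_config V hV2 a y
      (fun v hv => hVn.conj_mem v hv a) (fun v hv => hVn.conj_mem v hv y) (hA2' a haA) hay hyodd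
      hy3 hyne
  exact sSup_le hmain

theorem JA_normal {G : Type u} [Group G] [Finite G] [Group.IsSolvable G]
    (hO : Cfsg.pPrimeCore 2 G = ⊥)
    (hS4 : ¬ Cfsg.Involves (Equiv.Perm (Fin 4)) G) (S : Sylow 2 G)
    (hcl : ∀ x ∈ (S : Subgroup G), ∀ y ∈ (S : Subgroup G), ∀ z ∈ (S : Subgroup G),
      (x * y * x⁻¹ * y⁻¹) * z = z * (x * y * x⁻¹ * y⁻¹)) :
    (JA 2 (S : Subgroup G)).Normal := by
  have h1 := JA_le_pCore hO hS4 S hcl
  have h2 := Cfsg.Agent.S0109.JA_eq_of_le 2 (S : Subgroup G) (Cfsg.pCore 2 G)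
    (Cfsg.Agent.Helper17.pCore_le_sylow S) h1
  have h3 := Cfsg.Agent.S0109.normalizer_le_normalizer_JA 2 (Cfsg.pCore 2 G)
  rw [h2] at h3
  haveI := Cfsg.Agent.Helper16.pCore_normal 2 G
  rw [Subgroup.normalizer_eq_top] at h3
  exact Subgroup.normalizer_eq_top_iff.mp (top_le_iff.mp h3)

theorem main_aux {G : Type u} [Group G] [Finite G] [Group.IsSolvable G]
    (O : Subgroup G) [O.Normal] (hOc : (Nat.card O).Coprime 2)
    (hO' : Cfsg.pPrimeCore 2 (G ⧸ O) = ⊥)
    (hS4 : ¬ Cfsg.Involves (Equiv.Perm (Fin 4)) G) (S : Sylow 2 G)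
    (hcl : ∀ x ∈ (S : Subgroup G), ∀ y ∈ (S : Subgroup G), ∀ z ∈ (S : Subgroup G),
      (x * y * x⁻¹ * y⁻¹) * z = z * (x * y * x⁻¹ * y⁻¹)) :
    Subgroup.normalizer (JA 2 (S : Subgroup G) : Set G) ⊔ O = ⊤ := by
  classical
  haveI : Fact (Nat.Prime 2) := ⟨Nat.prime_two⟩
  have hπs := QuotientGroup.mk'_surjective O
  have hinj : ∀ x ∈ (S : Subgroup G), QuotientGroup.mk' O x = 1 → x = 1 := by
    intro x hx h1
    have hxO : x ∈ O := (QuotientGroup.eq_one_iff x).mp h1
    obtain ⟨k, hk⟩ := S.isPGroup' ⟨x, hx⟩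
    have hk' : x ^ 2 ^ k = 1 := by
      have := congrArg Subtype.val hk
      rw [Subgroup.coe_pow] at this
      exact this
    have h2 : orderOf x ∣ 2 ^ k := orderOf_dvd_of_pow_eq_one hk'
    have h3 : orderOf x ∣ Nat.card O := Subgroup.orderOf_dvd_natCard O hxO
    have h4 := Nat.eq_one_of_dvd_coprimes (Nat.Coprime.pow_right k hOc) h3 h2
    exact orderOf_eq_one_iff.mp h4
  obtain ⟨Sb, hSb⟩ : ∃ Sb : Sylow 2 (G ⧸ O),
      (Sb : Subgroup (G ⧸ O)) = (S : Subgroup G).map (QuotientGroup.mk' O) :=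
    ⟨S.mapSurjective hπs, Sylow.coe_mapSurjective hπs S⟩
  have hclb : ∀ x ∈ (Sb : Subgroup (G ⧸ O)), ∀ y ∈ (Sb : Subgroup (G ⧸ O)),
      ∀ z ∈ (Sb : Subgroup (G ⧸ O)), (x * y * x⁻¹ * y⁻¹) * z = z * (x * y * x⁻¹ * y⁻¹) := by
    rw [hSb]
    rintro _ ⟨x, hx, rfl⟩ _ ⟨y, hy, rfl⟩ _ ⟨z, hz, rfl⟩
    have := congrArg (QuotientGroup.mk' O) (hcl x hx y hy z hz)
    simpa only [map_mul, map_inv] using this
  have hS4b : ¬ Cfsg.Involves (Equiv.Perm (Fin 4)) (G ⧸ O) :=
    fun h => hS4 (involves_of_surj (QuotientGroup.mk' O) hπs h)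
  have hN := JA_normal hO' hS4b Sb hclb
  rw [hSb, ← Cfsg.Agent.Lead.Th.JA_map_injOn 2 (QuotientGroup.mk' O) (S : Subgroup G) hinj] at hN
  have h1 := Cfsg.Agent.Lead.Th.normalizer_map_mk O (JA 2 (S : Subgroup G)) hOc
    (S.isPGroup'.to_le (Cfsg.Agent.S0653.JA_le 2 _))
  rw [Subgroup.normalizer_eq_top_iff.mpr hN] at h1
  rw [eq_top_iff]
  intro g _
  obtain ⟨n, hn, hng⟩ := h1 (Subgroup.mem_top (QuotientGroup.mk' O g))
  have h2 : n⁻¹ * g ∈ O := by
    apply (QuotientGroup.eq_one_iff _).mp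
    show QuotientGroup.mk' O (n⁻¹ * g) = 1
    rw [map_mul, map_inv, hng, inv_mul_cancel]
  have hg : g = n * (n⁻¹ * g) := by group
  rw [hg]
  exact Subgroup.mul_mem_sup hn h2

theorem main {G : Type u} [Group G] [Finite G] [Group.IsSolvable G]
    (hS4 : ¬ Cfsg.Involves (Equiv.Perm (Fin 4)) G) (S : Sylow 2 G)
    (hcl : Subgroup.lowerCentralSeries (S : Subgroup G) 2 = ⊥) :
    Subgroup.normalizer ((Cfsg.thompsonSubgroupOf 2 (S : Subgroup G)) : Set G) ⊔
      Cfsg.pPrimeCore 2 G = ⊤ := by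
  rw [Cfsg.Agent.Lead.Th.thompsonSubgroupOf_eq]
  have hcl' : ∀ x ∈ (S : Subgroup G), ∀ y ∈ (S : Subgroup G), ∀ z ∈ (S : Subgroup G),
      (x * y * x⁻¹ * y⁻¹) * z = z * (x * y * x⁻¹ * y⁻¹) := by
    intro x hx y hy z hz
    have h1 : ⁅⁅x, y⁆, z⁆ ∈ Subgroup.lowerCentralSeries (S : Subgroup G) 2 :=
      Subgroup.commutator_mem_commutator (Subgroup.commutator_mem_commutator hx hy) hz
    rw [hcl, Subgroup.mem_bot, commutatorElement_def, commutatorElement_def] at h1
    have h2 := mul_inv_eq_one.mp h1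
    exact mul_inv_eq_iff_eq_mul.mp h2
  haveI : (Cfsg.pPrimeCore 2 G).Normal := Subgroup.sSup_normal _ (fun _ h => h.1)
  exact main_aux (Cfsg.pPrimeCore 2 G) (Cfsg.Agent.Helper10.pPrimeCore_coprime 2 G)
    (Cfsg.Agent.Helper10.pPrimeCore_quotient 2 G) hS4 S hcl'

end Cfsg.Agent.Helper5.ClassTwo
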