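import Mathlib

/-!
For S4016: the conjugates of `L0` by the elements of a subgroup `P1` meeting `N` trivially, when
every nonidentity element of `L0` has centralizer `N` and `N` is self-normalising, have the order
of `L0` and meet pairwise trivially.
-/

set_option autoImplicit false

namespace Cfsg.Agent.S4016P

/-- the conjugate of `L0` by `u` -/
def cj {G : Type*} [Group G] (L0 : Subgroup G) (u : G) : Subgroup G :=
  L0.map (MulAut.conj u).toMonoidHom

theorem mem_cj {G : Type*} [Group G] (L0 : Subgroup G) (u x : G) :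
    x ∈ cj L0 u ↔ u⁻¹ * x * u ∈ L0 := by
  unfold cj
  rw [Subgroup.mem_map]
  constructor
  · rintro ⟨y, hy, rfl⟩
    have h1 : u⁻¹ * (MulAut.conj u).toMonoidHom y * u = y := by
      show u⁻¹ * (u * y * u⁻¹) * u = y
      group
    rw [h1]
    exact hy
  · intro h
    refine ⟨u⁻¹ * x * u, h, ?_⟩
    show u * (u⁻¹ * x * u) * u⁻¹ = x
    group

theorem card_cj {G : Type*} [Group G] (L0 : Subgroup G) (u : G) :
    Nat.card (cj L0 u) = Nat.card L0 :=
  Subgroup.card_map_of_injective (MulAut.conj u).injective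

theorem cj_back {G : Type*} [Group G] (L0 : Subgroup G) (u : G) :
    ∃ v : G, ∀ x ∈ cj L0 u, v * x * v⁻¹ ∈ L0 := by
  refine ⟨u⁻¹, fun x hx => ?_⟩
  rw [inv_inv]
  exact (mem_cj L0 u x).mp hx

theorem cj_le {G : Type*} [Group G] (L0 L : Subgroup G) (u : G)
    (hnorm : ∀ x ∈ L0, u * x * u⁻¹ ∈ L) : cj L0 u ≤ L := by
  intro x hx
  have h1 := (mem_cj L0 u x).mp hx
  have h2 := hnorm _ h1
  have h3 : u * (u⁻¹ * x * u) * u⁻¹ = x := by group
  rwa [h3] at h2

/-- conjugates by distinct elements of `P1` meet trivially -/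
theorem cj_disjoint {G : Type*} [Group G] (N L0 P1 : Subgroup G)
    (hcent : ∀ x ∈ L0, x ≠ 1 → Subgroup.centralizer ({x} : Set G) = N)
    (hP1N : ∀ u ∈ P1, u ∈ N → u = 1)
    (hNN : Subgroup.normalizer (N : Set G) = N) :
    ∀ u ∈ P1, ∀ v ∈ P1, u ≠ v → cj L0 u ⊓ cj L0 v = ⊥ := by
  -- key: if `a, b ∈ L0` are nonidentity and `b = w a w⁻¹` then `w N w⁻¹ ≤ N`
  have key : ∀ (w a b : G), a ∈ L0 → b ∈ L0 → a ≠ 1 → b ≠ 1 → b = w * a * w⁻¹ →
      ∀ n ∈ N, w * n * w⁻¹ ∈ N := by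
    intro w a b ha hb ha1 hb1 hab n hn
    rw [← hcent a ha ha1, Subgroup.mem_centralizer_iff] at hn
    rw [← hcent b hb hb1, Subgroup.mem_centralizer_iff]
    intro h hh
    rw [Set.mem_singleton_iff] at hh
    have h1 := hn a (Set.mem_singleton a)
    rw [hh, hab]
    calc w * a * w⁻¹ * (w * n * w⁻¹) = w * (a * n) * w⁻¹ := by group
      _ = w * (n * a) * w⁻¹ := by rw [h1]
      _ = w * n * w⁻¹ * (w * a * w⁻¹) := by group
  intro u hu v hv huv
  rw [Subgroup.eq_bot_iff_forall]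
  intro z hz
  by_contra hz1
  have hzu := (mem_cj L0 u z).mp hz.1
  have hzv := (mem_cj L0 v z).mp hz.2
  have ha1 : u⁻¹ * z * u ≠ 1 := by
    intro h
    apply hz1
    have h2 : z = u * (u⁻¹ * z * u) * u⁻¹ := by group
    rw [h2, h, mul_one, mul_inv_cancel]
  have hb1 : v⁻¹ * z * v ≠ 1 := by
    intro h
    apply hz1
    have h2 : z = v * (v⁻¹ * z * v) * v⁻¹ := by group
    rw [h2, h, mul_one, mul_inv_cancel]
  -- w = v⁻¹ u normalises N
  have hw : v⁻¹ * u ∈ Subgroup.normalizer (N : Set G) := by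
    rw [Subgroup.mem_normalizer_iff]
    intro n
    constructor
    · intro hn
      exact key (v⁻¹ * u) (u⁻¹ * z * u) (v⁻¹ * z * v) hzu hzv ha1 hb1 (by group) n hn
    · intro hn
      have h3 := key (v⁻¹ * u)⁻¹ (v⁻¹ * z * v) (u⁻¹ * z * u) hzv hzu hb1 ha1 (by group) _ hn
      have h4 : (v⁻¹ * u)⁻¹ * (v⁻¹ * u * n * (v⁻¹ * u)⁻¹) * (v⁻¹ * u)⁻¹⁻¹ = n := by group
      rwa [h4] at h3
  rw [hNN] at hw
  have h5 := hP1N _ (P1.mul_mem (P1.inv_mem hv) hu) hw
  apply huv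
  have h6 : u = v * (v⁻¹ * u) := by group
  rw [h6, h5, mul_one]

/-- the family of conjugates indexed by `P1`, packaged for `endgame_count` and
`invol_conj_into` -/
theorem cj_family {G : Type*} [Group G] (N L L0 P1 : Subgroup G)
    (hcent : ∀ x ∈ L0, x ≠ 1 → Subgroup.centralizer ({x} : Set G) = N)
    (hP1N : ∀ u ∈ P1, u ∈ N → u = 1)
    (hNN : Subgroup.normalizer (N : Set G) = N)
    (hnorm : ∀ u ∈ P1, ∀ x ∈ L0, u * x * u⁻¹ ∈ L) :
    (∀ i : P1, cj L0 (i : G) ≤ L) ∧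
    (∀ i : P1, Nat.card (cj L0 (i : G)) = Nat.card L0) ∧
    (∀ i j : P1, i ≠ j → cj L0 (i : G) ⊓ cj L0 (j : G) = ⊥) ∧
    (∀ i : P1, ∃ v : G, ∀ x ∈ cj L0 (i : G), v * x * v⁻¹ ∈ L0) := by
  refine ⟨fun i => cj_le L0 L i (hnorm i i.2), fun i => card_cj L0 i, ?_, fun i => cj_back L0 i⟩
  intro i j hij
  exact cj_disjoint N L0 P1 hcent hP1N hNN i i.2 j j.2 (fun h => hij (Subtype.ext h))

end Cfsg.Agent.S4016P
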