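import Mathlib
import Cfsg.Agent.Helper5.S4016E
import Cfsg.Agent.Helper5.S4016J

/-!
For S4016: the counting endgame fed directly with the data of a complement `L` of a cyclic Sylow
`p`-subgroup `P` in its normaliser and a subgroup `P1` normalising `L` whose nonidentity elements
move `L ⊓ C(P)` off itself.
-/

set_option autoImplicit false

namespace Cfsg.Agent.S4016P

theorem h5_count_of_p1 {G : Type*} [Group G] [Finite G] {p : ℕ} [Fact p.Prime] (P : Sylow p G)
    (hcyc : IsCyclic P) (L P1 : Subgroup G)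
    (hLab : ∀ a ∈ L, ∀ b ∈ L, a * b = b * a)
    (hLN : L ≤ Subgroup.normalizer ((P : Subgroup G) : Set G))
    (hne : ¬ L ≤ Subgroup.centralizer ((P : Subgroup G) : Set G))
    (hdvd : Nat.card L ∣
      (p - 1) * Nat.card ↥(L ⊓ Subgroup.centralizer ((P : Subgroup G) : Set G)))
    (hmod : Nat.card L % p = 1)
    (hP1 : p ≤ Nat.card P1)
    (hnorm : ∀ u ∈ P1, ∀ x ∈ L, u * x * u⁻¹ ∈ L)
    (hTI : ∀ u ∈ P1, u ≠ 1 → ∀ x ∈ L ⊓ Subgroup.centralizer ((P : Subgroup G) : Set G),
      u * x * u⁻¹ ∈ L ⊓ Subgroup.centralizer ((P : Subgroup G) : Set G) → x = 1) :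
    p = 3 ∧ Nat.card L = 4 ∧
      Nat.card ↥(L ⊓ Subgroup.centralizer ((P : Subgroup G) : Set G)) = 2 := by
  have hp : p.Prime := Fact.out
  have hp2 := hp.two_le
  set L0 : Subgroup G := L ⊓ Subgroup.centralizer ((P : Subgroup G) : Set G) with hL0def
  have hle : L0 ≤ L := inf_le_left
  have hL0pos : 0 < Nat.card L0 := Nat.card_pos
  have hLpos : 0 < Nat.card L := Nat.card_pos
  obtain ⟨d, hd⟩ := Subgroup.card_dvd_of_le hle
  have hd0 : d ≠ 0 := by
    rintro rfl
    rw [Nat.mul_zero] at hd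
    omega
  have hd1 : d ≠ 1 := by
    rintro rfl
    rw [Nat.mul_one] at hd
    have h1 : L0 = L := Subgroup.eq_of_le_of_card_ge hle (le_of_eq hd)
    apply hne
    intro x hx
    have h2 : x ∈ L0 := h1 ▸ hx
    exact h2.2
  have hdp : d ∣ p - 1 := by
    rw [hd, mul_comm (p - 1)] at hdvd
    exact Nat.dvd_of_mul_dvd_mul_left hL0pos hdvd
  have hp3 : p ≠ 2 := by
    rintro rfl
    have h1 : d ∣ 1 := hdp
    exact hd1 (Nat.dvd_one.mp h1)
  have hL0 : L0 ≠ ⊥ := by
    intro hbot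
    have h1 : Nat.card L0 = 1 := by rw [hbot, Subgroup.card_bot]
    rw [h1, Nat.one_mul] at hd
    have h2 : d ≤ p - 1 := Nat.le_of_dvd (by omega) hdp
    have h3 : Nat.card L % p = Nat.card L := Nat.mod_eq_of_lt (by omega)
    omega
  -- the automorphism group of `P` is cyclic
  haveI : IsCyclic (P : Subgroup G) := hcyc
  haveI hcycAut : IsCyclic (MulAut (P : Subgroup G)) := by
    have e := IsCyclic.mulAutMulEquiv (P : Subgroup G)
    have hcard : Nat.card (P : Subgroup G) = p ^ Nat.factorization (Nat.card G) p :=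
      P.card_eq_multiplicity
    rw [hcard] at e
    haveI := ZMod.isCyclic_units_of_prime_pow p hp hp3 (Nat.factorization (Nat.card G) p)
    exact isCyclic_of_surjective e.symm e.symm.surjective
  let f : ↥L →* MulAut (P : Subgroup G) :=
    (Subgroup.normalizerMonoidHom (P : Subgroup G)).comp (Subgroup.inclusion hLN)
  have hf : ∀ x : ↥L, f x = 1 → (x : G) ∈ L0 := by
    intro x hx
    have h1 : Subgroup.inclusion hLN x ∈ (Subgroup.normalizerMonoidHom (P : Subgroup G)).ker :=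
      MonoidHom.mem_ker.mpr hx
    rw [Subgroup.normalizerMonoidHom_ker, Subgroup.mem_subgroupOf] at h1
    exact ⟨x.2, h1⟩
  -- the family of conjugates
  have hAL : ∀ i : P1, cj L0 (i : G) ≤ L :=
    fun i => cj_le L0 L i (fun x hx => hnorm i i.2 x hx.1)
  have hA : ∀ i : P1, Nat.card (cj L0 (i : G)) = Nat.card L0 := fun i => card_cj L0 i
  have hdisj : ∀ i j : P1, i ≠ j → cj L0 (i : G) ⊓ cj L0 (j : G) = ⊥ := by
    intro i j hij
    rw [Subgroup.eq_bot_iff_forall]
    intro x hx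
    have hy := (mem_cj L0 i x).mp hx.1
    have hz := (mem_cj L0 j x).mp hx.2
    have hw : (j : G)⁻¹ * (i : G) ∈ P1 := P1.mul_mem (P1.inv_mem j.2) i.2
    have hw1 : (j : G)⁻¹ * (i : G) ≠ 1 := by
      intro h
      apply hij
      apply Subtype.ext
      have h6 : (i : G) = (j : G) * ((j : G)⁻¹ * (i : G)) := by group
      rw [h6, h, mul_one]
    have h3 : (j : G)⁻¹ * (i : G) * ((i : G)⁻¹ * x * (i : G)) * ((j : G)⁻¹ * (i : G))⁻¹ =
        (j : G)⁻¹ * x * (j : G) := by group
    have h4 := hTI _ hw hw1 _ hy (h3 ▸ hz)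
    have h5 : x = (i : G) * ((i : G)⁻¹ * x * (i : G)) * (i : G)⁻¹ := by group
    rw [h5, h4, mul_one, mul_inv_cancel]
  exact endgame_count hp L L0 hLab hle hL0 d hd hd1 hdp hmod f hf
    (fun i : P1 => cj L0 (i : G)) hP1 hAL hA hdisj

end Cfsg.Agent.S4016P
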