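import Mathlib
import Cfsg.Prelude

/-!
# Subgroups `A₄` of `GL₂(ℤ/2ᵏ)` (helper5)

An element of order three of `GL₂(ℤ/2ᵏ)` is conjugate to the companion matrix `C0` of
`x² + x + 1`; writing matrices as `s + t τ` with `s, t ∈ R[C0]` and `τ` the semilinear involution
(`LL s₀ s₁ t₀ t₁`), a four-group permuted by `C0` is forced to be `1 + 2ᵏ⁻¹ R[C0] τ`.
-/

set_option autoImplicit false
set_option linter.style.haveILetI false

namespace Cfsg.Agent.Helper5.A4GL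

/-! ### the ring `ZMod (2 ^ k)` -/

theorem two_pow_zero (k : ℕ) : (2 : ZMod (2 ^ k)) ^ k = 0 := by
  have h := ZMod.natCast_self (2 ^ k)
  push_cast at h
  exact h

theorem parity (k : ℕ) (x : ZMod (2 ^ k)) : ∃ y : ZMod (2 ^ k), x = 2 * y ∨ x = 1 + 2 * y := by
  haveI : NeZero (2 ^ k) := ⟨by positivity⟩
  have hx := ZMod.natCast_zmod_val x
  obtain ⟨m, hm | hm⟩ := Nat.even_or_odd' x.val
  · refine ⟨(m : ZMod (2 ^ k)), Or.inl ?_⟩
    rw [hm] at hx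
    rw [← hx]; push_cast; ring
  · refine ⟨(m : ZMod (2 ^ k)), Or.inr ?_⟩
    rw [hm] at hx
    rw [← hx]; push_cast; ring

theorem isUnit_odd (k : ℕ) (y : ZMod (2 ^ k)) : IsUnit (1 + 2 * y) := by
  have hn : IsNilpotent (2 * y) := ⟨k, by rw [mul_pow, two_pow_zero, zero_mul]⟩
  exact hn.isUnit_one_add

theorem half_mul_two (k : ℕ) (hk : 1 ≤ k) : (2 : ZMod (2 ^ k)) ^ (k - 1) * 2 = 0 := by
  rw [← pow_succ]
  have : k - 1 + 1 = k := by omega
  rw [this, two_pow_zero]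

theorem half_sq (k : ℕ) (hk : 2 ≤ k) : (2 : ZMod (2 ^ k)) ^ (k - 1) * 2 ^ (k - 1) = 0 := by
  rw [← pow_add]
  have : k - 1 + (k - 1) = k + (k - 2) := by omega
  rw [this, pow_add, two_pow_zero, zero_mul]

theorem not_isUnit_even (k : ℕ) (hk : 1 ≤ k) (y : ZMod (2 ^ k)) : ¬ IsUnit (2 * y) := by
  rintro ⟨u, hu⟩
  have h1 : (2 * y) * (↑u⁻¹ : ZMod (2 ^ k)) = 1 := by rw [← hu]; exact u.mul_inv
  have h2 : (2 : ZMod (2 ^ k)) ^ (k - 1) * ((2 * y) * ↑u⁻¹) = 0 := by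
    calc (2 : ZMod (2 ^ k)) ^ (k - 1) * ((2 * y) * ↑u⁻¹)
        = ((2 : ZMod (2 ^ k)) ^ (k - 1) * 2) * (y * ↑u⁻¹) := by ring
      _ = 0 := by rw [half_mul_two k hk, zero_mul]
  rw [h1, mul_one] at h2
  have h3 : ((2 ^ (k - 1) : ℕ) : ZMod (2 ^ k)) = 0 := by push_cast; exact h2
  rw [ZMod.natCast_eq_zero_iff] at h3
  have h4 := Nat.le_of_dvd (by positivity) h3
  have h5 : 2 ^ (k - 1) < 2 ^ k := Nat.pow_lt_pow_right (by norm_num) (by omega)
  omega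

theorem eq_half_mul (k : ℕ) (hk : 1 ≤ k) (t : ZMod (2 ^ k)) (h : 2 * t = 0) :
    ∃ t' : ZMod (2 ^ k), t = 2 ^ (k - 1) * t' := by
  haveI : NeZero (2 ^ k) := ⟨by positivity⟩
  have ht := ZMod.natCast_zmod_val t
  have h1 : ((2 * t.val : ℕ) : ZMod (2 ^ k)) = 0 := by
    push_cast; rw [ht]; exact h
  rw [ZMod.natCast_eq_zero_iff] at h1
  have h2 : 2 ^ (k - 1) ∣ t.val := by
    have h3 : 2 ^ k = 2 * 2 ^ (k - 1) := by
      rw [← pow_succ']
      congr 1; omega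
    have h1' : 2 * 2 ^ (k - 1) ∣ 2 * t.val := by rw [← h3]; exact h1
    exact (Nat.mul_dvd_mul_iff_left (by norm_num)).mp h1'
  obtain ⟨m, hm⟩ := h2
  refine ⟨(m : ZMod (2 ^ k)), ?_⟩
  rw [hm] at ht
  rw [← ht]; push_cast; ring

theorem exists_inv_three (k : ℕ) : ∃ u : ZMod (2 ^ k), 3 * u = 1 := by
  obtain ⟨w, hw⟩ := isUnit_odd k (1 : ZMod (2 ^ k))
  refine ⟨↑w⁻¹, ?_⟩
  have h3 : (3 : ZMod (2 ^ k)) = 1 + 2 * 1 := by norm_num
  rw [h3, ← hw]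
  exact w.mul_inv

theorem half_bit (k : ℕ) (hk : 1 ≤ k) (a : ZMod (2 ^ k)) :
    ∃ i : Fin 2, (2 : ZMod (2 ^ k)) ^ (k - 1) * a = 2 ^ (k - 1) * ((i : ℕ) : ZMod (2 ^ k)) := by
  obtain ⟨y, hy | hy⟩ := parity k a
  · refine ⟨0, ?_⟩
    rw [hy, ← mul_assoc, half_mul_two k hk]
    simp
  · refine ⟨1, ?_⟩
    rw [hy, mul_add, ← mul_assoc, half_mul_two k hk]
    simp

/-! ### `2 × 2` matrices -/

section mat

variable {R : Type*} [CommRing R]

omit [CommRing R] in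
theorem fin_two_entries {a b c d a' b' c' d' : R} (h : !![a, b; c, d] = !![a', b'; c', d']) :
    a = a' ∧ b = b' ∧ c = c' ∧ d = d' := by
  refine ⟨?_, ?_, ?_, ?_⟩
  · simpa using congrFun (congrFun h 0) 0
  · simpa using congrFun (congrFun h 0) 1
  · simpa using congrFun (congrFun h 1) 0
  · simpa using congrFun (congrFun h 1) 1

omit [CommRing R] in
theorem fin_two_mk_eq {a b c d a' b' c' d' : R} (h1 : a = a') (h2 : b = b') (h3 : c = c')
    (h4 : d = d') : !![a, b; c, d] = !![a', b'; c', d'] := by rw [h1, h2, h3, h4]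

/-- `s₀ + s₁ ω + (t₀ + t₁ ω) τ` in the basis `1, ω` -/
def LL (s₀ s₁ t₀ t₁ : R) : Matrix (Fin 2) (Fin 2) R :=
  !![s₀ + t₀, -s₁ - t₀ + t₁; s₁ + t₁, s₀ - s₁ - t₀]

variable (R) in
/-- the companion matrix of `x² + x + 1` -/
def C0 : Matrix (Fin 2) (Fin 2) R := !![0, -1; 1, -1]

variable (R) in
/-- its inverse -/
def C0i : Matrix (Fin 2) (Fin 2) R := !![-1, 1; -1, 0]

theorem C0_mul_C0i : C0 R * C0i R = 1 := by
  unfold C0 C0i
  rw [Matrix.mul_fin_two, Matrix.one_fin_two]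
  exact fin_two_mk_eq (by ring) (by ring) (by ring) (by ring)

theorem C0i_mul_C0 : C0i R * C0 R = 1 := by
  unfold C0 C0i
  rw [Matrix.mul_fin_two, Matrix.one_fin_two]
  exact fin_two_mk_eq (by ring) (by ring) (by ring) (by ring)

theorem C0_conj (s₀ s₁ t₀ t₁ : R) :
    C0 R * LL s₀ s₁ t₀ t₁ * C0i R = LL s₀ s₁ (t₁ - t₀) (-t₀) := by
  unfold C0 C0i LL
  rw [Matrix.mul_fin_two, Matrix.mul_fin_two]
  exact fin_two_mk_eq (by ring) (by ring) (by ring) (by ring)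

theorem LL_one : LL (1 : R) 0 0 0 = 1 := by
  unfold LL
  rw [Matrix.one_fin_two]
  exact fin_two_mk_eq (by ring) (by ring) (by ring) (by ring)

theorem exists_LL (u : R) (hu : 3 * u = 1) (A : Matrix (Fin 2) (Fin 2) R) :
    ∃ s₀ s₁ t₀ t₁ : R, A = LL s₀ s₁ t₀ t₁ := by
  obtain ⟨a, b, c, d, rfl⟩ : ∃ a b c d : R, A = !![a, b; c, d] :=
    ⟨_, _, _, _, Matrix.eta_fin_two A⟩
  obtain ⟨t1, ht1⟩ : ∃ t1 : R, t1 = u * (a - d + 2 * b + c) := ⟨_, rfl⟩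
  refine ⟨a - (2 * t1 - b - c), c - t1, 2 * t1 - b - c, t1, ?_⟩
  unfold LL
  refine fin_two_mk_eq (by ring) (by ring) (by ring) ?_
  linear_combination 3 * ht1 + (a - d + 2 * b + c) * hu

theorem sq_one_add_smul (a : R) (Y : Matrix (Fin 2) (Fin 2) R) :
    (1 + a • Y) * (1 + a • Y) = 1 + (2 * a) • Y + (a * a) • (Y * Y) := by
  rw [mul_add, add_mul, add_mul, one_mul, mul_one, one_mul, Matrix.smul_mul, Matrix.mul_smul,
    smul_smul, two_mul, add_smul]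
  abel

end mat

/-! ### the four-group is forced -/

theorem stepB (k : ℕ) (hk : 2 ≤ k) (s₀ s₁ t₀ t₁ : ZMod (2 ^ k))
    (h1 : LL s₀ s₁ t₀ t₁ * LL s₀ s₁ t₀ t₁ = 1)
    (h2 : LL s₀ s₁ t₀ t₁ * LL s₀ s₁ (t₁ - t₀) (-t₀) =
      LL s₀ s₁ (-t₀ - (t₁ - t₀)) (-(t₁ - t₀))) :
    ∃ a b : ZMod (2 ^ k), LL s₀ s₁ t₀ t₁ = LL 1 0 (2 ^ (k - 1) * a) (2 ^ (k - 1) * b) := by
  unfold LL at h1 h2
  rw [Matrix.mul_fin_two, Matrix.one_fin_two] at h1
  rw [Matrix.mul_fin_two] at h2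
  obtain ⟨hE11, hE12, hE21, hE22⟩ := fin_two_entries h1
  obtain ⟨hF11, hF12, hF21, hF22⟩ := fin_two_entries h2
  obtain ⟨u, hu⟩ := exists_inv_three k
  obtain ⟨N, hN⟩ : ∃ N : ZMod (2 ^ k), N = t₀ * t₀ - t₀ * t₁ + t₁ * t₁ := ⟨_, rfl⟩
  have c1 : s₁ = N := by
    have h3 : 3 * (N - s₁) = 0 := by
      rw [hN]
      linear_combination (2 * hF21 - hF11 + hF22 - 2 * hF12) - (2 * hE21 - hE11 + hE22 - 2 * hE12)
    linear_combination (-u) * h3 + (N - s₁) * hu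
  have c2 : s₀ = 1 - N := by
    have h3 : 3 * (s₀ - 1 + N) = 0 := by
      rw [hN]
      linear_combination (hE11 + 2 * hE22 - hE12 + hE21) - (hF11 + 2 * hF22 - hF12 + hF21)
    linear_combination u * h3 - (s₀ - 1 + N) * hu
  have c3 : (2 - 3 * N) * t₀ = 0 := by
    have h3 : 3 * ((2 * s₀ - s₁) * t₀) = 0 := by
      linear_combination 2 * hE11 - 2 * hE22 + hE12 - hE21
    have h4 : (2 * s₀ - s₁) * t₀ = 0 := by
      linear_combination u * h3 - ((2 * s₀ - s₁) * t₀) * hu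
    rw [c1, c2] at h4
    linear_combination h4
  have c4 : (2 - 3 * N) * t₁ = 0 := by
    have h3 : 3 * ((2 * s₀ - s₁) * t₁) = 0 := by
      linear_combination hE11 - hE22 + 2 * hE12 + hE21
    have h4 : (2 * s₀ - s₁) * t₁ = 0 := by
      linear_combination u * h3 - ((2 * s₀ - s₁) * t₁) * hu
    rw [c1, c2] at h4
    linear_combination h4
  -- the odd case
  have hodd : ∀ m : ZMod (2 ^ k), N = 1 + 2 * m →
      ∃ a b : ZMod (2 ^ k), LL s₀ s₁ t₀ t₁ = LL 1 0 (2 ^ (k - 1) * a) (2 ^ (k - 1) * b) := by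
    intro m hm
    have hunit := isUnit_odd k (3 * m)
    have h5 : (1 + 2 * (3 * m)) * t₀ = 0 := by rw [hm] at c3; linear_combination -c3
    have h6 : (1 + 2 * (3 * m)) * t₁ = 0 := by rw [hm] at c4; linear_combination -c4
    have ht0 : t₀ = 0 := hunit.mul_right_eq_zero.mp h5
    have ht1 : t₁ = 0 := hunit.mul_right_eq_zero.mp h6
    have hN0 : N = 0 := by rw [hN, ht0, ht1]; ring
    refine ⟨0, 0, ?_⟩
    rw [c1, c2, ht0, ht1, hN0, mul_zero, sub_zero]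
  obtain ⟨a, ha | ha⟩ := parity k t₀
  · obtain ⟨b, hb | hb⟩ := parity k t₁
    · -- both even
      have hunit := isUnit_odd k (-(3 * (a * a - a * b + b * b)))
      have hN4 : N = 4 * (a * a - a * b + b * b) := by rw [hN, ha, hb]; ring
      have h5 : (1 + 2 * (-(3 * (a * a - a * b + b * b)))) * (2 * t₀) = 0 := by
        rw [hN4] at c3; linear_combination c3
      have h6 : (1 + 2 * (-(3 * (a * a - a * b + b * b)))) * (2 * t₁) = 0 := by
        rw [hN4] at c4; linear_combination c4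
      obtain ⟨a', ha'⟩ := eq_half_mul k (by omega) t₀ (hunit.mul_right_eq_zero.mp h5)
      obtain ⟨b', hb'⟩ := eq_half_mul k (by omega) t₁ (hunit.mul_right_eq_zero.mp h6)
      have hN0 : N = 0 := by
        rw [hN, ha', hb']
        have hsq := half_sq k hk
        linear_combination (a' * a' - a' * b' + b' * b') * hsq
      refine ⟨a', b', ?_⟩
      rw [c1, c2, hN0, ha', hb', sub_zero]
    · exact hodd (2 * a * a - a - 2 * a * b + 2 * b + 2 * b * b) (by rw [hN, ha, hb]; ring)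
  · obtain ⟨b, hb | hb⟩ := parity k t₁
    · exact hodd (2 * a + 2 * a * a - b - 2 * a * b + 2 * b * b) (by rw [hN, ha, hb]; ring)
    · exact hodd (a + b + 2 * a * a - 2 * a * b + 2 * b * b) (by rw [hN, ha, hb]; ring)

/-! ### elements congruent to one modulo two -/

theorem pow_two_pow (k : ℕ) (X : Matrix (Fin 2) (Fin 2) (ZMod (2 ^ k))) (j : ℕ) :
    ∃ Y : Matrix (Fin 2) (Fin 2) (ZMod (2 ^ k)),
      (1 + (2 : ZMod (2 ^ k)) • X) ^ (2 ^ j) = 1 + ((2 : ZMod (2 ^ k)) ^ (j + 1)) • Y := by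
  induction j with
  | zero => exact ⟨X, by simp⟩
  | succ j ih =>
    obtain ⟨Y, hY⟩ := ih
    refine ⟨Y + (2 : ZMod (2 ^ k)) ^ j • (Y * Y), ?_⟩
    rw [pow_succ, pow_mul, hY, pow_two, sq_one_add_smul, smul_add, smul_smul, add_assoc]
    congr 2
    · rw [pow_succ (2 : ZMod (2 ^ k)) (j + 1), mul_comm]
    · congr 1
      ring

theorem eq_one_of_even (k : ℕ) (hk : 1 ≤ k) (X : Matrix (Fin 2) (Fin 2) (ZMod (2 ^ k)))
    (h3 : (1 + (2 : ZMod (2 ^ k)) • X) ^ 3 = 1) : 1 + (2 : ZMod (2 ^ k)) • X = 1 := by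
  obtain ⟨Y, hY⟩ := pow_two_pow k X (k - 1)
  have hk1 : k - 1 + 1 = k := by omega
  rw [hk1, two_pow_zero, zero_smul, add_zero] at hY
  have h1 : orderOf (1 + (2 : ZMod (2 ^ k)) • X) ∣ 3 := orderOf_dvd_of_pow_eq_one h3
  have h2 : orderOf (1 + (2 : ZMod (2 ^ k)) • X) ∣ 2 ^ (k - 1) := orderOf_dvd_of_pow_eq_one hY
  have hcop : Nat.Coprime 3 (2 ^ (k - 1)) := Nat.Coprime.pow_right _ (by norm_num)
  exact orderOf_eq_one_iff.mp (Nat.eq_one_of_dvd_coprimes hcop h1 h2)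

/-! ### elements of order three -/

theorem trace_det (k : ℕ) (α β γ δ : ZMod (2 ^ k))
    (hq : α * α + α * δ + β * γ + δ * δ = 0)
    (h11 : (α * α + β * γ) * α + (α * β + β * δ) * γ = 1) :
    α + δ = -1 ∧ α * δ - β * γ = 1 := by
  obtain ⟨θ, hθ⟩ : ∃ θ : ZMod (2 ^ k), θ = α + δ := ⟨_, rfl⟩
  have hd : α * δ - β * γ = θ * θ := by rw [hθ]; linear_combination -hq
  have h1 : -(θ * (α * δ - β * γ)) = 1 := by rw [hθ]; linear_combination h11 - α * hq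
  have h2 : (θ * θ - θ + 1) * (θ + 1) = 0 := by rw [hd] at h1; linear_combination -h1
  have hunit : IsUnit (θ * θ - θ + 1) := by
    obtain ⟨y, hy | hy⟩ := parity k θ
    · have := isUnit_odd k (y * (θ - 1))
      have e : θ * θ - θ + 1 = 1 + 2 * (y * (θ - 1)) := by
        linear_combination (θ - 1) * hy
      rw [e]; exact this
    · have := isUnit_odd k (θ * y)
      have e : θ * θ - θ + 1 = 1 + 2 * (θ * y) := by
        linear_combination θ * hy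
      rw [e]; exact this
  have h3 : θ + 1 = 0 := hunit.mul_right_eq_zero.mp h2
  have h4 : θ = -1 := by linear_combination h3
  refine ⟨by rw [← hθ]; exact h4, ?_⟩
  rw [hd, h4]; ring

theorem stepA (k : ℕ) (hk : 1 ≤ k) (c : Matrix (Fin 2) (Fin 2) (ZMod (2 ^ k)))
    (hdet : IsUnit c.det) (hc3 : c * c * c = 1) (hc1 : c ≠ 1) :
    ∃ P : Matrix (Fin 2) (Fin 2) (ZMod (2 ^ k)), IsUnit P.det ∧ c * P = P * C0 (ZMod (2 ^ k)) := by
  obtain ⟨α, β, γ, δ, rfl⟩ : ∃ α β γ δ : ZMod (2 ^ k), c = !![α, β; γ, δ] :=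
    ⟨_, _, _, _, Matrix.eta_fin_two c⟩
  rw [Matrix.det_fin_two_of] at hdet
  have hc3' := hc3
  rw [Matrix.mul_fin_two, Matrix.mul_fin_two, Matrix.one_fin_two] at hc3'
  obtain ⟨h11, h12, h21, -⟩ := fin_two_entries hc3'
  obtain ⟨β', hβ | hβ⟩ := parity k β
  · obtain ⟨γ', hγ | hγ⟩ := parity k γ
    · -- `c ≡ 1` modulo two: impossible
      exfalso
      apply hc1
      obtain ⟨α', hα | hα⟩ := parity k α
      · exfalso
        apply not_isUnit_even k hk (α' * δ - 2 * β' * γ')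
        have e : 2 * (α' * δ - 2 * β' * γ') = α * δ - β * γ := by rw [hα, hβ, hγ]; ring
        rw [e]; exact hdet
      obtain ⟨δ', hδ | hδ⟩ := parity k δ
      · exfalso
        apply not_isUnit_even k hk (α * δ' - 2 * β' * γ')
        have e : 2 * (α * δ' - 2 * β' * γ') = α * δ - β * γ := by rw [hδ, hβ, hγ]; ring
        rw [e]; exact hdet
      have e : !![α, β; γ, δ] = 1 + (2 : ZMod (2 ^ k)) • !![α', β'; γ', δ'] := by
        rw [Matrix.smul_of, Matrix.one_fin_two, Matrix.of_add_of]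
        rw [hα, hβ, hγ, hδ]
        simp
      rw [e]
      apply eq_one_of_even k hk
      rw [← e, pow_succ, pow_two]
      exact hc3
    · -- `γ` is a unit
      have hγu : IsUnit γ := hγ ▸ isUnit_odd k γ'
      have hq : α * α + α * δ + β * γ + δ * δ = 0 := by
        have : γ * (α * α + α * δ + β * γ + δ * δ) = 0 := by linear_combination h21
        exact hγu.mul_right_eq_zero.mp this
      obtain ⟨hθ, hd⟩ := trace_det k α β γ δ hq h11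
      refine ⟨!![1, α; 0, γ], ?_, ?_⟩
      · rw [Matrix.det_fin_two_of]
        have : (1 : ZMod (2 ^ k)) * γ - α * 0 = γ := by ring
        rw [this]; exact hγu
      · unfold C0
        rw [Matrix.mul_fin_two, Matrix.mul_fin_two]
        refine fin_two_mk_eq (by ring) ?_ (by ring) ?_
        · linear_combination α * hθ - hd
        · linear_combination γ * hθ
  · -- `β` is a unit
    have hβu : IsUnit β := hβ ▸ isUnit_odd k β'
    have hq : α * α + α * δ + β * γ + δ * δ = 0 := by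
      have : β * (α * α + α * δ + β * γ + δ * δ) = 0 := by linear_combination h12
      exact hβu.mul_right_eq_zero.mp this
    obtain ⟨hθ, hd⟩ := trace_det k α β γ δ hq h11
    refine ⟨!![0, β; 1, δ], ?_, ?_⟩
    · rw [Matrix.det_fin_two_of]
      have : (0 : ZMod (2 ^ k)) * δ - β * 1 = -β := by ring
      rw [this]; exact hβu.neg
    · unfold C0
      rw [Matrix.mul_fin_two, Matrix.mul_fin_two]
      refine fin_two_mk_eq (by ring) ?_ (by ring) ?_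
      · linear_combination β * hθ
      · linear_combination δ * hθ - hd

/-! ### `A₄` -/

/-- an involution of `A₄` -/
def tau : alternatingGroup (Fin 4) :=
  ⟨Equiv.swap 0 1 * Equiv.swap 2 3, Equiv.Perm.mem_alternatingGroup.mpr (by decide)⟩

/-- an element of order three of `A₄` -/
def gam : alternatingGroup (Fin 4) :=
  ⟨Equiv.swap 0 1 * Equiv.swap 1 2, Equiv.Perm.mem_alternatingGroup.mpr (by decide)⟩

theorem tau_sq : tau * tau = 1 := by decide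

theorem gam_cube : gam * gam * gam = 1 := by decide

theorem gam_ne : gam ≠ 1 := by decide

theorem tau_rel : tau * (gam * tau * gam⁻¹) = gam * gam * tau * gam⁻¹ * gam⁻¹ := by decide

set_option maxRecDepth 100000 in
theorem a4_elems : ∀ h : alternatingGroup (Fin 4), ∃ w : alternatingGroup (Fin 4),
    (w = 1 ∨ w = tau ∨ w = gam * tau * gam⁻¹ ∨ w = gam * gam * tau * gam⁻¹ * gam⁻¹) ∧
      (h = w ∨ h = w * gam ∨ h = w * gam * gam) := by decide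

theorem card_a4 : Nat.card (alternatingGroup (Fin 4)) = 12 := by
  have h := two_mul_nat_card_alternatingGroup (α := Fin 4)
  rw [Nat.card_perm, Nat.card_fin] at h
  have : Nat.factorial 4 = 24 := by decide
  omega

/-! ### the normal form -/

/-- the normal form of an `A₄` -/
def S0 (k : ℕ) : Set (Matrix (Fin 2) (Fin 2) (ZMod (2 ^ k))) :=
  Set.range (fun x : Fin 2 × Fin 2 × Fin 3 =>
    LL 1 0 (2 ^ (k - 1) * ((x.1 : ℕ) : ZMod (2 ^ k)))
      (2 ^ (k - 1) * ((x.2.1 : ℕ) : ZMod (2 ^ k))) * C0 (ZMod (2 ^ k)) ^ (x.2.2 : ℕ))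

theorem S0_finite (k : ℕ) : (S0 k).Finite := Set.finite_range _

theorem S0_ncard (k : ℕ) : (S0 k).ncard ≤ 12 := by
  unfold S0
  rw [← Set.image_univ]
  refine (Set.ncard_image_le (Set.toFinite _)).trans ?_
  rw [Set.ncard_univ]
  simp [Nat.card_eq_fintype_card]

theorem mem_S0 (k : ℕ) (hk : 1 ≤ k) (a b : ZMod (2 ^ k)) (j : ℕ) (hj : j < 3) :
    LL 1 0 (2 ^ (k - 1) * a) (2 ^ (k - 1) * b) * C0 (ZMod (2 ^ k)) ^ j ∈ S0 k := by
  obtain ⟨i₀, hi₀⟩ := half_bit k hk a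
  obtain ⟨i₁, hi₁⟩ := half_bit k hk b
  refine ⟨(i₀, i₁, ⟨j, hj⟩), ?_⟩
  dsimp only
  rw [hi₀, hi₁]

/-- the normal form of the four-group -/
def N0 (k : ℕ) : Set (Matrix (Fin 2) (Fin 2) (ZMod (2 ^ k))) :=
  {M | ∃ a b : ZMod (2 ^ k), M = LL 1 0 (2 ^ (k - 1) * a) (2 ^ (k - 1) * b)}

theorem one_mem_N0 (k : ℕ) : (1 : Matrix (Fin 2) (Fin 2) (ZMod (2 ^ k))) ∈ N0 k :=
  ⟨0, 0, by rw [mul_zero, LL_one]⟩

theorem conj_mem_N0 (k : ℕ) {M : Matrix (Fin 2) (Fin 2) (ZMod (2 ^ k))} (hM : M ∈ N0 k) :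
    C0 (ZMod (2 ^ k)) * M * C0i (ZMod (2 ^ k)) ∈ N0 k := by
  obtain ⟨a, b, rfl⟩ := hM
  refine ⟨b - a, -a, ?_⟩
  rw [C0_conj]
  have e1 : (2 : ZMod (2 ^ k)) ^ (k - 1) * b - 2 ^ (k - 1) * a = 2 ^ (k - 1) * (b - a) := by ring
  have e2 : -((2 : ZMod (2 ^ k)) ^ (k - 1) * a) = 2 ^ (k - 1) * (-a) := by ring
  rw [e1, e2]

theorem normal_form (k : ℕ) (hk : 2 ≤ k) (H : Subgroup (GL (Fin 2) (ZMod (2 ^ k))))
    (e : ↥H ≃* ↥(alternatingGroup (Fin 4))) :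
    ∃ P : GL (Fin 2) (ZMod (2 ^ k)), ∀ h ∈ H,
      ((P⁻¹ * h * P : GL (Fin 2) (ZMod (2 ^ k))) : Matrix (Fin 2) (Fin 2) (ZMod (2 ^ k))) ∈
        S0 k := by
  have hk1 : 1 ≤ k := by omega
  obtain ⟨ψ, hψdef⟩ : ∃ ψ : ↥(alternatingGroup (Fin 4)) →* GL (Fin 2) (ZMod (2 ^ k)),
      ψ = H.subtype.comp e.symm.toMonoidHom := ⟨_, rfl⟩
  have hψinj : Function.Injective ψ := by
    rw [hψdef]
    exact H.subtype_injective.comp e.symm.injective
  have hψH : ∀ h ∈ H, ∃ x, ψ x = h := by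
    intro h hh
    refine ⟨e ⟨h, hh⟩, ?_⟩
    rw [hψdef]
    simp
  obtain ⟨c, hcdef⟩ : ∃ c : GL (Fin 2) (ZMod (2 ^ k)), c = ψ gam := ⟨_, rfl⟩
  obtain ⟨v, hvdef⟩ : ∃ v : GL (Fin 2) (ZMod (2 ^ k)), v = ψ tau := ⟨_, rfl⟩
  have hc3 : c * c * c = 1 := by rw [hcdef, ← map_mul, ← map_mul, gam_cube, map_one]
  have hc1 : c ≠ 1 := by
    rw [hcdef]
    intro h
    exact gam_ne (hψinj (by rw [h, map_one]))
  have hv2 : v * v = 1 := by rw [hvdef, ← map_mul, tau_sq, map_one]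
  have hrel : v * (c * v * c⁻¹) = c * c * v * c⁻¹ * c⁻¹ := by
    rw [hcdef, hvdef]
    have := congrArg ψ tau_rel
    simpa only [map_mul, map_inv] using this
  -- the companion normal form
  obtain ⟨P₀, hP₀det, hP₀⟩ := stepA k hk1 (c : Matrix (Fin 2) (Fin 2) (ZMod (2 ^ k)))
    ((Matrix.isUnit_iff_isUnit_det _).mp c.isUnit)
    (by rw [← Units.val_mul, ← Units.val_mul, hc3, Units.val_one])
    (by intro h; exact hc1 (Units.ext h))
  obtain ⟨P, hP⟩ := (Matrix.isUnit_iff_isUnit_det P₀).mpr hP₀det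
  obtain ⟨C, hCval, hCinv⟩ : ∃ C : GL (Fin 2) (ZMod (2 ^ k)),
      (C : Matrix (Fin 2) (Fin 2) (ZMod (2 ^ k))) = C0 _ ∧
      ((C⁻¹ : GL (Fin 2) (ZMod (2 ^ k))) : Matrix (Fin 2) (Fin 2) (ZMod (2 ^ k))) = C0i _ :=
    ⟨⟨C0 _, C0i _, C0_mul_C0i, C0i_mul_C0⟩, rfl, rfl⟩
  have hcP : P⁻¹ * c * P = C := by
    have h1 : c * P = P * C := by
      apply Units.ext
      rw [Units.val_mul, Units.val_mul, hP, hCval]
      exact hP₀
    rw [mul_assoc, h1, ← mul_assoc, inv_mul_cancel, one_mul]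
  obtain ⟨v', hv'def⟩ : ∃ v' : GL (Fin 2) (ZMod (2 ^ k)), v' = P⁻¹ * v * P := ⟨_, rfl⟩
  have hv'2 : v' * v' = 1 := by
    rw [hv'def]
    calc P⁻¹ * v * P * (P⁻¹ * v * P) = P⁻¹ * (v * v) * P := by group
      _ = 1 := by rw [hv2]; group
  have hrel' : v' * (C * v' * C⁻¹) = C * C * v' * C⁻¹ * C⁻¹ := by
    rw [hv'def, ← hcP]
    calc P⁻¹ * v * P * (P⁻¹ * c * P * (P⁻¹ * v * P) * (P⁻¹ * c * P)⁻¹)
        = P⁻¹ * (v * (c * v * c⁻¹)) * P := by group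
      _ = P⁻¹ * (c * c * v * c⁻¹ * c⁻¹) * P := by rw [hrel]
      _ = P⁻¹ * c * P * (P⁻¹ * c * P) * (P⁻¹ * v * P) * (P⁻¹ * c * P)⁻¹ * (P⁻¹ * c * P)⁻¹ := by
          group
  obtain ⟨u, hu⟩ := exists_inv_three k
  obtain ⟨s₀, s₁, t₀, t₁, hvL⟩ :=
    exists_LL u hu (v' : Matrix (Fin 2) (Fin 2) (ZMod (2 ^ k)))
  have h1m : LL s₀ s₁ t₀ t₁ * LL s₀ s₁ t₀ t₁ = 1 := by
    rw [← hvL, ← Units.val_mul, hv'2, Units.val_one]
  have h2m : LL s₀ s₁ t₀ t₁ * LL s₀ s₁ (t₁ - t₀) (-t₀) =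
      LL s₀ s₁ (-t₀ - (t₁ - t₀)) (-(t₁ - t₀)) := by
    have h := congrArg
      (fun g : GL (Fin 2) (ZMod (2 ^ k)) => (g : Matrix (Fin 2) (Fin 2) (ZMod (2 ^ k)))) hrel'
    simp only [Units.val_mul, hCval, hCinv, hvL] at h
    rw [C0_conj] at h
    have h' : C0 (ZMod (2 ^ k)) * C0 (ZMod (2 ^ k)) * LL s₀ s₁ t₀ t₁ * C0i (ZMod (2 ^ k)) *
        C0i (ZMod (2 ^ k)) = C0 (ZMod (2 ^ k)) *
          (C0 (ZMod (2 ^ k)) * LL s₀ s₁ t₀ t₁ * C0i (ZMod (2 ^ k))) * C0i (ZMod (2 ^ k)) := by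
      simp only [Matrix.mul_assoc]
    rw [h', C0_conj, C0_conj] at h
    exact h
  obtain ⟨a, b, hab⟩ := stepB k hk s₀ s₁ t₀ t₁ h1m h2m
  have hv'N : (v' : Matrix (Fin 2) (Fin 2) (ZMod (2 ^ k))) ∈ N0 k := ⟨a, b, by rw [hvL, hab]⟩
  refine ⟨P, ?_⟩
  intro h hh
  obtain ⟨x, rfl⟩ := hψH h hh
  obtain ⟨w, hw, hx⟩ := a4_elems x
  have hwN : ((P⁻¹ * ψ w * P : GL (Fin 2) (ZMod (2 ^ k))) :
      Matrix (Fin 2) (Fin 2) (ZMod (2 ^ k))) ∈ N0 k := by
    rcases hw with rfl | rfl | rfl | rfl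
    · rw [map_one, mul_one, inv_mul_cancel, Units.val_one]
      exact one_mem_N0 k
    · rw [← hvdef, ← hv'def]
      exact hv'N
    · have e1 : P⁻¹ * ψ (gam * tau * gam⁻¹) * P = C * v' * C⁻¹ := by
        rw [map_mul, map_mul, map_inv, ← hcdef, ← hvdef, hv'def, ← hcP]
        group
      rw [e1, Units.val_mul, Units.val_mul, hCval, hCinv]
      exact conj_mem_N0 k hv'N
    · have e1 : P⁻¹ * ψ (gam * gam * tau * gam⁻¹ * gam⁻¹) * P = C * (C * v' * C⁻¹) * C⁻¹ := by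
        simp only [map_mul, map_inv]
        rw [← hcdef, ← hvdef, hv'def, ← hcP]
        group
      rw [e1, Units.val_mul, Units.val_mul, Units.val_mul, Units.val_mul, hCval, hCinv]
      exact conj_mem_N0 k (conj_mem_N0 k hv'N)
  obtain ⟨a', b', hab'⟩ := hwN
  have key : ∀ j : ℕ, j < 3 → ((P⁻¹ * (ψ w * c ^ j) * P : GL (Fin 2) (ZMod (2 ^ k))) :
      Matrix (Fin 2) (Fin 2) (ZMod (2 ^ k))) ∈ S0 k := by
    intro j hj
    have e1 : P⁻¹ * (ψ w * c ^ j) * P = (P⁻¹ * ψ w * P) * C ^ j := by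
      rw [← hcP]
      interval_cases j
      · rw [pow_zero, pow_zero, mul_one, mul_one]
      · rw [pow_one, pow_one]; group
      · rw [pow_two, pow_two]; group
    rw [e1, Units.val_mul, Units.val_pow_eq_pow_val, hCval, hab']
    exact mem_S0 k hk1 a' b' j hj
  rcases hx with rfl | rfl | rfl
  · have h0 := key 0 (by norm_num)
    rw [pow_zero, mul_one] at h0
    exact h0
  · have h1 := key 1 (by norm_num)
    rw [pow_one] at h1
    rw [map_mul, ← hcdef]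
    exact h1
  · have h2 := key 2 (by norm_num)
    have e2 : ψ w * c ^ 2 = ψ w * c * c := by rw [pow_two, mul_assoc]
    rw [e2] at h2
    rw [map_mul, map_mul, ← hcdef]
    exact h2

theorem main (k : ℕ) (hk : 2 ≤ k) (H₁ H₂ : Subgroup (GL (Fin 2) (ZMod (2 ^ k))))
    (h₁ : Nonempty (↥H₁ ≃* ↥(alternatingGroup (Fin 4))))
    (h₂ : Nonempty (↥H₂ ≃* ↥(alternatingGroup (Fin 4)))) :
    ∃ g : GL (Fin 2) (ZMod (2 ^ k)), H₂ = H₁.map (MulAut.conj g).toMonoidHom := by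
  obtain ⟨e₁⟩ := h₁
  obtain ⟨e₂⟩ := h₂
  obtain ⟨P₁, hP₁⟩ := normal_form k hk H₁ e₁
  obtain ⟨P₂, hP₂⟩ := normal_form k hk H₂ e₂
  have key : ∀ (H : Subgroup (GL (Fin 2) (ZMod (2 ^ k))))
      (e : ↥H ≃* ↥(alternatingGroup (Fin 4))) (P : GL (Fin 2) (ZMod (2 ^ k))),
      (∀ h ∈ H, ((P⁻¹ * h * P : GL (Fin 2) (ZMod (2 ^ k))) :
        Matrix (Fin 2) (Fin 2) (ZMod (2 ^ k))) ∈ S0 k) →
      (fun g : GL (Fin 2) (ZMod (2 ^ k)) => ((P⁻¹ * g * P : GL (Fin 2) (ZMod (2 ^ k))) :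
        Matrix (Fin 2) (Fin 2) (ZMod (2 ^ k)))) '' (H : Set (GL (Fin 2) (ZMod (2 ^ k)))) =
        S0 k := by
    intro H e P hP
    have hinj : Function.Injective (fun g : GL (Fin 2) (ZMod (2 ^ k)) =>
        ((P⁻¹ * g * P : GL (Fin 2) (ZMod (2 ^ k))) :
          Matrix (Fin 2) (Fin 2) (ZMod (2 ^ k)))) := by
      intro x y hxy
      have h1 : P⁻¹ * x * P = P⁻¹ * y * P := Units.ext hxy
      have h2 : P⁻¹ * x = P⁻¹ * y := mul_right_cancel h1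
      exact mul_left_cancel h2
    apply Set.eq_of_subset_of_ncard_le
    · rintro _ ⟨h, hh, rfl⟩
      exact hP h hh
    · rw [Set.ncard_image_of_injective _ hinj]
      have hc : (H : Set (GL (Fin 2) (ZMod (2 ^ k)))).ncard = 12 := by
        rw [← Nat.card_coe_set_eq]
        exact (Nat.card_congr e.toEquiv).trans card_a4
      rw [hc]
      exact S0_ncard k
    · exact S0_finite k
  have hA₁ := key H₁ e₁ P₁ hP₁
  have hA₂ := key H₂ e₂ P₂ hP₂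
  refine ⟨P₂ * P₁⁻¹, ?_⟩
  ext g
  rw [Subgroup.mem_map]
  constructor
  · intro hg
    have h1 : ((P₂⁻¹ * g * P₂ : GL (Fin 2) (ZMod (2 ^ k))) :
        Matrix (Fin 2) (Fin 2) (ZMod (2 ^ k))) ∈ S0 k := hP₂ g hg
    rw [← hA₁] at h1
    obtain ⟨h, hh, hfh⟩ := h1
    have h3 : P₁⁻¹ * h * P₁ = P₂⁻¹ * g * P₂ := Units.ext hfh
    refine ⟨h, hh, ?_⟩
    rw [MulEquiv.coe_toMonoidHom, MulAut.conj_apply]
    calc P₂ * P₁⁻¹ * h * (P₂ * P₁⁻¹)⁻¹ = P₂ * (P₁⁻¹ * h * P₁) * P₂⁻¹ := by group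
      _ = g := by rw [h3]; group
  · rintro ⟨h, hh, rfl⟩
    have h1 : ((P₁⁻¹ * h * P₁ : GL (Fin 2) (ZMod (2 ^ k))) :
        Matrix (Fin 2) (Fin 2) (ZMod (2 ^ k))) ∈ S0 k := hP₁ h hh
    rw [← hA₂] at h1
    obtain ⟨g', hg', hfg⟩ := h1
    have h3 : P₂⁻¹ * g' * P₂ = P₁⁻¹ * h * P₁ := Units.ext hfg
    rw [MulEquiv.coe_toMonoidHom, MulAut.conj_apply]
    have h4 : P₂ * P₁⁻¹ * h * (P₂ * P₁⁻¹)⁻¹ = g' := by
      calc P₂ * P₁⁻¹ * h * (P₂ * P₁⁻¹)⁻¹ = P₂ * (P₁⁻¹ * h * P₁) * P₂⁻¹ := by group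
        _ = g' := by rw [← h3]; group
    rw [h4]
    exact hg'

end Cfsg.Agent.Helper5.A4GL
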