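import Mathlib
import Cfsg.Prelude.Def_PLocal
import Cfsg.Agent.S0598
import Cfsg.Agent.S0611
import Cfsg.Agent.S0616
import Cfsg.Agent.Helper21.FFFix2
import Cfsg.Agent.Helper21.Offender
import Cfsg.Agent.Helper5.PStabSolv
import Cfsg.Agent.Helper16.CharP
import Cfsg.Agent.Helper16.AmalgamC

set_option autoImplicit false
set_option linter.style.haveILetI false

/-! Abelian offenders in solvable groups with trivial `O_2` acting faithfully in characteristic 2
are elementary abelian. -/

namespace Cfsg.Agent.Helper5.AbOff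

open Cfsg
open scoped commutatorElement

variable {Γ : Type*} [Group Γ]

theorem sq_comm_aux {b v c : Γ} (h1 : b * v = c * v * b) (hbc : c * b = b * c)
    (hc2 : c * c = 1) : b ^ 2 * v = v * b ^ 2 := by
  calc b ^ 2 * v = b * (b * v) := by rw [pow_two, mul_assoc]
    _ = b * (c * v * b) := by rw [h1]
    _ = (b * c) * v * b := by group
    _ = (c * b) * v * b := by rw [hbc]
    _ = c * (b * v) * b := by group
    _ = c * (c * v * b) * b := by rw [h1]
    _ = (c * c) * v * (b * b) := by group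
    _ = v * b ^ 2 := by rw [hc2, one_mul, pow_two]

theorem nil_aux [Finite Γ] {p : ℕ} [Fact p.Prime] (T X B : Subgroup Γ) (hT : IsPGroup p T)
    (hXT : X ≤ T) (hBT : B ≤ T) (h : X ≤ ⁅X, B⁆) : X = ⊥ := by
  have hnil : Group.IsNilpotent ↥T := hT.isNilpotent
  obtain ⟨n, hn⟩ := (Subgroup.isNilpotent_iff_lowerCentralSeries T).mp hnil
  have key : ∀ k : ℕ, X ≤ T.lowerCentralSeries k := by
    intro k
    induction k with
    | zero => exact hXT
    | succ k ih =>
      rw [Subgroup.lowerCentralSeries_succ]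
      exact h.trans (Subgroup.commutator_mono ih hBT)
  exact le_bot_iff.mp (hn ▸ key n)

theorem mem_sup_aux {A B : Subgroup Γ} (h : B ≤ Subgroup.normalizer (A : Set Γ)) {x : Γ}
    (hx : x ∈ A ⊔ B) : ∃ a ∈ A, ∃ b ∈ B, x = a * b :=
  Cfsg.Agent.Helper10.mem_sup_of_le_normalizer h hx

theorem card_cent_conj (V B : Subgroup Γ) (g : Γ) (hg : g ∈ Subgroup.normalizer (V : Set Γ)) :
    Nat.card ↥(V ⊓ Subgroup.centralizer ((B.map (MulAut.conj g).toMonoidHom : Subgroup Γ) : Set Γ)) =
      Nat.card ↥(V ⊓ Subgroup.centralizer (B : Set Γ)) := by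
  have h : V ⊓ Subgroup.centralizer ((B.map (MulAut.conj g).toMonoidHom : Subgroup Γ) : Set Γ) =
      (V ⊓ Subgroup.centralizer (B : Set Γ)).map (MulAut.conj g).toMonoidHom := by
    ext y
    constructor
    · intro hy
      obtain ⟨hyV, hyC⟩ := Subgroup.mem_inf.mp hy
      refine ⟨g⁻¹ * y * g, Subgroup.mem_inf.mpr ⟨?_, ?_⟩, ?_⟩
      · have := (Subgroup.mem_normalizer_iff.mp (Subgroup.inv_mem _ hg) y).mp hyV
        rwa [inv_inv] at this
      · rw [Subgroup.mem_centralizer_iff] at hyC ⊢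
        intro b hb
        have h1 : g * b * g⁻¹ * y = y * (g * b * g⁻¹) := hyC (g * b * g⁻¹) ⟨b, hb, rfl⟩
        calc b * (g⁻¹ * y * g) = g⁻¹ * (g * b * g⁻¹ * y) * g := by group
          _ = g⁻¹ * (y * (g * b * g⁻¹)) * g := by rw [h1]
          _ = g⁻¹ * y * g * b := by group
      · show g * (g⁻¹ * y * g) * g⁻¹ = y
        group
    · rintro ⟨x, hx, rfl⟩
      obtain ⟨hxV, hxC⟩ := Subgroup.mem_inf.mp hx
      refine Subgroup.mem_inf.mpr ⟨?_, ?_⟩
      · exact (Subgroup.mem_normalizer_iff.mp hg x).mp hxV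
      · rw [Subgroup.mem_centralizer_iff] at hxC ⊢
        rintro _ ⟨b, hb, rfl⟩
        have h1 := hxC b hb
        show g * b * g⁻¹ * (g * x * g⁻¹) = g * x * g⁻¹ * (g * b * g⁻¹)
        calc g * b * g⁻¹ * (g * x * g⁻¹) = g * (b * x) * g⁻¹ := by group
          _ = g * (x * b) * g⁻¹ := by rw [h1]
          _ = g * x * g⁻¹ * (g * b * g⁻¹) := by group
  rw [h, Subgroup.card_map_of_injective (MulAut.conj g).injective]

theorem bo_conj {p : ℕ} (V A : Subgroup Γ) (g : Γ) (hg : g ∈ Subgroup.normalizer (V : Set Γ))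
    (hA : IsBestOffenderOn p V A) : IsBestOffenderOn p V (A.map (MulAut.conj g).toMonoidHom) := by
  obtain ⟨h1, h2, h3⟩ := hA
  refine ⟨?_, ?_, ?_⟩
  · intro B hB
    have hB' : B.map (MulAut.conj g⁻¹).toMonoidHom ≤ A := by
      rintro _ ⟨x, hx, rfl⟩
      obtain ⟨a, ha, rfl⟩ := hB hx
      show g⁻¹ * (g * a * g⁻¹) * g⁻¹⁻¹ ∈ A
      have : g⁻¹ * (g * a * g⁻¹) * g⁻¹⁻¹ = a := by group
      rw [this]; exact ha
    have hBB : (B.map (MulAut.conj g⁻¹).toMonoidHom).map (MulAut.conj g).toMonoidHom = B := by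
      rw [Subgroup.map_map]
      have : (MulAut.conj g).toMonoidHom.comp (MulAut.conj g⁻¹).toMonoidHom = MonoidHom.id Γ := by
        ext x
        show g * (g⁻¹ * x * g⁻¹⁻¹) * g⁻¹ = x
        group
      rw [this, Subgroup.map_id]
    have e1 := h1 _ hB'
    have c1 := card_cent_conj V (B.map (MulAut.conj g⁻¹).toMonoidHom) g hg
    rw [hBB] at c1
    have c2 := card_cent_conj V A g hg
    have c3 : Nat.card ↥(B.map (MulAut.conj g⁻¹).toMonoidHom) = Nat.card B :=
      Subgroup.card_map_of_injective (MulAut.conj g⁻¹).injective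
    rw [c1, c2, Subgroup.card_map_of_injective (MulAut.conj g).injective]
    rw [c3] at e1
    exact e1
  · rw [← Subgroup.map_commutator]
    rintro _ ⟨x, hx, rfl⟩
    exact Cfsg.Agent.Helper21.conj_mem_centralizer V g x hg (h2 hx)
  · rintro _ ⟨a, ha, rfl⟩
    have h4 := Cfsg.Agent.Helper21.conj_mem_centralizer V g (a ^ p) hg (h3 a ha)
    have h5 : ((MulAut.conj g).toMonoidHom a) ^ p = g * a ^ p * g⁻¹ := by
      rw [← map_pow]; rfl
    rw [h5]; exact h4

/-- the subgroup generated by the best offenders inside `M` -/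
def H0 (V M : Subgroup Γ) : Subgroup Γ :=
  ⨆ A : {A : Subgroup Γ // A ≤ M ∧ IsBestOffenderOn 2 V A}, (A : Subgroup Γ)

theorem H0_le (V M : Subgroup Γ) : H0 V M ≤ M := iSup_le (fun A => A.2.1)

theorem le_H0 (V M : Subgroup Γ) {A : Subgroup Γ} (hA : A ≤ M) (hbo : IsBestOffenderOn 2 V A) :
    A ≤ H0 V M :=
  le_iSup (fun A : {A : Subgroup Γ // A ≤ M ∧ IsBestOffenderOn 2 V A} => (A : Subgroup Γ))
    ⟨A, hA, hbo⟩

theorem H0_norm [Finite Γ] (V M : Subgroup Γ) (hMV : M ≤ Subgroup.normalizer (V : Set Γ)) :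
    M ≤ Subgroup.normalizer ((H0 V M : Subgroup Γ) : Set Γ) := by
  intro m hm
  apply Cfsg.Agent.Helper21.mem_normalizer_of_conj'
  intro y hy
  have hle : H0 V M ≤ (H0 V M).comap (MulAut.conj m).toMonoidHom := by
    apply iSup_le
    rintro ⟨A, hAM, hbo⟩
    rw [← Subgroup.map_le_iff_le_comap]
    refine le_H0 V M ?_ (bo_conj V A m (hMV hm) hbo)
    rintro _ ⟨a, ha, rfl⟩
    exact M.mul_mem (M.mul_mem hm (hAM ha)) (M.inv_mem hm)
  exact hle hy

theorem H0_gen (V M : Subgroup Γ) :
    H0 V M = ⨆ A : {A : Subgroup Γ // A ≤ H0 V M ∧ IsBestOffenderOn 2 V A}, (A : Subgroup Γ) := by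
  apply le_antisymm
  · apply iSup_le
    rintro ⟨A, hAM, hbo⟩
    exact le_iSup (fun A : {A : Subgroup Γ // A ≤ H0 V M ∧ IsBestOffenderOn 2 V A} =>
      (A : Subgroup Γ)) ⟨A, le_H0 V M hAM hbo, hbo⟩
  · exact iSup_le (fun A => A.2.1)

/-- a normal subgroup of `M` (inside `Γ`) has trivial `O_2` and satisfies `C(O_{2'}) ≤ O_{2'}` -/
theorem S1_of_normal [Finite Γ] (M H : Subgroup Γ) (hHM : H ≤ M)
    (hn : M ≤ Subgroup.normalizer (H : Set Γ))
    (hMs : Group.IsSolvable ↥M) (hMO : pCore 2 ↥M = ⊥) :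
    Subgroup.centralizer (pPrimeCore 2 ↥H : Set ↥H) ≤ pPrimeCore 2 ↥H := by
  haveI : Fact (Nat.Prime 2) := ⟨Nat.prime_two⟩
  haveI : Group.IsSolvable ↥H :=
    Group.isSolvable_of_isSolvable_injective (Subgroup.inclusion_injective hHM)
  apply Cfsg.Agent.Helper5.centralizer_pPrimeCore_le
    (Cfsg.Agent.Helper5.isPSolvable_of_isSolvable 2)
  have hP : pCoreOf 2 H = ⊥ := by
    have hPle : pCoreOf 2 H ≤ H := Subgroup.map_subtype_le _
    have hPp : IsPGroup 2 ↥(pCoreOf 2 H) :=
      (Cfsg.Agent.Helper16.isPGroup_pCore 2 ↥H).map _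
    have hPn : M ≤ Subgroup.normalizer ((pCoreOf 2 H : Subgroup Γ) : Set Γ) := by
      intro m hm
      apply Cfsg.Agent.Helper21.mem_normalizer_of_map_eq
      have h1 := Cfsg.Agent.Helper16.pCoreOf_map_conj 2 H m
      rw [Cfsg.Agent.Helper21.map_conj_eq_self H m (hn hm)] at h1
      exact h1.symm
    have hN : ((pCoreOf 2 H).subgroupOf M).Normal := by
      rw [Subgroup.normal_subgroupOf_iff_le_normalizer (hPle.trans hHM)]
      exact hPn
    have hNp : IsPGroup 2 ↥((pCoreOf 2 H).subgroupOf M) :=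
      hPp.comap_of_injective M.subtype M.subtype_injective
    have hle := Cfsg.Agent.Helper16.le_pCore hN hNp
    rw [hMO, le_bot_iff, Subgroup.subgroupOf_eq_bot] at hle
    have h2 : pCoreOf 2 H ⊓ M = ⊥ := disjoint_iff.mp hle
    rw [inf_eq_left.mpr (hPle.trans hHM)] at h2
    exact h2
  exact (Subgroup.map_eq_bot_iff_of_injective _ H.subtype_injective).mp hP

theorem card_two_elems [Finite Γ] (B : Subgroup Γ) (hB : Nat.card B = 2) :
    ∃ b ∈ B, b ≠ 1 ∧ ∀ x ∈ B, x = 1 ∨ x = b := by
  have hne : B ≠ ⊥ := by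
    intro h; rw [h, Subgroup.card_bot] at hB; omega
  obtain ⟨⟨b, hb⟩, hb1⟩ := Subgroup.ne_bot_iff_exists_ne_one.mp hne
  have hb1' : b ≠ 1 := fun h => hb1 (Subtype.ext h)
  refine ⟨b, hb, hb1', ?_⟩
  intro x hx
  by_contra hcon
  push Not at hcon
  obtain ⟨hx1, hxb⟩ := hcon
  have hsub : ({1, b, x} : Set Γ) ⊆ (B : Set Γ) := by
    intro y hy
    rcases hy with h | h | h
    · rw [h]; exact B.one_mem
    · rw [h]; exact hb
    · rw [Set.mem_singleton_iff] at h; rw [h]; exact hx
  have hn2 : b ∉ ({x} : Set Γ) := by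
    intro h; rw [Set.mem_singleton_iff] at h; exact hxb h.symm
  have hn1 : (1 : Γ) ∉ ({b, x} : Set Γ) := by
    intro h
    rcases h with h | h
    · exact hb1' h.symm
    · rw [Set.mem_singleton_iff] at h; exact hx1 h.symm
  have h3 : ({1, b, x} : Set Γ).ncard = 3 := by
    rw [Set.ncard_insert_of_notMem hn1, Set.ncard_insert_of_notMem hn2, Set.ncard_singleton]
  have h2 : (B : Set Γ).ncard = 2 := hB
  have := Set.ncard_le_ncard hsub (Set.toFinite _)
  omega

theorem four_elems [Finite Γ] (W : Subgroup Γ) (hW : Nat.card W = 4) (u v : Γ) (hu : u ∈ W)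
    (hv : v ∈ W) (hu1 : u ≠ 1) (hv1 : v ≠ 1) (huv : u ≠ v) (huv1 : u * v ≠ 1) :
    ∀ x ∈ W, x = 1 ∨ x = u ∨ x = v ∨ x = u * v := by
  have hsub : ({1, u, v, u * v} : Set Γ) ⊆ (W : Set Γ) := by
    intro y hy
    rcases hy with h | h | h | h
    · rw [h]; exact W.one_mem
    · rw [h]; exact hu
    · rw [h]; exact hv
    · rw [Set.mem_singleton_iff] at h; rw [h]; exact W.mul_mem hu hv
  have hn3 : v ∉ ({u * v} : Set Γ) := by
    intro h
    rw [Set.mem_singleton_iff] at h
    have h' : 1 * v = u * v := by rw [one_mul]; exact h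
    exact hu1 (mul_right_cancel h').symm
  have hn2 : u ∉ ({v, u * v} : Set Γ) := by
    intro h
    rcases h with h | h
    · exact huv h
    · rw [Set.mem_singleton_iff] at h
      have h' : u * 1 = u * v := by rw [mul_one]; exact h
      exact hv1 (mul_left_cancel h').symm
  have hn1 : (1 : Γ) ∉ ({u, v, u * v} : Set Γ) := by
    intro h
    rcases h with h | h | h
    · exact hu1 h.symm
    · exact hv1 h.symm
    · rw [Set.mem_singleton_iff] at h; exact huv1 h.symm
  have h4 : ({1, u, v, u * v} : Set Γ).ncard = 4 := by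
    rw [Set.ncard_insert_of_notMem hn1, Set.ncard_insert_of_notMem hn2,
      Set.ncard_insert_of_notMem hn3, Set.ncard_singleton]
  have hW' : (W : Set Γ).ncard = 4 := hW
  have heq := Set.eq_of_subset_of_ncard_le hsub (by rw [hW', h4]) (Set.toFinite _)
  intro x hx
  have hx' : x ∈ ({1, u, v, u * v} : Set Γ) := by rw [heq]; exact hx
  rcases hx' with h | h | h | h
  · exact Or.inl h
  · exact Or.inr (Or.inl h)
  · exact Or.inr (Or.inr (Or.inl h))
  · exact Or.inr (Or.inr (Or.inr h))

theorem card_sup_two [Finite Γ] (B B1 : Subgroup Γ) (b : Γ) (hbB : b ∈ B)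
    (hB : ∀ x ∈ B, x = 1 ∨ x = b) (hb2 : b * b = 1) (hbc : ∀ t ∈ B1, b * t = t * b)
    (hb1 : b ∉ B1) : Nat.card ↥(B ⊔ B1) = 2 * Nat.card B1 := by
  have hle : B1 ≤ B ⊔ B1 := le_sup_right
  have hBn : B1 ≤ Subgroup.normalizer (B : Set Γ) := by
    intro t ht
    apply Subgroup.centralizer_le_normalizer
    rw [Subgroup.mem_centralizer_iff]
    intro h hh
    rcases hB h hh with h1 | h1
    · rw [h1, one_mul, mul_one]
    · rw [h1]; exact hbc t ht
  have hidx : B1.relIndex (B ⊔ B1) = 2 := by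
    rw [Subgroup.relIndex, Subgroup.index_eq_two_iff]
    refine ⟨⟨b, le_sup_left (b := B1) hbB⟩, ?_⟩
    rintro ⟨y, hy⟩
    obtain ⟨s, hs, t, ht, rfl⟩ := mem_sup_aux hBn hy
    rw [Subgroup.mem_subgroupOf, Subgroup.mem_subgroupOf]
    show Xor (s * t * b ∈ B1) (s * t ∈ B1)
    rcases hB s hs with h | h
    · right
      rw [h, one_mul]
      refine ⟨ht, ?_⟩
      intro hc
      have := B1.mul_mem (B1.inv_mem ht) hc
      rw [inv_mul_cancel_left] at this
      exact hb1 this
    · left
      rw [h]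
      have e : b * t * b = t := by rw [hbc t ht, mul_assoc, hb2, mul_one]
      refine ⟨by rw [e]; exact ht, ?_⟩
      intro hc
      have := B1.mul_mem hc (B1.inv_mem ht)
      rw [mul_inv_cancel_right] at this
      exact hb1 this
  have := Subgroup.relIndex_mul_relIndex ⊥ B1 (B ⊔ B1) bot_le hle
  rw [Subgroup.relIndex_bot_left, Subgroup.relIndex_bot_left, hidx] at this
  omega

theorem card_cent_two [Finite Γ] (V B B1 : Subgroup Γ) (b v u : Γ)
    (hVc : ∀ x ∈ V, ∀ y ∈ V, x * y = y * x) (hV2 : ∀ x ∈ V, x * x = 1)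
    (hbB : b ∈ B) (hB : ∀ x ∈ B, x = 1 ∨ x = b)
    (hVB : ∀ x ∈ (⁅V, B⁆ : Subgroup Γ), x = 1 ∨ x = u)
    (hvV : v ∈ V) (hvB1 : v ∈ Subgroup.centralizer (B1 : Set Γ))
    (hbv : b * v = u * v * b) (hu1 : u ≠ 1) (huV : u ∈ V) :
    Nat.card ↥(V ⊓ Subgroup.centralizer (B1 : Set Γ)) =
      2 * Nat.card ↥(V ⊓ Subgroup.centralizer ((B ⊔ B1 : Subgroup Γ) : Set Γ)) := by
  have hle : V ⊓ Subgroup.centralizer ((B ⊔ B1 : Subgroup Γ) : Set Γ) ≤
      V ⊓ Subgroup.centralizer (B1 : Set Γ) :=
    inf_le_inf_left _ (Subgroup.centralizer_le (SetLike.coe_subset_coe.mpr le_sup_right))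
  have hcrit : ∀ y, y ∈ V ⊓ Subgroup.centralizer (B1 : Set Γ) → b * y = y * b →
      y ∈ V ⊓ Subgroup.centralizer ((B ⊔ B1 : Subgroup Γ) : Set Γ) := by
    intro y hy hby
    obtain ⟨hyV, hyC⟩ := Subgroup.mem_inf.mp hy
    refine Subgroup.mem_inf.mpr ⟨hyV, ?_⟩
    have h1 : B ≤ Subgroup.centralizer ({y} : Set Γ) := by
      intro s hs
      rw [Subgroup.mem_centralizer_iff]
      intro z hz
      rw [Set.mem_singleton_iff] at hz
      rw [hz]
      rcases hB s hs with h | h
      · rw [h, one_mul, mul_one]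
      · rw [h]; exact hby.symm
    have h2 : B1 ≤ Subgroup.centralizer ({y} : Set Γ) := by
      intro t ht
      rw [Subgroup.mem_centralizer_iff]
      intro z hz
      rw [Set.mem_singleton_iff] at hz
      rw [hz]
      exact (Subgroup.mem_centralizer_iff.mp hyC t ht).symm
    rw [Subgroup.mem_centralizer_iff]
    intro g hg
    have h3 := (sup_le h1 h2) hg
    exact (Subgroup.mem_centralizer_iff.mp h3 y rfl).symm
  have hphi : ∀ y ∈ V, b * y = y * b ∨ b * y = u * y * b := by
    intro y hyV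
    have hmem : b * y * b⁻¹ * y⁻¹ ∈ (⁅V, B⁆ : Subgroup Γ) := by
      have h1 : ⁅b, y⁆ ∈ ⁅B, V⁆ := Subgroup.commutator_mem_commutator hbB hyV
      rw [Subgroup.commutator_comm B V, commutatorElement_def] at h1
      exact h1
    rcases hVB _ hmem with h | h
    · left
      calc b * y = (b * y * b⁻¹ * y⁻¹) * y * b := by group
        _ = y * b := by rw [h, one_mul]
    · right
      calc b * y = (b * y * b⁻¹ * y⁻¹) * y * b := by group
        _ = u * y * b := by rw [h]
  have hvP : v ∈ V ⊓ Subgroup.centralizer (B1 : Set Γ) := Subgroup.mem_inf.mpr ⟨hvV, hvB1⟩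
  have hbvne : b * v ≠ v * b := by
    intro h
    rw [hbv] at h
    have : u * (v * b) = 1 * (v * b) := by rw [one_mul, ← mul_assoc]; exact h
    exact hu1 (mul_right_cancel this)
  have hP0b : ∀ z, z ∈ V ⊓ Subgroup.centralizer ((B ⊔ B1 : Subgroup Γ) : Set Γ) →
      b * z = z * b := by
    intro z hz
    exact Subgroup.mem_centralizer_iff.mp (Subgroup.mem_inf.mp hz).2 b
      (le_sup_left (b := B1) hbB)
  have hidx : (V ⊓ Subgroup.centralizer ((B ⊔ B1 : Subgroup Γ) : Set Γ)).relIndex
      (V ⊓ Subgroup.centralizer (B1 : Set Γ)) = 2 := by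
    rw [Subgroup.relIndex, Subgroup.index_eq_two_iff]
    refine ⟨⟨v, hvP⟩, ?_⟩
    rintro ⟨y, hy⟩
    rw [Subgroup.mem_subgroupOf, Subgroup.mem_subgroupOf]
    show Xor (y * v ∈ V ⊓ Subgroup.centralizer ((B ⊔ B1 : Subgroup Γ) : Set Γ))
      (y ∈ V ⊓ Subgroup.centralizer ((B ⊔ B1 : Subgroup Γ) : Set Γ))
    have hyV : y ∈ V := (Subgroup.mem_inf.mp hy).1
    rcases hphi y hyV with h | h
    · right
      refine ⟨hcrit y hy h, ?_⟩
      intro hc
      have h1 := hP0b _ hc
      apply hbvne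
      have : y * (b * v) = y * (v * b) := by
        calc y * (b * v) = (y * b) * v := by group
          _ = (b * y) * v := by rw [h]
          _ = b * (y * v) := by group
          _ = y * v * b := h1
          _ = y * (v * b) := by group
      exact mul_left_cancel this
    · left
      refine ⟨hcrit (y * v) (Subgroup.mul_mem _ hy hvP) ?_, ?_⟩
      · calc b * (y * v) = (b * y) * v := by group
          _ = (u * y * b) * v := by rw [h]
          _ = u * y * (b * v) := by group
          _ = u * y * (u * v * b) := by rw [hbv]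
          _ = u * (y * u) * v * b := by group
          _ = u * (u * y) * v * b := by rw [hVc y hyV u huV]
          _ = (u * u) * y * v * b := by group
          _ = y * v * b := by rw [hV2 u huV, one_mul]
      · intro hc
        have h1 := hP0b _ hc
        rw [h] at h1
        have : u * (y * b) = 1 * (y * b) := by rw [one_mul, ← mul_assoc]; exact h1
        exact hu1 (mul_right_cancel this)
  have := Subgroup.relIndex_mul_relIndex ⊥ _ _ bot_le hle
  rw [Subgroup.relIndex_bot_left, Subgroup.relIndex_bot_left, hidx] at this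
  omega

/-- Abelian `2`-subgroups `D` of a solvable group `M` with `O_2(M) = 1` acting faithfully on the
elementary abelian `2`-group `V`, which maximize `|B| |C_V(B)|` among their subgroups, are
elementary abelian. -/
theorem aboff_main [Finite Γ] (V M : Subgroup Γ)
    (hV : IsElementaryAbelian 2 V)
    (hMV : M ≤ Subgroup.normalizer (V : Set Γ))
    (hMf : M ⊓ Subgroup.centralizer (V : Set Γ) = ⊥)
    (hMs : Group.IsSolvable ↥M) (hMO : pCore 2 ↥M = ⊥) :
    ∀ (n : ℕ) (D : Subgroup Γ), Nat.card D ≤ n → D ≤ M → IsPGroup 2 D →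
      (∀ a ∈ D, ∀ b ∈ D, a * b = b * a) →
      (∀ B : Subgroup Γ, B ≤ D →
        Nat.card B * Nat.card ↥(V ⊓ Subgroup.centralizer (B : Set Γ)) ≤
          Nat.card D * Nat.card ↥(V ⊓ Subgroup.centralizer (D : Set Γ))) →
      ∀ d ∈ D, d ^ 2 = 1 := by
  classical
  haveI : Fact (Nat.Prime 2) := ⟨Nat.prime_two⟩
  have hVc : ∀ x ∈ V, ∀ y ∈ V, x * y = y * x := by
    intro x hx y hy
    have := hV.1.is_comm.comm ⟨x, hx⟩ ⟨y, hy⟩
    exact congrArg Subtype.val this
  have hV2 : ∀ x ∈ V, x * x = 1 := by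
    intro x hx; rw [← pow_two]; exact hV.2 x hx
  have hVp : IsPGroup 2 V := Cfsg.Agent.Helper21.isPGroup_of_pow_p V hV.2
  have hMtriv : ∀ x ∈ M, x ∈ Subgroup.centralizer (V : Set Γ) → x = 1 := by
    intro x hx hxc
    have : x ∈ M ⊓ Subgroup.centralizer (V : Set Γ) := Subgroup.mem_inf.mpr ⟨hx, hxc⟩
    rwa [hMf, Subgroup.mem_bot] at this
  obtain ⟨H, hHdef⟩ : ∃ H : Subgroup Γ, H = H0 V M := ⟨_, rfl⟩
  have hHM : H ≤ M := by rw [hHdef]; exact H0_le V M
  have hHV : H ≤ Subgroup.normalizer (V : Set Γ) := hHM.trans hMV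
  have hHf : H ⊓ Subgroup.centralizer (V : Set Γ) = ⊥ :=
    le_bot_iff.mp ((inf_le_inf_right _ hHM).trans (le_of_eq hMf))
  have hMH : M ≤ Subgroup.normalizer (H : Set Γ) := by rw [hHdef]; exact H0_norm V M hMV
  have hS1 := S1_of_normal M H hHM hMH hMs hMO
  have hS3 : H = ⨆ A : {A : Subgroup Γ // A ≤ H ∧ IsBestOffenderOn 2 V A}, (A : Subgroup Γ) := by
    rw [hHdef]; exact H0_gen V M
  intro n
  induction n with
  | zero =>
    intro D hD
    have := Nat.card_pos (α := D)
    omega
  | succ n ih =>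
    intro D hDn hDM hD2 hDab hDi d hd
    by_cases hD1 : D = ⊥
    · rw [hD1, Subgroup.mem_bot] at hd
      rw [hd, one_pow]
    have hDV : D ≤ Subgroup.normalizer (V : Set Γ) := hDM.trans hMV
    have hDDbot : ⁅D, D⁆ = ⊥ := by
      rw [Subgroup.commutator_eq_bot_iff_le_centralizer]
      intro a ha
      rw [Subgroup.mem_centralizer_iff]
      intro b hb
      exact hDab b hb a ha
    have habV : ⁅D, D⁆ ≤ Subgroup.centralizer (V : Set Γ) := by rw [hDDbot]; exact bot_le
    have hcomVD : ⁅V, D⁆ ≤ V := by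
      rw [Subgroup.commutator_le]
      intro v hv a ha
      rw [commutatorElement_def]
      have h1 : a * v⁻¹ * a⁻¹ ∈ V :=
        (Subgroup.mem_normalizer_iff.mp (hDV ha) v⁻¹).mp (V.inv_mem hv)
      have : v * a * v⁻¹ * a⁻¹ = v * (a * v⁻¹ * a⁻¹) := by group
      rw [this]; exact V.mul_mem hv h1
    obtain ⟨Ds, hDsD, hDs⟩ := Cfsg.Agent.S0598.result V D hV hDV habV V le_rfl
    rcases hDs with hlt | ⟨hDseq, hcv, hprod⟩
    · exact absurd (hDi Ds hDsD) (by omega)
    have hDsC : Ds ≤ Subgroup.centralizer ((⁅V, D⁆ : Subgroup Γ) : Set Γ) := by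
      rw [hDseq]; exact inf_le_right
    have hDsM : Ds ≤ M := hDsD.trans hDM
    have hsq : ∀ a ∈ Ds, a ^ 2 ∈ Subgroup.centralizer (V : Set Γ) := by
      intro a ha
      rw [Subgroup.mem_centralizer_iff]
      intro v hv
      have haN := hDV (hDsD ha)
      have hcV : a * v * a⁻¹ * v⁻¹ ∈ V :=
        V.mul_mem ((Subgroup.mem_normalizer_iff.mp haN v).mp hv) (V.inv_mem hv)
      have hcc : a * v * a⁻¹ * v⁻¹ ∈ (⁅V, D⁆ : Subgroup Γ) := by
        have h1 : ⁅v, a⁆ ∈ ⁅V, D⁆ := Subgroup.commutator_mem_commutator hv (hDsD ha)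
        have h2 := Subgroup.inv_mem _ h1
        have e : a * v * a⁻¹ * v⁻¹ = ⁅v, a⁆⁻¹ := by rw [commutatorElement_def]; group
        rw [e]; exact h2
      have hac : (a * v * a⁻¹ * v⁻¹) * a = a * (a * v * a⁻¹ * v⁻¹) :=
        Subgroup.mem_centralizer_iff.mp (hDsC ha) _ hcc
      have h1 : a * v = (a * v * a⁻¹ * v⁻¹) * v * a := by group
      exact (sq_comm_aux h1 hac (hV2 _ hcV)).symm
    have hDsBO : IsBestOffenderOn 2 V Ds := by
      refine ⟨?_, (Subgroup.commutator_mono hDsD hDsD).trans habV, hsq⟩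
      intro B hB
      have := hDi B (hB.trans hDsD)
      omega
    have hDs2 : ∀ a ∈ Ds, a ^ 2 = 1 := fun a ha =>
      hMtriv _ (M.pow_mem (hDsM ha) 2) (hsq a ha)
    by_cases hDsD' : Ds = D
    · exact hDs2 d (hDsD' ▸ hd)
    have hDsne : Ds ≠ ⊥ := by
      intro hDs1
      apply hD1
      rw [hDs1, Cfsg.Agent.Helper21.inf_centralizer_bot] at hcv
      have hX : ⁅V, D⁆ ≤ ⁅⁅V, D⁆, D⁆ := by
        rw [Subgroup.commutator_le]
        intro v hv b hb
        rw [hcv] at hv
        have hnorm : V ⊓ Subgroup.centralizer (D : Set Γ) ≤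
            Subgroup.normalizer ((⁅V, D⁆ : Subgroup Γ) : Set Γ) := by
          intro c hc
          have hcV := (Subgroup.mem_inf.mp hc).1
          have : c ∈ Subgroup.centralizer ((⁅V, D⁆ : Subgroup Γ) : Set Γ) := by
            rw [Subgroup.mem_centralizer_iff]
            intro x hx
            exact hVc x (hcomVD hx) c hcV
          exact Subgroup.centralizer_le_normalizer _ this
        obtain ⟨x, hx, c, hc, rfl⟩ := mem_sup_aux hnorm hv
        have hcb : c * b = b * c :=
          (Subgroup.mem_centralizer_iff.mp (Subgroup.mem_inf.mp hc).2 b hb).symm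
        have e : ⁅x * c, b⁆ = ⁅x, b⁆ := by
          rw [commutatorElement_def, commutatorElement_def]
          calc x * c * b * (x * c)⁻¹ * b⁻¹ = x * (c * b) * c⁻¹ * x⁻¹ * b⁻¹ := by group
            _ = x * (b * c) * c⁻¹ * x⁻¹ * b⁻¹ := by rw [hcb]
            _ = x * b * x⁻¹ * b⁻¹ := by group
        rw [e]
        exact Subgroup.commutator_mem_commutator hx hb
      have hT : IsPGroup 2 ↥(D ⊔ V) := IsPGroup.to_sup_of_normal_right' hD2 hVp hDV
      have hXbot : ⁅V, D⁆ = ⊥ :=
        nil_aux (p := 2) (D ⊔ V) (⁅V, D⁆) D hT (hcomVD.trans le_sup_right) le_sup_left hX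
      have h3 : D ≤ Subgroup.centralizer (V : Set Γ) := by
        rw [Subgroup.le_centralizer_iff]
        exact (Subgroup.commutator_eq_bot_iff_le_centralizer).mp hXbot
      rw [eq_bot_iff]
      intro x hx
      rw [Subgroup.mem_bot]
      exact hMtriv x (hDM hx) (h3 hx)
    have hDsH : Ds ≤ H := by rw [hHdef]; exact le_H0 V M hDsM hDsBO
    have hH1 : H ≠ ⊥ := fun h => hDsne (le_bot_iff.mp (h ▸ hDsH))
    have hVDs : ⁅V, Ds⁆ ≠ ⊥ := by
      intro h
      apply hDsne
      have h1 : V ≤ Subgroup.centralizer (Ds : Set Γ) :=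
        Subgroup.commutator_eq_bot_iff_le_centralizer.mp h
      have h2 : Ds ≤ Subgroup.centralizer (V : Set Γ) := Subgroup.le_centralizer_iff.mp h1
      rw [eq_bot_iff]
      intro x hx
      rw [Subgroup.mem_bot]
      exact hMtriv x (hDsM hx) (h2 hx)
    obtain ⟨B, hB𝒮, hBmin⟩ := Set.exists_min_image
      {B : Subgroup Γ | B ≤ Ds ∧ IsBestOffenderOn 2 V B ∧ ⁅V, B⁆ ≠ ⊥}
      (fun B : Subgroup Γ => Nat.card B) (Set.toFinite _) ⟨Ds, le_rfl, hDsBO, hVDs⟩
    obtain ⟨hBDs, hBbo, hBV⟩ := hB𝒮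
    have hmin : ∀ C : Subgroup Γ, C ≤ B → IsBestOffenderOn 2 V C → ⁅V, C⁆ ≠ ⊥ → C = B :=
      fun C hCB hC hCV => Subgroup.eq_of_le_of_card_ge hCB (hBmin C ⟨hCB.trans hBDs, hC, hCV⟩)
    have hBH : B ≤ H := hBDs.trans hDsH
    have hBD : B ≤ D := hBDs.trans hDsD
    obtain ⟨hBcard, hVBcard, -⟩ :=
      Cfsg.Agent.S0611.result V H hV hHV hHf hS1 hS3 hH1 B hBH hBbo hBV hmin
    have h616 := Cfsg.Agent.S0616.result V H hV hHV hHf hS1 hS3 hH1 B hBH hBbo hBV hmin
    obtain ⟨K, hK⟩ : ∃ K : Subgroup Γ, K = (pPrimeCore 2 ↥H).map H.subtype := ⟨_, rfl⟩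
    rw [← hK] at h616
    obtain ⟨E, hE⟩ : ∃ E : Subgroup Γ, E = ⁅K, B⁆ ⊔ B := ⟨_, rfl⟩
    rw [← hE] at h616
    obtain ⟨-, -, hVE4, -, -, -, hE7, -, -⟩ := h616
    obtain ⟨b, hbB, hb1, hBel⟩ := card_two_elems B hBcard
    have hbD : b ∈ D := hBD hbB
    have hbDs : b ∈ Ds := hBDs hbB
    have hb2 : b * b = 1 := by rw [← pow_two]; exact hDs2 b hbDs
    have hKH : K ≤ H := by rw [hK]; exact Subgroup.map_subtype_le _
    have hEH : E ≤ H := by
      rw [hE]
      refine sup_le ?_ hBH
      rw [Subgroup.commutator_le]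
      intro k hk x hx
      rw [commutatorElement_def]
      exact H.mul_mem (H.mul_mem (H.mul_mem (hKH hk) (hBH hx)) (H.inv_mem (hKH hk)))
        (H.inv_mem (hBH hx))
    have hbE : b ∈ E := by rw [hE]; exact le_sup_right (a := ⁅K, B⁆) hbB
    obtain ⟨VE, hVEdef⟩ : ∃ VE : Subgroup Γ, VE = ⁅V, E⁆ := ⟨_, rfl⟩
    rw [← hVEdef] at hVE4 hE7
    have hbVE : b ∉ Subgroup.centralizer (VE : Set Γ) := by
      intro h
      have : b ∈ E ⊓ (H ⊓ Subgroup.centralizer (VE : Set Γ)) :=
        Subgroup.mem_inf.mpr ⟨hbE, Subgroup.mem_inf.mpr ⟨hBH hbB, h⟩⟩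
      rw [hE7, Subgroup.mem_bot] at this
      exact hb1 this
    have hEV : E ≤ Subgroup.normalizer (V : Set Γ) := hEH.trans hHV
    have hVEV : VE ≤ V := by
      rw [hVEdef, Subgroup.commutator_le]
      intro v hv a ha
      rw [commutatorElement_def]
      have h1 : a * v⁻¹ * a⁻¹ ∈ V :=
        (Subgroup.mem_normalizer_iff.mp (hEV ha) v⁻¹).mp (V.inv_mem hv)
      have : v * a * v⁻¹ * a⁻¹ = v * (a * v⁻¹ * a⁻¹) := by group
      rw [this]; exact V.mul_mem hv h1
    have hDN : D ≤ Subgroup.normalizer (VE : Set Γ) := by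
      intro x hx
      have hxH : x ∈ Subgroup.normalizer (H : Set Γ) := hMH (hDM hx)
      have hxK : x ∈ Subgroup.normalizer (K : Set Γ) := by
        rw [hK]; exact Cfsg.Agent.Helper21.ppc_normalizer (p := 2) H x hxH
      have hxB : x ∈ Subgroup.normalizer (B : Set Γ) := by
        apply Subgroup.centralizer_le_normalizer
        rw [Subgroup.mem_centralizer_iff]
        intro y hy
        exact hDab y (hBD hy) x hx
      have hxKB := Cfsg.Agent.Helper21.comm_normalizer K B x hxK hxB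
      have hxE : x ∈ Subgroup.normalizer (E : Set Γ) := by
        apply Cfsg.Agent.Helper21.mem_normalizer_of_map_eq
        rw [hE, Subgroup.map_sup, Cfsg.Agent.Helper21.map_conj_eq_self _ x hxKB,
          Cfsg.Agent.Helper21.map_conj_eq_self _ x hxB]
      rw [hVEdef]
      exact Cfsg.Agent.Helper21.comm_normalizer V E x (hDV hx) hxE
    obtain ⟨v, hvVE, hvb⟩ : ∃ v ∈ VE, v * b ≠ b * v := by
      by_contra hcon
      push Not at hcon
      exact hbVE (Subgroup.mem_centralizer_iff.mpr hcon)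
    have hvV : v ∈ V := hVEV hvVE
    obtain ⟨u, hu⟩ : ∃ u : Γ, u = b * v * b⁻¹ * v⁻¹ := ⟨_, rfl⟩
    have hbinv : b⁻¹ = b := inv_eq_of_mul_eq_one_left hb2
    have hvinv : v⁻¹ = v := inv_eq_of_mul_eq_one_left (hV2 v hvV)
    have hbvb : b * v * b⁻¹ ∈ VE := (Subgroup.mem_normalizer_iff.mp (hDN hbD) v).mp hvVE
    have huVE : u ∈ VE := by rw [hu]; exact VE.mul_mem hbvb (VE.inv_mem hvVE)
    have huV : u ∈ V := hVEV huVE
    have hbv : b * v = u * v * b := by rw [hu]; group
    have hu1 : u ≠ 1 := by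
      intro h
      rw [h, one_mul] at hbv
      exact hvb hbv.symm
    have hbu : b * u = u * b := by
      have hcomm : (b * v * b⁻¹) * v = v * (b * v * b⁻¹) := hVc _ (hVEV hbvb) v hvV
      rw [hbinv] at hcomm
      have hu' : u = b * v * b * v := by rw [hu, hbinv, hvinv]
      calc b * u = b * (b * v * b * v) := by rw [hu']
        _ = (b * b) * v * b * v := by group
        _ = v * b * v := by rw [hb2, one_mul]
        _ = (v * (b * v * b)) * b := by
              have : v * (b * v * b) * b = v * b * v * (b * b) := by group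
              rw [this, hb2, mul_one]
        _ = (b * v * b * v) * b := by rw [← hcomm]
        _ = u * b := by rw [hu']
    have hv1 : v ≠ 1 := by
      intro h; apply hvb; rw [h, one_mul, mul_one]
    have huv : u ≠ v := by
      intro h; apply hvb; rw [← h]; exact hbu.symm
    have hu2 : u * u = 1 := hV2 u huV
    have huv1 : u * v ≠ 1 := by
      intro h
      have : u = v⁻¹ := eq_inv_of_mul_eq_one_left h
      rw [hvinv] at this
      exact huv this
    have hVEel := four_elems VE (by rw [hVE4]; norm_num) u v huVE hvVE hu1 hv1 huv huv1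
    have hbvb' : b * v * b⁻¹ = u * v := by rw [hu]; group
    have hA : ∀ x ∈ D, x ∈ Subgroup.centralizer (VE : Set Γ) ∨
        x * b ∈ Subgroup.centralizer (VE : Set Γ) := by
      intro x hx
      have hxb : x * b = b * x := hDab x hx b hbD
      have hxbx : x * b * x⁻¹ = b := by rw [hxb]; group
      have hw : x * v * x⁻¹ ∈ VE := (Subgroup.mem_normalizer_iff.mp (hDN hx) v).mp hvVE
      have hxu : x * u * x⁻¹ = b * (x * v * x⁻¹) * b⁻¹ * (x * v * x⁻¹)⁻¹ := by
        have : x * u * x⁻¹ =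
            (x * b * x⁻¹) * (x * v * x⁻¹) * (x * b * x⁻¹)⁻¹ * (x * v * x⁻¹)⁻¹ := by
          rw [hu]; group
        rw [this, hxbx]
      have hcent : ∀ y : Γ, y * u = u * y → y * v = v * y →
          y ∈ Subgroup.centralizer (VE : Set Γ) := by
        intro y hyu hyv
        rw [Subgroup.mem_centralizer_iff]
        intro z hz
        rcases hVEel z hz with h | h | h | h
        · rw [h, one_mul, mul_one]
        · rw [h]; exact hyu.symm
        · rw [h]; exact hyv.symm
        · rw [h]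
          calc u * v * y = u * (v * y) := by group
            _ = u * (y * v) := by rw [hyv]
            _ = (u * y) * v := by group
            _ = (y * u) * v := by rw [hyu]
            _ = y * (u * v) := by group
      rcases hVEel _ hw with h | h | h | h
      · exfalso
        apply hv1
        calc v = x⁻¹ * (x * v * x⁻¹) * x := by group
          _ = 1 := by rw [h]; group
      · exfalso
        rw [h] at hxu
        have h1 : b * u * b⁻¹ * u⁻¹ = 1 := by rw [hbu]; group
        rw [h1] at hxu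
        apply hu1
        calc u = x⁻¹ * (x * u * x⁻¹) * x := by group
          _ = 1 := by rw [hxu]; group
      · left
        have hxv : x * v = v * x := by
          calc x * v = (x * v * x⁻¹) * x := by group
            _ = v * x := by rw [h]
        have hxu' : x * u = u * x := by
          rw [h, ← hu] at hxu
          calc x * u = (x * u * x⁻¹) * x := by group
            _ = u * x := by rw [hxu]
        exact hcent x hxu' hxv
      · right
        have hxu' : x * u = u * x := by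
          rw [h] at hxu
          have h1 : b * (u * v) * b⁻¹ * (u * v)⁻¹ = u := by
            have : b * (u * v) * b⁻¹ * (u * v)⁻¹ =
                (b * u) * b⁻¹ * (b * v * b⁻¹) * v⁻¹ * u⁻¹ := by group
            rw [this, hbu, hbvb']
            group
          rw [h1] at hxu
          calc x * u = (x * u * x⁻¹) * x := by group
            _ = u * x := by rw [hxu]
        have hxv : x * v = u * v * x := by
          calc x * v = (x * v * x⁻¹) * x := by group
            _ = u * v * x := by rw [h]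
        apply hcent
        · calc x * b * u = x * (b * u) := by group
            _ = x * (u * b) := by rw [hbu]
            _ = (x * u) * b := by group
            _ = (u * x) * b := by rw [hxu']
            _ = u * (x * b) := by group
        · calc x * b * v = x * (b * v) := by group
            _ = x * (u * v * b) := by rw [hbv]
            _ = (x * u) * v * b := by group
            _ = (u * x) * v * b := by rw [hxu']
            _ = u * (x * v) * b := by group
            _ = u * (u * v * x) * b := by rw [hxv]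
            _ = (u * u) * v * (x * b) := by group
            _ = v * (x * b) := by rw [hu2, one_mul]
    obtain ⟨D1, hD1def⟩ : ∃ D1 : Subgroup Γ, D1 = D ⊓ Subgroup.centralizer (VE : Set Γ) :=
      ⟨_, rfl⟩
    have hD1D : D1 ≤ D := by rw [hD1def]; exact inf_le_left
    have hD1C : D1 ≤ Subgroup.centralizer (VE : Set Γ) := by rw [hD1def]; exact inf_le_right
    have hD1mem : ∀ x ∈ D, x ∈ Subgroup.centralizer (VE : Set Γ) → x ∈ D1 := by
      intro x hx hxc; rw [hD1def]; exact Subgroup.mem_inf.mpr ⟨hx, hxc⟩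
    have hbD1 : b ∉ D1 := fun h => hbVE (hD1C h)
    have hBD1 : B ⊔ D1 = D := by
      apply le_antisymm (sup_le hBD hD1D)
      intro x hx
      rcases hA x hx with h | h
      · exact le_sup_right (a := B) (hD1mem x hx h)
      · have h1 : x * b ∈ D1 := hD1mem _ (D.mul_mem hx hbD) h
        have h2 : x = (x * b) * b⁻¹ := by group
        rw [h2]
        exact (B ⊔ D1).mul_mem (le_sup_right (a := B) h1)
          ((B ⊔ D1).inv_mem (le_sup_left (b := D1) hbB))
    have hVBel : ∀ x ∈ (⁅V, B⁆ : Subgroup Γ), x = 1 ∨ x = u := by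
      obtain ⟨c, hc, hc1, hcel⟩ := card_two_elems _ hVBcard
      have huVB : u ∈ (⁅V, B⁆ : Subgroup Γ) := by
        have h1 : ⁅b, v⁆ ∈ ⁅B, V⁆ := Subgroup.commutator_mem_commutator hbB hvV
        rw [Subgroup.commutator_comm B V, commutatorElement_def] at h1
        rw [hu]; exact h1
      have huc : u = c := by
        rcases hcel u huVB with h | h
        · exact absurd h hu1
        · exact h
      intro x hx
      rw [huc]; exact hcel x hx
    have hI1 : ∀ B1 : Subgroup Γ, B1 ≤ D1 →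
        Nat.card ↥(V ⊓ Subgroup.centralizer (B1 : Set Γ)) =
          2 * Nat.card ↥(V ⊓ Subgroup.centralizer ((B ⊔ B1 : Subgroup Γ) : Set Γ)) := by
      intro B1 hB1
      refine card_cent_two V B B1 b v u hVc hV2 hbB hBel hVBel hvV ?_ hbv hu1 huV
      rw [Subgroup.mem_centralizer_iff]
      intro t ht
      exact (Subgroup.mem_centralizer_iff.mp (hD1C (hB1 ht)) v hvVE).symm
    have hI2 : ∀ B1 : Subgroup Γ, B1 ≤ D1 → Nat.card ↥(B ⊔ B1) = 2 * Nat.card B1 := by
      intro B1 hB1
      exact card_sup_two B B1 b hbB hBel hb2 (fun t ht => hDab b hbD t (hD1D (hB1 ht)))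
        (fun h => hbD1 (hB1 h))
    have hD1i : ∀ B1 : Subgroup Γ, B1 ≤ D1 →
        Nat.card B1 * Nat.card ↥(V ⊓ Subgroup.centralizer (B1 : Set Γ)) ≤
          Nat.card D1 * Nat.card ↥(V ⊓ Subgroup.centralizer (D1 : Set Γ)) := by
      intro B1 hB1
      have e1 := hI1 B1 hB1
      have e2 := hI2 B1 hB1
      have e3 := hI1 D1 le_rfl
      have e4 := hI2 D1 le_rfl
      rw [hBD1] at e3 e4
      have e5 := hDi (B ⊔ B1) (sup_le hBD (hB1.trans hD1D))
      rw [e2, e4] at e5
      rw [e1, e3]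
      nlinarith [e5]
    have hD1lt : Nat.card D1 < Nat.card D := by
      by_contra hge
      push Not at hge
      have := Subgroup.eq_of_le_of_card_ge hD1D hge
      exact hbD1 (this ▸ hbD)
    have ih' := ih D1 (by omega) (hD1D.trans hDM) (hD2.to_le hD1D)
      (fun a ha c hc => hDab a (hD1D ha) c (hD1D hc)) hD1i
    rcases hA d hd with h | h
    · exact ih' d (hD1mem d hd h)
    · have h1 : (d * b) ^ 2 = 1 := ih' (d * b) (hD1mem _ (D.mul_mem hd hbD) h)
      have hdb : d * b = b * d := hDab d hd b hbD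
      calc d ^ 2 = (d * b) ^ 2 := by
            rw [pow_two, pow_two]
            calc d * d = d * d * (b * b) := by rw [hb2, mul_one]
              _ = d * (d * b) * b := by group
              _ = d * (b * d) * b := by rw [hdb]
              _ = d * b * (d * b) := by group
        _ = 1 := h1

end Cfsg.Agent.Helper5.AbOff
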