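import Mathlib
import Cfsg.Prelude.Def_Solvable
import Cfsg.Agent.Helper5.PStabSolv
import Cfsg.Agent.Helper10.PComp

set_option autoImplicit false
set_option linter.style.haveILetI false

/-! An element of order four acting cubically on a module over the field with two elements, inside
a solvable group with trivial `O_2`: its square is not a transvection.  Everything is an explicit
computation with three vectors. -/

namespace Cfsg.Agent.Helper5.Cubic

theorem odd_pow_smul {Γ V : Type*} [Group Γ] [AddCommGroup V] [DistribMulAction Γ V]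
    (f : Γ) (m : ℕ) (hm : Odd m) (hfm : f ^ m = 1) (v : V) (h : f • f • v = v) : f • v = v := by
  obtain ⟨j, rfl⟩ := hm
  have key : ∀ i : ℕ, f ^ (2 * i) • v = v := by
    intro i
    induction i with
    | zero => simp
    | succ i ih =>
      rw [show 2 * (i + 1) = 2 * i + 1 + 1 by ring, pow_succ, pow_succ, mul_smul, mul_smul, h]
      exact ih
  have h1 : f ^ (2 * j + 1) • v = v := by rw [hfm, one_smul]
  rw [pow_succ', mul_smul, key] at h1
  exact h1

theorem four_pow_smul {Γ V : Type*} [Group Γ] [AddCommGroup V] [DistribMulAction Γ V]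
    (g : Γ) (m : ℕ) (hm : Odd m) (hgm : g ^ m = 1) (a : V) (h4 : g • g • g • g • a = a) :
    g • a = a := by
  have e : (g * g) ^ m = 1 := by
    rw [← pow_two, ← pow_mul, mul_comm, pow_mul, hgm, one_pow]
  have h1 := odd_pow_smul (g * g) m hm e a (by simp only [mul_smul]; exact h4)
  rw [mul_smul] at h1
  exact odd_pow_smul g m hm hgm a h1

/-- An element `f` of odd order inverted by a transvection `t` with centre `u`: `f` has order
three on the plane spanned by `u` and `f u`. -/
theorem inv_struct {Γ V : Type*} [Group Γ] [AddCommGroup V] [DistribMulAction Γ V]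
    (h2 : ∀ v : V, v + v = 0) (t f : Γ) (u : V) (hu : u ≠ 0)
    (ht : ∀ v : V, t • v = v ∨ t • v = v + u) (htu : t • u = u)
    (hinv : t * f = f⁻¹ * t)
    (m : ℕ) (hm : Odd m) (hfm : f ^ m = 1) (hfne : ∃ v : V, f • v ≠ v) :
    f • u ≠ u ∧ f • u ≠ 0 ∧ f • f • u = f • u + u ∧ t • f • u = f • u + u ∧
      ∀ v : V, f • v = v ∨ f • v = v + u ∨ f • v = v + f • u ∨ f • v = v + (f • u + u) := by
  obtain ⟨j, hj⟩ := hm
  obtain ⟨h, hh⟩ : ∃ h : Γ, h = f ^ (j + 1) := ⟨_, rfl⟩
  have hhh : h * h = f := by
    rw [hh, ← pow_add]
    have : j + 1 + (j + 1) = m + 1 := by omega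
    rw [this, pow_succ, hfm, one_mul]
  have hth : t * h = h⁻¹ * t := by
    rw [hh]
    have key : ∀ n : ℕ, t * f ^ n = (f ^ n)⁻¹ * t := by
      intro n
      induction n with
      | zero => simp
      | succ n ih =>
        calc t * f ^ (n + 1) = (t * f ^ n) * f := by rw [pow_succ, mul_assoc]
          _ = (f ^ n)⁻¹ * (t * f) := by rw [ih, mul_assoc]
          _ = (f ^ n)⁻¹ * (f⁻¹ * t) := by rw [hinv]
          _ = (f ^ (n + 1))⁻¹ * t := by rw [pow_succ', mul_inv_rev, mul_assoc]
    exact key (j + 1)
  have hf_eq : f = t⁻¹ * h⁻¹ * t * h := by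
    calc f = h * h := hhh.symm
      _ = t⁻¹ * (t * h) * h := by group
      _ = t⁻¹ * (h⁻¹ * t) * h := by rw [hth]
      _ = t⁻¹ * h⁻¹ * t * h := by group
  obtain ⟨u', hu'⟩ : ∃ u' : V, u' = h⁻¹ • u := ⟨_, rfl⟩
  have htinv : ∀ w : V, t⁻¹ • w = w ∨ t⁻¹ • w = w + u := by
    intro w
    rcases ht (t⁻¹ • w) with e | e
    · left; rw [smul_inv_smul] at e; exact e.symm
    · right
      rw [smul_inv_smul] at e
      linear_combination (norm := abel) e.symm + (h2 u).symm
  have hshape : ∀ v : V, f • v = v ∨ f • v = v + u ∨ f • v = v + u' ∨ f • v = v + (u' + u) := by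
    intro v
    have e0 : f • v = t⁻¹ • h⁻¹ • t • h • v := by
      rw [← mul_smul, ← mul_smul, ← mul_smul, ← hf_eq]
    rcases ht (h • v) with e1 | e1
    · rw [e1, inv_smul_smul] at e0
      rcases htinv v with e2 | e2
      · left; rw [e0, e2]
      · right; left; rw [e0, e2]
    · rw [e1, smul_add, inv_smul_smul, ← hu', smul_add] at e0
      rcases htinv v with e2 | e2 <;> rcases htinv u' with e3 | e3
      · right; right; left; rw [e0, e2, e3]
      · right; right; right; rw [e0, e2, e3]
      · right; right; right; rw [e0, e2, e3]; abel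
      · right; right; left; rw [e0, e2, e3]; linear_combination (norm := abel) h2 u
  have hfu : f • u ≠ u := by
    intro hfu
    have hpow : ∀ n : ℕ, f ^ n • u = u := by
      intro n
      induction n with
      | zero => simp
      | succ n ih => rw [pow_succ, mul_smul, hfu, ih]
    have hu'u : u' = u := by
      rw [hu', inv_smul_eq_iff, hh, hpow]
    have hsq : ∀ v : V, f • f • v = v := by
      intro v
      rcases hshape v with e | e | e | e
      · rw [e, e]
      · rw [e, smul_add, e, hfu]; linear_combination (norm := abel) h2 u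
      · rw [hu'u] at e; rw [e, smul_add, e, hfu]; linear_combination (norm := abel) h2 u
      · rw [hu'u, h2, add_zero] at e; rw [e, e]
    obtain ⟨v, hv⟩ := hfne
    exact hv (odd_pow_smul f m ⟨j, hj⟩ hfm v (hsq v))
  have hfu0 : f • u ≠ 0 := by
    intro h0
    apply hu
    have := congrArg (fun x => f⁻¹ • x) h0
    simpa using this
  have hta : t • f • u = f⁻¹ • u := by
    rw [← mul_smul, hinv, mul_smul, htu]
  have hta' : t • f • u = f • u + u := by
    rcases ht (f • u) with e | e
    · exfalso
      rw [hta] at e
      apply hfu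
      apply odd_pow_smul f m ⟨j, hj⟩ hfm u
      rw [← e, smul_inv_smul]
    · exact e
  have hfa : f • f • u = f • u + u := by
    have e := hta'
    rw [hta] at e
    have e' := congrArg (fun x => f • x) e
    simp only [smul_inv_smul, smul_add] at e'
    linear_combination (norm := abel) e'.symm + (h2 (f • u)).symm
  have hu'cases : u' = f • u ∨ u' = f • u + u := by
    rcases hshape u with e | e | e | e
    · exact absurd e hfu
    · rw [h2] at e; exact absurd e hfu0
    · right
      linear_combination (norm := abel) e.symm + (h2 u).symm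
    · left
      linear_combination (norm := abel) e.symm + (h2 u).symm
  refine ⟨hfu, hfu0, hfa, hta', ?_⟩
  intro v
  rcases hu'cases with e | e
  · rw [e] at hshape; exact hshape v
  · rw [e] at hshape
    rcases hshape v with e1 | e1 | e1 | e1
    · exact Or.inl e1
    · exact Or.inr (Or.inl e1)
    · exact Or.inr (Or.inr (Or.inr e1))
    · refine Or.inr (Or.inr (Or.inl ?_))
      rw [e1]; linear_combination (norm := abel) h2 u

theorem cubic_core {Γ V : Type*} [Group Γ] [AddCommGroup V] [DistribMulAction Γ V]
    (h2 : ∀ v : V, v + v = 0) (P f : Γ) (u : V) (hu : u ≠ 0)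
    (ht : ∀ v : V, P • P • v = v ∨ P • P • v = v + u)
    (hPu : P • u = u)
    (hinv : (P * P) * f = f⁻¹ * (P * P))
    (mf : ℕ) (hmf : Odd mf) (hfm : f ^ mf = 1) (hfne : ∃ v : V, f • v ≠ v)
    (mg : ℕ) (hmg : Odd mg) (hgm : (f * (P * f * P⁻¹)) ^ mg = 1) : False := by
  have ht' : ∀ v : V, (P * P) • v = v ∨ (P * P) • v = v + u := by
    intro v; rw [mul_smul]; exact ht v
  have htu : (P * P) • u = u := by rw [mul_smul, hPu, hPu]
  obtain ⟨hfu, hfu0, hfa, hta, hshape⟩ :=
    inv_struct h2 (P * P) f u hu ht' htu hinv mf hmf hfm hfne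
  obtain ⟨a, ha⟩ : ∃ a : V, a = f • u := ⟨_, rfl⟩
  rw [← ha] at hfu hfu0 hfa hta hshape
  rw [mul_smul] at hta
  obtain ⟨b, hb⟩ : ∃ b : V, b = P • a + a := ⟨_, rfl⟩
  have hPa : P • a = a + b := by rw [hb]; linear_combination (norm := abel) (h2 a).symm
  have hPb : P • b = b + u := by
    rw [hb, smul_add, hta]
    abel
  have htb : P • P • b = b := by
    rw [hPb, smul_add, hPb, hPu]; linear_combination (norm := abel) h2 u
  have hfb : f • b = b ∨ f • b = b + (a + u) := by
    have key : ∀ x : V, f • b = b + x → f • P • P • x = x := by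
      intro x hx
      have e1 : P • P • f • b = f⁻¹ • b := by
        have := congrArg (fun y : Γ => y • b) hinv
        simp only [mul_smul] at this
        rw [this, htb]
      rw [hx, smul_add, smul_add, htb] at e1
      have e2 := congrArg (fun y => f • y) e1
      simp only [smul_add, smul_inv_smul, hx] at e2
      linear_combination (norm := abel) e2 + (h2 x).symm
    rcases hshape b with e | e | e | e
    · exact Or.inl e
    · exfalso
      have := key u e
      rw [hPu, hPu, ← ha] at this
      exact hfu this
    · exfalso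
      have := key a e
      rw [hta, smul_add, hfa, ← ha] at this
      apply hfu
      linear_combination (norm := abel) this + (h2 u).symm
    · exact Or.inr e
  have hPiu : P⁻¹ • u = u := by rw [inv_smul_eq_iff, hPu]
  have hPib : P⁻¹ • b = b + u := by
    rw [inv_smul_eq_iff, smul_add, hPb, hPu]; linear_combination (norm := abel) (h2 u).symm
  have hPia : P⁻¹ • a = a + b + u := by
    rw [inv_smul_eq_iff, smul_add, smul_add, hPa, hPb, hPu]
    linear_combination (norm := abel) (h2 b).symm + (h2 u).symm
  obtain ⟨g, hgdef⟩ : ∃ g : Γ, g = f * (P * f * P⁻¹) := ⟨_, rfl⟩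
  rw [← hgdef] at hgm
  have hg : ∀ x : V, g • x = f • P • f • P⁻¹ • x := by
    intro x; rw [hgdef]; simp only [mul_smul]
  rcases hfb with eA | eB
  · have s1 : f • P⁻¹ • a = b + u := by
      rw [hPia, smul_add, smul_add, hfa, eA, ← ha]; linear_combination (norm := abel) h2 a
    have s2 : P • f • P⁻¹ • a = b := by
      rw [s1, smul_add, hPb, hPu]; linear_combination (norm := abel) h2 u
    have ga : g • a = b := by rw [hg, s2, eA]
    have s3 : f • P⁻¹ • b = b + a := by rw [hPib, smul_add, eA, ← ha]
    have s4 : P • f • P⁻¹ • b = a + u := by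
      rw [s3, smul_add, hPb, hPa]; linear_combination (norm := abel) h2 b
    have gb : g • b = u := by
      rw [hg, s4, smul_add, hfa, ← ha]; linear_combination (norm := abel) h2 a
    have gu : g • u = a + b + u := by
      rw [hg, hPiu, ← ha, hPa, smul_add, hfa, eA]; abel
    have g4 : g • g • g • g • a = a := by
      rw [ga, gb, gu, smul_add, smul_add, ga, gb, gu]
      linear_combination (norm := abel) h2 b + h2 u
    have hga := four_pow_smul g mg hmg hgm a g4
    rw [ga] at hga
    rw [hga, h2] at hPa
    apply hfu0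
    have := congrArg (fun x => P⁻¹ • x) hPa
    simpa using this
  · have s1 : f • P⁻¹ • a = a + b := by
      rw [hPia, smul_add, smul_add, hfa, eB, ← ha]
      linear_combination (norm := abel) h2 a + h2 u
    have s2 : P • f • P⁻¹ • a = a + u := by
      rw [s1, smul_add, hPa, hPb]; linear_combination (norm := abel) h2 b
    have ga : g • a = u := by
      rw [hg, s2, smul_add, hfa, ← ha]; linear_combination (norm := abel) h2 a
    have gu : g • u = b := by
      rw [hg, hPiu, ← ha, hPa, smul_add, hfa, eB]
      linear_combination (norm := abel) h2 a + h2 u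
    have s3 : f • P⁻¹ • b = b + u := by
      rw [hPib, smul_add, eB, ← ha]; linear_combination (norm := abel) h2 a
    have s4 : P • f • P⁻¹ • b = b := by
      rw [s3, smul_add, hPb, hPu]; linear_combination (norm := abel) h2 u
    have gb : g • b = b + (a + u) := by rw [hg, s4, eB]
    have g4 : g • g • g • g • a = a := by
      rw [ga, gu, gb, smul_add, smul_add, gb, ga, gu]
      linear_combination (norm := abel) h2 b + h2 u
    have hga := four_pow_smul g mg hmg hgm a g4
    rw [ga] at hga
    exact hfu hga.symm

theorem four_le_ncard {V : Type*} [AddCommGroup V] [Finite V] (R : Set V) (u x : V)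
    (h0 : (0 : V) ∈ R) (hu : u ∈ R) (hx : x ∈ R) (hux : u + x ∈ R)
    (hu0 : u ≠ 0) (hx0 : x ≠ 0) (hxu : x ≠ u) (hs : u + x ≠ 0) : 4 ≤ R.ncard := by
  have hsub : ({0, u, x, u + x} : Set V) ⊆ R := by
    intro y hy
    rcases hy with h | h | h | h
    · rw [h]; exact h0
    · rw [h]; exact hu
    · rw [h]; exact hx
    · rw [Set.mem_singleton_iff] at h; rw [h]; exact hux
  have hn3 : x ∉ ({u + x} : Set V) := by
    intro h
    rw [Set.mem_singleton_iff] at h
    apply hu0
    have h' : 0 + x = u + x := by rw [zero_add]; exact h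
    exact (add_right_cancel h').symm
  have hn2 : u ∉ ({x, u + x} : Set V) := by
    intro h
    rcases h with h | h
    · exact hxu h.symm
    · rw [Set.mem_singleton_iff] at h
      apply hx0
      have h' : u + 0 = u + x := by rw [add_zero]; exact h
      exact (add_left_cancel h').symm
  have hn1 : (0 : V) ∉ ({u, x, u + x} : Set V) := by
    intro h
    rcases h with h | h | h
    · exact hu0 h.symm
    · exact hx0 h.symm
    · rw [Set.mem_singleton_iff] at h; exact hs h.symm
  have h4 : ({0, u, x, u + x} : Set V).ncard = 4 := by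
    rw [Set.ncard_insert_of_notMem hn1, Set.ncard_insert_of_notMem hn2,
      Set.ncard_insert_of_notMem hn3, Set.ncard_singleton]
  rw [← h4]
  exact Set.ncard_le_ncard hsub (Set.toFinite R)

end Cfsg.Agent.Helper5.Cubic
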