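import Mathlib
set_option autoImplicit false
namespace Cfsg.Agent.Helper5.SL2
open Polynomial

section eigen
variable {K : Type*} [Field K] [Fintype K] {p : ℕ} [Fact p.Prime] [CharP K p]
  {W : Type*} [AddCommGroup W] [Module K W] [FiniteDimensional K W]

theorem splits_X_pow_card_sub_X' : (X ^ Fintype.card K - X : K[X]).Splits := by
  rw [splits_iff_card_roots, FiniteField.roots_X_pow_card_sub_X,
    FiniteField.X_pow_card_sub_X_natDegree_eq K Fintype.one_lt_card]
  rfl

theorem X_pow_sub_one_dvd (k : ℕ) (hk : k ∣ Fintype.card K - 1) :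
    (X ^ k - 1 : K[X]) ∣ X ^ Fintype.card K - X := by
  obtain ⟨j, hj⟩ := hk
  have hq : Fintype.card K = k * j + 1 := by
    have : 1 ≤ Fintype.card K := Fintype.card_pos
    omega
  have h1 : (X ^ Fintype.card K - X : K[X]) = X * ((X ^ k) ^ j - 1 ^ j) := by
    rw [hq, one_pow, ← pow_mul]; ring
  rw [h1]
  exact Dvd.dvd.mul_left (sub_dvd_pow_sub_pow _ _ j) _

/-- an operator of order `p^e k` with `k ∣ |K| - 1` has an eigenvector -/
theorem exists_eigen_of_order [Nontrivial W] (c : Module.End K W) (e k : ℕ)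
    (hc : c ^ (p ^ e * k) = 1) (hk : k ∣ Fintype.card K - 1) :
    ∃ (l : K) (v : W), v ≠ 0 ∧ c v = l • v := by
  have h1 : aeval c ((X ^ k - 1 : K[X]) ^ (p ^ e)) = 0 := by
    rw [sub_pow_char_pow, one_pow, ← pow_mul, mul_comm k]
    simp [hc]
  have hdvd := minpoly.dvd K c h1
  have hne : (X ^ Fintype.card K - X : K[X]) ≠ 0 :=
    FiniteField.X_pow_card_sub_X_ne_zero K Fintype.one_lt_card
  have hsplit : ((X ^ k - 1 : K[X]) ^ (p ^ e)).Splits := by
    apply Splits.pow
    exact Splits.of_dvd splits_X_pow_card_sub_X' hne (X_pow_sub_one_dvd k hk)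
  have hne2 : ((X ^ k - 1 : K[X]) ^ (p ^ e)) ≠ 0 := by
    apply pow_ne_zero
    intro h0
    rw [h0] at hsplit
    have := X_pow_sub_one_dvd (K := K) k hk
    rw [h0, zero_dvd_iff] at this
    exact hne this
  have hms : (minpoly K c).Splits := Splits.of_dvd hsplit hne2 hdvd
  have hint : IsIntegral K c := Algebra.IsIntegral.isIntegral c
  have hdeg : (minpoly K c).degree ≠ 0 := (minpoly.degree_pos hint).ne'
  obtain ⟨l, hl⟩ := hms.exists_eval_eq_zero hdeg
  have hev := Module.End.hasEigenvalue_of_isRoot (f := c) hl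
  obtain ⟨v, hv⟩ := hev.exists_hasEigenvector
  exact ⟨l, v, hv.2, hv.apply_eq_smul⟩

end eigen

section red
universe u
variable {K : Type*} [Field K] {p : ℕ} [Fact p.Prime] [CharP K p]

theorem pow_p_eq_one' {d : K} (h : d ^ p = 1) : d = 1 := by
  have h1 : (d - 1) ^ p = 0 := by rw [sub_pow_char, h, one_pow, sub_self]
  exact sub_eq_zero.mp (pow_eq_zero_iff (NeZero.ne p) |>.mp h1)

theorem quad_iter {W : Type*} [AddCommGroup W] [Module K W] (g : W ≃ₗ[K] W)
    (hg : ∀ w, g (g w - w) = g w - w) (n : ℕ) (w : W) :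
    (g ^ n) w = w + (n : K) • (g w - w) := by
  induction n with
  | zero => simp
  | succ n ih =>
    rw [pow_succ', LinearEquiv.mul_apply, ih, map_add, map_smul, hg]
    push_cast
    rw [add_smul, one_smul]; abel

theorem quad_pow_p' {W : Type*} [AddCommGroup W] [Module K W] (g : W ≃ₗ[K] W)
    (hg : ∀ w, g (g w - w) = g w - w) : g ^ p = 1 := by
  ext w
  rw [quad_iter g hg, CharP.cast_eq_zero, zero_smul, add_zero]
  rfl

variable {D : Type*} [Group D] {W : Type u} [AddCommGroup W] [Module K W]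

theorem inv_of_gen (x y : D) (hD : Subgroup.closure {x, y} = ⊤) (ρ : D →* (W ≃ₗ[K] W))
    (U : Submodule K W)
    (hqx : ∀ w, ρ x (ρ x w - w) = ρ x w - w) (hqy : ∀ w, ρ y (ρ y w - w) = ρ y w - w)
    (hx : ∀ w ∈ U, ρ x w ∈ U) (hy : ∀ w ∈ U, ρ y w ∈ U) :
    ∀ (g : D) (w : W), ρ g w ∈ U ↔ w ∈ U := by
  let S : Subgroup D :=
    { carrier := {g | ∀ w : W, ρ g w ∈ U ↔ w ∈ U}
      mul_mem' := by
        intro a b ha hb w
        rw [map_mul, LinearEquiv.mul_apply, ha, hb]
      one_mem' := by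
        intro w
        rw [map_one]; rfl
      inv_mem' := by
        intro a ha w
        rw [← ha (ρ a⁻¹ w), ← LinearEquiv.mul_apply, ← map_mul, mul_inv_cancel, map_one]
        rfl }
  have key : ∀ z : D, (∀ w, ρ z (ρ z w - w) = ρ z w - w) → (∀ w ∈ U, ρ z w ∈ U) → z ∈ S := by
    intro z hq hz w
    constructor
    · intro h
      have h1 := hq w
      rw [map_sub] at h1
      have h2 : w = ρ z w - (ρ z (ρ z w) - ρ z w) := by
        rw [h1]; abel
      rw [h2]
      exact U.sub_mem h (U.sub_mem (hz _ h) h)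
    · exact hz w
  have hle : Subgroup.closure {x, y} ≤ S := by
    apply (Subgroup.closure_le _).mpr
    intro z hz
    rcases hz with h | h
    · rw [h]; exact key x hqx hx
    · rw [Set.mem_singleton_iff] at h; rw [h]; exact key y hqy hy
  intro g
  have : g ∈ S := hle (by rw [hD]; exact Subgroup.mem_top g)
  exact this

theorem map_eq_of_inv (ρ : D →* (W ≃ₗ[K] W)) (U : Submodule K W)
    (hU : ∀ (g : D) (w : W), ρ g w ∈ U ↔ w ∈ U) (g : D) :
    U.map ((ρ g : W ≃ₗ[K] W) : W →ₗ[K] W) = U := by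
  ext w
  rw [Submodule.mem_map]
  constructor
  · rintro ⟨u, hu, rfl⟩
    exact (hU g u).mpr hu
  · intro hw
    refine ⟨(ρ g).symm w, ?_, ?_⟩
    · rw [← hU g]
      simpa using hw
    · simp

/-- restriction to an invariant subspace -/
noncomputable def resHom (ρ : D →* (W ≃ₗ[K] W)) (U : Submodule K W)
    (hU : ∀ (g : D) (w : W), ρ g w ∈ U ↔ w ∈ U) : D →* (U ≃ₗ[K] U) where
  toFun g := (ρ g).ofSubmodules U U (map_eq_of_inv ρ U hU g)
  map_one' := by
    ext u
    rw [LinearEquiv.ofSubmodules_apply, map_one]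
    rfl
  map_mul' := by
    intro a b
    ext u
    rw [LinearEquiv.ofSubmodules_apply, map_mul, LinearEquiv.mul_apply, LinearEquiv.mul_apply,
      LinearEquiv.ofSubmodules_apply, LinearEquiv.ofSubmodules_apply]

theorem resHom_apply (ρ : D →* (W ≃ₗ[K] W)) (U : Submodule K W)
    (hU : ∀ (g : D) (w : W), ρ g w ∈ U ↔ w ∈ U) (g : D) (u : U) :
    ((resHom ρ U hU g u : U) : W) = ρ g (u : W) :=
  LinearEquiv.ofSubmodules_apply _ _ _

theorem quot_equiv_mk (U : Submodule K W) (f : W ≃ₗ[K] W)
    (h : U.map (f : W →ₗ[K] W) = U) (w : W) :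
    Submodule.Quotient.equiv U U f h (Submodule.Quotient.mk w) = Submodule.Quotient.mk (f w) := by
  rw [Submodule.Quotient.equiv_apply, Submodule.mapQ_apply]
  rfl

/-- action on the quotient by an invariant subspace -/
noncomputable def quotHom (ρ : D →* (W ≃ₗ[K] W)) (U : Submodule K W)
    (hU : ∀ (g : D) (w : W), ρ g w ∈ U ↔ w ∈ U) : D →* ((W ⧸ U) ≃ₗ[K] (W ⧸ U)) where
  toFun g := Submodule.Quotient.equiv U U (ρ g) (map_eq_of_inv ρ U hU g)
  map_one' := by
    ext q
    obtain ⟨w, rfl⟩ := Submodule.Quotient.mk_surjective U q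
    rw [quot_equiv_mk, map_one]
    rfl
  map_mul' := by
    intro a b
    ext q
    obtain ⟨w, rfl⟩ := Submodule.Quotient.mk_surjective U q
    rw [LinearEquiv.mul_apply, quot_equiv_mk, quot_equiv_mk, quot_equiv_mk, map_mul]
    rfl

theorem quotHom_apply (ρ : D →* (W ≃ₗ[K] W)) (U : Submodule K W)
    (hU : ∀ (g : D) (w : W), ρ g w ∈ U ↔ w ∈ U) (g : D) (w : W) :
    quotHom ρ U hU g (Submodule.Quotient.mk w) = Submodule.Quotient.mk (ρ g w) := by
  exact quot_equiv_mk U (ρ g) (map_eq_of_inv ρ U hU g) w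

theorem isPGroup_of_res_quot (ρ : D →* (W ≃ₗ[K] W)) (U : Submodule K W)
    (hU : ∀ (g : D) (w : W), ρ g w ∈ U ↔ w ∈ U)
    (h1 : IsPGroup p (resHom ρ U hU).range) (h2 : IsPGroup p (quotHom ρ U hU).range) :
    IsPGroup p ρ.range := by
  rintro ⟨_, g, rfl⟩
  obtain ⟨k1, hk1⟩ := h1 ⟨resHom ρ U hU g, g, rfl⟩
  obtain ⟨k2, hk2⟩ := h2 ⟨quotHom ρ U hU g, g, rfl⟩
  have hk1' : resHom ρ U hU g ^ p ^ k1 = 1 := congrArg Subtype.val hk1
  have hk2' : quotHom ρ U hU g ^ p ^ k2 = 1 := congrArg Subtype.val hk2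
  set g' := g ^ (p ^ k1 * p ^ k2) with hg'
  have e1 : resHom ρ U hU g' = 1 := by
    rw [hg', map_pow, pow_mul, hk1', one_pow]
  have e2 : quotHom ρ U hU g' = 1 := by
    rw [hg', map_pow, mul_comm, pow_mul, hk2', one_pow]
  have hq : ∀ w, ρ g' (ρ g' w - w) = ρ g' w - w := by
    intro w
    have hmem : ρ g' w - w ∈ U := by
      rw [← Submodule.Quotient.eq, ← quotHom_apply ρ U hU, e2]
      rfl
    have := resHom_apply ρ U hU g' ⟨_, hmem⟩
    rw [e1] at this
    exact this.symm
  have h3 := quad_pow_p' (p := p) (ρ g') hq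
  refine ⟨k1 + k2 + 1, Subtype.ext ?_⟩
  show ρ g ^ p ^ (k1 + k2 + 1) = 1
  rw [← h3, hg', map_pow, ← pow_mul]
  congr 1
  ring

theorem red_SL2_aux [Fintype K] (x y : D) (hD : Subgroup.closure {x, y} = ⊤)
    (hxy : ∃ e k : ℕ, (x * y) ^ (p ^ e * k) = 1 ∧ k ∣ Fintype.card K - 1) :
    ∀ (n : ℕ) (W : Type u) [AddCommGroup W] [Module K W] [FiniteDimensional K W]
      (ρ : D →* (W ≃ₗ[K] W)), Module.finrank K W = n →
      (∀ w, ρ x (ρ x w - w) = ρ x w - w) → (∀ w, ρ y (ρ y w - w) = ρ y w - w) →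
      ¬ IsPGroup p ρ.range →
      ∃ φ : D →* Matrix.SpecialLinearGroup (Fin 2) K, ¬ IsPGroup p φ.range := by
  classical
  intro n
  induction n using Nat.strong_induction_on with
  | _ n ih =>
  intro W _ _ _ ρ hn hqx hqy hnp
  rcases subsingleton_or_nontrivial W with hs | hnt
  · exfalso
    apply hnp
    rintro ⟨g, hg⟩
    refine ⟨0, Subtype.ext ?_⟩
    show g ^ p ^ 0 = 1
    ext w
    exact Subsingleton.elim _ _
  obtain ⟨e, k, hxyk, hk⟩ := hxy
  set c : Module.End K W := LinearEquiv.automorphismGroup.toLinearMapMonoidHom (ρ (x * y)) with hc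
  have hcp : c ^ (p ^ e * k) = 1 := by
    rw [hc, ← map_pow, ← map_pow, hxyk, map_one, map_one]
  obtain ⟨l, v, hv0, hv⟩ := exists_eigen_of_order (p := p) c e k hcp hk
  have hv' : ρ x (ρ y v) = l • v := by
    have : c v = ρ (x * y) v := rfl
    rw [this, map_mul] at hv
    exact hv
  have hl0 : l ≠ 0 := by
    intro h
    rw [h, zero_smul] at hv'
    have h1 : ρ y v = 0 := (LinearEquiv.map_eq_zero_iff _).mp hv'
    exact hv0 ((LinearEquiv.map_eq_zero_iff _).mp h1)
  set vv : Fin 2 → W := ![v, ρ y v] with hvv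
  set U : Submodule K W := Submodule.span K (Set.range vv) with hUdef
  have hvU : v ∈ U := Submodule.subset_span ⟨0, rfl⟩
  have hyvU : ρ y v ∈ U := Submodule.subset_span ⟨1, rfl⟩
  have hfw : ∀ f : W ≃ₗ[K] W, f v ∈ U → f (ρ y v) ∈ U → ∀ w ∈ U, f w ∈ U := by
    intro f h0 h1 w hw
    have : U ≤ U.comap (f : W →ₗ[K] W) := by
      rw [hUdef, Submodule.span_le]
      rintro _ ⟨i, rfl⟩
      fin_cases i
      · exact h0
      · exact h1
    exact this hw
  have hyy : ρ y (ρ y v) = ρ y v + ρ y v - v := by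
    have := hqy v
    rw [map_sub] at this
    rw [sub_eq_iff_eq_add] at this
    rw [this]; abel
  have hxv : ρ x v = l⁻¹ • (l • v + l • v - ρ y v) := by
    have := hqx (ρ y v)
    rw [hv', map_sub, map_smul, hv'] at this
    have h2 : l • ρ x v = l • v + l • v - ρ y v := by
      rw [sub_eq_iff_eq_add] at this
      rw [this]; abel
    rw [← h2, smul_smul, inv_mul_cancel₀ hl0, one_smul]
  have hxU : ∀ w ∈ U, ρ x w ∈ U := by
    apply hfw
    · rw [hxv]
      exact U.smul_mem _ (U.sub_mem (U.add_mem (U.smul_mem _ hvU) (U.smul_mem _ hvU)) hyvU)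
    · rw [hv']; exact U.smul_mem _ hvU
  have hyU : ∀ w ∈ U, ρ y w ∈ U := by
    apply hfw
    · exact hyvU
    · rw [hyy]; exact U.sub_mem (U.add_mem hyvU hyvU) hvU
  have hU := inv_of_gen x y hD ρ U hqx hqy hxU hyU
  set ρU := resHom ρ U hU with hρU
  set ρQ := quotHom ρ U hU with hρQ
  have hqxU : ∀ u, ρU x (ρU x u - u) = ρU x u - u := by
    intro u
    apply Subtype.ext
    rw [resHom_apply, Submodule.coe_sub, resHom_apply]
    exact hqx u
  have hqyU : ∀ u, ρU y (ρU y u - u) = ρU y u - u := by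
    intro u
    apply Subtype.ext
    rw [resHom_apply, Submodule.coe_sub, resHom_apply]
    exact hqy u
  have hqxQ : ∀ q, ρQ x (ρQ x q - q) = ρQ x q - q := by
    intro q
    obtain ⟨w, rfl⟩ := Submodule.Quotient.mk_surjective U q
    rw [quotHom_apply, ← Submodule.Quotient.mk_sub, quotHom_apply, hqx]
  have hqyQ : ∀ q, ρQ y (ρQ y q - q) = ρQ y q - q := by
    intro q
    obtain ⟨w, rfl⟩ := Submodule.Quotient.mk_surjective U q
    rw [quotHom_apply, ← Submodule.Quotient.mk_sub, quotHom_apply, hqy]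
  by_cases hQ : IsPGroup p ρQ.range
  swap
  · have hlt : Module.finrank K (W ⧸ U) < n := by
      have h1 := Submodule.finrank_quotient_add_finrank U
      have h2 : 0 < Module.finrank K U :=
        Module.finrank_pos_iff_exists_ne_zero.mpr ⟨⟨v, hvU⟩, fun h => hv0 (congrArg Subtype.val h)⟩
      omega
    exact ih _ hlt (W ⧸ U) ρQ rfl hqxQ hqyQ hQ
  have hU' : ¬ IsPGroup p ρU.range := fun h => hnp (isPGroup_of_res_quot ρ U hU h hQ)
  by_cases hli : LinearIndependent K vv
  · let 𝔟 : Module.Basis (Fin 2) K U := Module.Basis.span hli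
    let N : (U ≃ₗ[K] U) →* Matrix (Fin 2) (Fin 2) K :=
      ((LinearMap.toMatrixAlgEquiv 𝔟 : (U →ₗ[K] U) ≃ₐ[K] Matrix (Fin 2) (Fin 2) K) :
        (U →ₗ[K] U) →* Matrix (Fin 2) (Fin 2) K).comp
        LinearEquiv.automorphismGroup.toLinearMapMonoidHom
    have hNinj : Function.Injective N := by
      intro f g hfg
      have h1 : (LinearMap.toMatrixAlgEquiv 𝔟) (f : U →ₗ[K] U) =
          (LinearMap.toMatrixAlgEquiv 𝔟) (g : U →ₗ[K] U) := hfg
      have h2 := (LinearMap.toMatrixAlgEquiv 𝔟).injective h1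
      exact LinearEquiv.toLinearMap_injective h2
    have hdet : ∀ g : D, (N (ρU g)).det = 1 := by
      let Φ : D →* K := (Matrix.detMonoidHom).comp (N.comp ρU)
      have key : ∀ z : D, (∀ u, ρU z (ρU z u - u) = ρU z u - u) → z ∈ Φ.ker := by
        intro z hz
        rw [MonoidHom.mem_ker]
        have h1 : ρU z ^ p = 1 := quad_pow_p' (p := p) (ρU z) hz
        have h2 : Φ z ^ p = 1 := by
          show (Matrix.detMonoidHom (N (ρU z))) ^ p = 1
          rw [← map_pow, ← map_pow, h1, map_one, map_one]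
        exact pow_p_eq_one' (p := p) h2
      have hle : Subgroup.closure {x, y} ≤ Φ.ker := by
        apply (Subgroup.closure_le _).mpr
        intro z hz
        rcases hz with h | h
        · rw [h]; exact key x hqxU
        · rw [Set.mem_singleton_iff] at h; rw [h]; exact key y hqyU
      intro g
      have : g ∈ Φ.ker := hle (by rw [hD]; exact Subgroup.mem_top g)
      exact MonoidHom.mem_ker.mp this
    let φ : D →* Matrix.SpecialLinearGroup (Fin 2) K :=
      { toFun := fun g => ⟨N (ρU g), hdet g⟩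
        map_one' := by
          apply Subtype.ext
          show N (ρU 1) = 1
          rw [map_one, map_one]
        map_mul' := by
          intro a b
          apply Subtype.ext
          show N (ρU (a * b)) = N (ρU a) * N (ρU b)
          rw [map_mul, map_mul] }
    refine ⟨φ, fun h => hU' ?_⟩
    rintro ⟨_, g, rfl⟩
    obtain ⟨j, hj⟩ := h ⟨φ g, g, rfl⟩
    refine ⟨j, Subtype.ext ?_⟩
    show ρU g ^ p ^ j = 1
    have h1 : φ g ^ p ^ j = 1 := congrArg Subtype.val hj
    rw [← map_pow] at h1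
    have h2 : N (ρU (g ^ p ^ j)) = 1 := congrArg Subtype.val h1
    rw [← map_one N] at h2
    have h3 := hNinj h2
    rw [← map_pow]; exact h3
  · exfalso
    apply hU'
    rw [hvv, LinearIndependent.pair_iff] at hli
    push Not at hli
    obtain ⟨s, t, hst, hne⟩ := hli
    have ht : t ≠ 0 := by
      intro ht
      rw [ht, zero_smul, add_zero] at hst
      rcases smul_eq_zero.mp hst with h | h
      · exact hne h ht
      · exact hv0 h
    obtain ⟨β, hβ⟩ : ∃ β : K, ρ y v = β • v := by
      refine ⟨-(t⁻¹ * s), ?_⟩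
      have h1 : t • ρ y v = -(s • v) := eq_neg_of_add_eq_zero_right hst
      have h2 : ρ y v = t⁻¹ • (t • ρ y v) := by rw [smul_smul, inv_mul_cancel₀ ht, one_smul]
      rw [h2, h1, smul_neg, smul_smul, neg_smul]
    have hβ1 : β = 1 := by
      have := hqy v
      rw [hβ, map_sub, map_smul, hβ] at this
      have h3 : ((β - 1) * (β - 1)) • v = 0 := by
        have e1 : ((β - 1) * (β - 1)) • v = (β • β • v - β • v) - (β • v - v) := by
          rw [smul_smul]
          module
        rw [e1, this, sub_self]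
      rcases smul_eq_zero.mp h3 with h | h
      · have := mul_self_eq_zero.mp h
        exact sub_eq_zero.mp this
      · exact absurd h hv0
    rw [hβ1, one_smul] at hβ
    have hl1 : l = 1 := by
      have := hqx v
      rw [hβ] at hv'
      rw [hv', map_sub, map_smul, hv'] at this
      have h3 : ((l - 1) * (l - 1)) • v = 0 := by
        have e1 : ((l - 1) * (l - 1)) • v = (l • l • v - l • v) - (l • v - v) := by
          rw [smul_smul]
          module
        rw [e1, this, sub_self]
      rcases smul_eq_zero.mp h3 with h | h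
      · have := mul_self_eq_zero.mp h
        exact sub_eq_zero.mp this
      · exact absurd h hv0
    rw [hβ, hl1, one_smul] at hv'
    -- all of D fixes v
    let S : Subgroup D :=
      { carrier := {g | ρ g v = v}
        mul_mem' := by
          intro a b ha hb
          show ρ (a * b) v = v
          rw [map_mul, LinearEquiv.mul_apply]
          have ha' : ρ a v = v := ha
          have hb' : ρ b v = v := hb
          rw [hb', ha']
        one_mem' := by
          show ρ 1 v = v
          rw [map_one]; rfl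
        inv_mem' := by
          intro a ha
          show ρ a⁻¹ v = v
          have ha' : ρ a v = v := ha
          calc ρ a⁻¹ v = ρ a⁻¹ (ρ a v) := by rw [ha']
            _ = v := by
              rw [← LinearEquiv.mul_apply, ← map_mul, inv_mul_cancel, map_one]; rfl }
    have hle : Subgroup.closure {x, y} ≤ S := by
      apply (Subgroup.closure_le _).mpr
      intro z hz
      rcases hz with h | h
      · rw [h]; exact hv'
      · rw [Set.mem_singleton_iff] at h; rw [h]; exact hβ
    have hfix : ∀ (g : D) (u : W), u ∈ U → ρ g u = u := by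
      intro g u hu
      have hg : ρ g v = v := hle (by rw [hD]; exact Subgroup.mem_top g)
      have : U ≤ LinearMap.ker (((ρ g : W ≃ₗ[K] W) : W →ₗ[K] W) - LinearMap.id) := by
        rw [hUdef, Submodule.span_le]
        rintro _ ⟨i, rfl⟩
        rw [SetLike.mem_coe, LinearMap.mem_ker, LinearMap.sub_apply, sub_eq_zero]
        fin_cases i
        · exact hg
        · show ρ g (ρ y v) = ρ y v
          rw [hβ]; exact hg
      have h2 := this hu
      rw [LinearMap.mem_ker, LinearMap.sub_apply, sub_eq_zero] at h2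
      exact h2
    rintro ⟨_, g, rfl⟩
    refine ⟨0, Subtype.ext ?_⟩
    show ρU g ^ p ^ 0 = 1
    rw [pow_zero, pow_one]
    ext u
    rw [resHom_apply]
    exact hfix g u u.2

/-- **reduction to `SL₂`**: a group generated by two quadratic elements on a finite-dimensional
space, not a `p`-group, has a homomorphism to `SL₂(K)` whose image is not a `p`-group -/
theorem red_SL2 [Fintype K] (x y : D) (hD : Subgroup.closure {x, y} = ⊤)
    (hxy : ∃ e k : ℕ, (x * y) ^ (p ^ e * k) = 1 ∧ k ∣ Fintype.card K - 1)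
    [FiniteDimensional K W] (ρ : D →* (W ≃ₗ[K] W))
    (hqx : ∀ w, ρ x (ρ x w - w) = ρ x w - w) (hqy : ∀ w, ρ y (ρ y w - w) = ρ y w - w)
    (hnp : ¬ IsPGroup p ρ.range) :
    ∃ φ : D →* Matrix.SpecialLinearGroup (Fin 2) K, ¬ IsPGroup p φ.range :=
  red_SL2_aux x y hD hxy _ W ρ rfl hqx hqy hnp

end red

end Cfsg.Agent.Helper5.SL2
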