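import Mathlib
import Cfsg.Prelude
import Cfsg.Agent.Helper5.RedSL2
import Cfsg.Agent.Helper5.PStabSolv
import Cfsg.Agent.Helper1.GL2Odd2
import Cfsg.Agent.Helper21.BaerSuzuki

/-!
# From quadratic pairs to `SL₂` over a finite field (helper5)

* `bridge`: two elements `a, b` of `N_G(V)` acting quadratically on an elementary abelian
  `p`-subgroup `V`, with `⟨a, b⟩` not a `p`-group modulo `C_G(V)`, give a homomorphism
  `⟨a, b⟩ → SL₂(𝔽_{p^m})` whose image is not a `p`-group.
* `sylow2_of_quad_pair`: in that situation the Sylow `2`-subgroups of `⟨a, b⟩` are nonabelian.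
-/

set_option autoImplicit false

namespace Cfsg.Agent.Helper5.SL2

open scoped IsMulCommutative
open scoped commutatorElement

/-- additive endomorphisms as `ZMod p`-linear endomorphisms -/
def endToZModEnd (p : ℕ) (A : Type*) [AddCommGroup A] [Module (ZMod p) A] :
    AddMonoid.End A →+* Module.End (ZMod p) A where
  toFun f := AddMonoidHom.toZModLinearMap p f
  map_one' := rfl
  map_mul' := fun _ _ => rfl
  map_zero' := by
    ext w
    show (0 : AddMonoid.End A) w = 0
    rfl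
  map_add' := fun f g => by
    ext w
    show (f + g) w = f w + g w
    rfl

theorem endToZModEnd_injective (p : ℕ) (A : Type*) [AddCommGroup A] [Module (ZMod p) A] :
    Function.Injective (endToZModEnd p A) := by
  intro f g hfg
  exact AddMonoidHom.toZModLinearMap_injective p hfg

theorem exists_ringHom_end' (p : ℕ) [Fact p.Prime] (A : Type*) [AddCommGroup A] [Finite A]
    [Module (ZMod p) A] (K : Type*) [Field K] [CharP K p] :
    ∃ (d : ℕ) (Θ : AddMonoid.End A →+* Module.End K (Fin d → K)), Function.Injective Θ := by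
  classical
  haveI hfin : Module.Finite (ZMod p) A := Module.Finite.of_finite
  let 𝔟 : Module.Basis (Fin (Module.finrank (ZMod p) A)) (ZMod p) A := Module.finBasis (ZMod p) A
  let r1 : AddMonoid.End A →+* Module.End (ZMod p) A := endToZModEnd p A
  let r2 : Module.End (ZMod p) A →+* Matrix (Fin (Module.finrank (ZMod p) A))
      (Fin (Module.finrank (ZMod p) A)) (ZMod p) :=
    (LinearMap.toMatrixAlgEquiv 𝔟).toRingEquiv.toRingHom
  let r3 : Matrix (Fin (Module.finrank (ZMod p) A)) (Fin (Module.finrank (ZMod p) A)) (ZMod p) →+*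
      Matrix (Fin (Module.finrank (ZMod p) A)) (Fin (Module.finrank (ZMod p) A)) K :=
    (ZMod.castHom (dvd_refl p) K).mapMatrix
  let r4 : Matrix (Fin (Module.finrank (ZMod p) A)) (Fin (Module.finrank (ZMod p) A)) K →+*
      Module.End K (Fin (Module.finrank (ZMod p) A) → K) :=
    (Matrix.toLinAlgEquiv' (R := K) (n := Fin (Module.finrank (ZMod p) A))).toRingEquiv.toRingHom
  refine ⟨_, r4.comp (r3.comp (r2.comp r1)), ?_⟩
  have h1 : Function.Injective r1 := endToZModEnd_injective p A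
  have h2 : Function.Injective r2 := (LinearMap.toMatrixAlgEquiv 𝔟).injective
  have h3 : Function.Injective r3 := by
    intro M N hMN
    exact Matrix.map_injective (RingHom.injective (ZMod.castHom (dvd_refl p) K)) hMN
  have h4 : Function.Injective r4 := (Matrix.toLinAlgEquiv' (R := K)
    (n := Fin (Module.finrank (ZMod p) A))).injective
  exact h4.comp (h3.comp (h2.comp h1))

theorem exists_ringHom_end (p : ℕ) [Fact p.Prime] (A : Type*) [AddCommGroup A] [Finite A]
    (hpA : ∀ w : A, p • w = 0) (K : Type*) [Field K] [CharP K p] :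
    ∃ (d : ℕ) (Θ : AddMonoid.End A →+* Module.End K (Fin d → K)), Function.Injective Θ :=
  @exists_ringHom_end' p _ A _ _ (AddCommGroup.zmodModule hpA) K _ _

section bridge

variable {G : Type*} [Group G]

/-- **bridge**: a quadratic pair on an elementary abelian `p`-subgroup gives a homomorphism to
`SL₂` over a finite field of characteristic `p`, with image not a `p`-group, sending the two
generators to elements of order dividing `p`. -/
theorem bridge [Finite G] {p : ℕ} [Fact p.Prime]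
    (V : Subgroup G) [IsMulCommutative V] (hVp : ∀ v ∈ V, v ^ p = 1)
    (a b : G) (haV : a ∈ Subgroup.normalizer (V : Set G))
    (hbV : b ∈ Subgroup.normalizer (V : Set G))
    (hqa : ∀ v ∈ V, ⁅⁅v, a⁆, a⁆ = 1) (hqb : ∀ v ∈ V, ⁅⁅v, b⁆, b⁆ = 1)
    (hnp : ∃ g ∈ Subgroup.closure {a, b}, ∀ k : ℕ,
      g ^ p ^ k ∉ Subgroup.centralizer (V : Set G)) :
    ∃ (m : ℕ) (φ : ↥(Subgroup.closure {a, b}) →*
        Matrix.SpecialLinearGroup (Fin 2) (GaloisField p m)),
      ¬ IsPGroup p φ.range ∧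
      φ ⟨a, Subgroup.subset_closure (by simp)⟩ ^ p = 1 ∧
      φ ⟨b, Subgroup.subset_closure (by simp)⟩ ^ p = 1 := by
  classical
  have hpp := (Fact.out : p.Prime)
  have hle : Subgroup.closure {a, b} ≤ Subgroup.normalizer (V : Set G) := by
    apply (Subgroup.closure_le _).mpr
    intro x hx
    rcases hx with h | h
    · rw [h]; exact haV
    · rw [Set.mem_singleton_iff] at h; rw [h]; exact hbV
  have haI : a ∈ Subgroup.closure {a, b} := Subgroup.subset_closure (by simp)
  have hbI : b ∈ Subgroup.closure {a, b} := Subgroup.subset_closure (by simp)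
  set ρ₀ : ↥(Subgroup.closure {a, b}) →* (AddMonoid.End (Additive ↥V))ˣ :=
    ((Cfsg.Agent.Helper11.conjEnd V).toHomUnits).comp (Subgroup.inclusion hle) with hρ₀
  have hρ1 : ∀ g : ↥(Subgroup.closure {a, b}), ρ₀ g = 1 ↔
      (g : G) ∈ Subgroup.centralizer (V : Set G) := by
    intro g
    have h1 := Cfsg.Agent.Helper5.conjEnd_eq_one_iff V (Subgroup.inclusion hle g)
    have h2 : (ρ₀ g = 1) ↔ Cfsg.Agent.Helper11.conjEnd V (Subgroup.inclusion hle g) = 1 := by
      rw [Units.ext_iff]; rfl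
    rw [h2, h1]; rfl
  have hpW : ∀ w : Additive ↥V, p • w = 0 := by
    intro w
    apply Cfsg.Agent.Helper11.additive_subgroup_ext
    show (((Additive.toMul w : V) ^ p : V) : G) = 1
    rw [Subgroup.coe_pow]
    exact hVp _ (Additive.toMul w : V).2
  set x : ↥(Subgroup.closure {a, b}) := ⟨a, haI⟩ with hx
  set y : ↥(Subgroup.closure {a, b}) := ⟨b, hbI⟩ with hy
  have hqα : ((ρ₀ x : AddMonoid.End (Additive ↥V)) - 1) *
      ((ρ₀ x : AddMonoid.End (Additive ↥V)) - 1) = 0 :=
    Cfsg.Agent.Helper5.conjEnd_quad V ⟨a, haV⟩ hqa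
  have hqβ : ((ρ₀ y : AddMonoid.End (Additive ↥V)) - 1) *
      ((ρ₀ y : AddMonoid.End (Additive ↥V)) - 1) = 0 :=
    Cfsg.Agent.Helper5.conjEnd_quad V ⟨b, hbV⟩ hqb
  have hD : Subgroup.closure ({x, y} : Set ↥(Subgroup.closure {a, b})) = ⊤ := by
    rw [← Subgroup.closure_closure_coe_preimage (k := ({a, b} : Set G))]
    congr 1
    ext z
    simp only [Set.mem_insert_iff, Set.mem_singleton_iff, Set.mem_preimage, Subtype.ext_iff, hx, hy]
  -- the field
  have hord : orderOf (x * y) ≠ 0 := (orderOf_pos _).ne'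
  obtain ⟨e, k, hpk, hek⟩ := Nat.exists_eq_pow_mul_and_not_dvd hord p hpp.ne_one
  have hk0 : 0 < k := by
    rcases Nat.eq_zero_or_pos k with h | h
    · subst h; exact absurd (dvd_zero p) hpk
    · exact h
  set m := Nat.totient k with hm
  have hm0 : m ≠ 0 := (Nat.totient_pos.mpr hk0).ne'
  letI : Fintype (GaloisField p m) := Fintype.ofFinite _
  have hcard : Fintype.card (GaloisField p m) = p ^ m := by
    rw [← Nat.card_eq_fintype_card, GaloisField.card p m hm0]
  have hkd : k ∣ Fintype.card (GaloisField p m) - 1 := by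
    rw [hcard]
    have hcop : Nat.Coprime p k := (Nat.Prime.coprime_iff_not_dvd hpp).mpr hpk
    have h1 := Nat.ModEq.pow_totient hcop
    exact (Nat.modEq_iff_dvd' (Nat.one_le_pow _ _ hpp.pos)).mp h1.symm
  obtain ⟨d, Θ, hΘ⟩ := exists_ringHom_end p (Additive ↥V) hpW (GaloisField p m)
  set ρ : ↥(Subgroup.closure {a, b}) →*
      ((Fin d → GaloisField p m) ≃ₗ[GaloisField p m] (Fin d → GaloisField p m)) :=
    (LinearMap.GeneralLinearGroup.generalLinearEquiv (GaloisField p m)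
      (Fin d → GaloisField p m)).toMonoidHom.comp ((Units.map Θ.toMonoidHom).comp ρ₀) with hρ
  have hρa : ∀ (g : ↥(Subgroup.closure {a, b})) (w : Fin d → GaloisField p m),
      ρ g w = Θ (ρ₀ g : AddMonoid.End (Additive ↥V)) w := fun g w => rfl
  have hq : ∀ z : ↥(Subgroup.closure {a, b}),
      (((ρ₀ z : AddMonoid.End (Additive ↥V)) - 1) * ((ρ₀ z : AddMonoid.End (Additive ↥V)) - 1) = 0) →
      ∀ w, ρ z (ρ z w - w) = ρ z w - w := by
    intro z hz w
    have h1 : (Θ (ρ₀ z : AddMonoid.End (Additive ↥V)) - 1) *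
        (Θ (ρ₀ z : AddMonoid.End (Additive ↥V)) - 1) = 0 := by
      rw [← map_one Θ, ← map_sub, ← map_mul, hz, map_zero]
    have h2 := congrArg (fun f => f w) h1
    simp only [Module.End.mul_apply, LinearMap.sub_apply, Module.End.one_apply,
      LinearMap.zero_apply, map_sub] at h2
    rw [hρa, hρa, map_sub]
    exact sub_eq_zero.mp (by rw [← h2])
  have hqx := hq x hqα
  have hqy := hq y hqβ
  -- pass to the image
  set x₁ : ↥ρ.range := ⟨ρ x, x, rfl⟩ with hx₁
  set y₁ : ↥ρ.range := ⟨ρ y, y, rfl⟩ with hy₁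
  have hD₁ : Subgroup.closure ({x₁, y₁} : Set ↥ρ.range) = ⊤ := by
    have h1 : Subgroup.map ρ.rangeRestrict (Subgroup.closure {x, y}) = ⊤ := by
      rw [hD, Subgroup.map_top_of_surjective _ ρ.rangeRestrict_surjective]
    rw [MonoidHom.map_closure, Set.image_pair] at h1
    exact h1
  have hxy₁ : ∃ e k : ℕ, (x₁ * y₁) ^ (p ^ e * k) = 1 ∧
      k ∣ Fintype.card (GaloisField p m) - 1 := by
    refine ⟨e, k, ?_, hkd⟩
    apply Subtype.ext
    show (ρ x * ρ y) ^ (p ^ e * k) = 1
    rw [← map_mul, ← map_pow, ← hek, pow_orderOf_eq_one, map_one]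
  have hnp₁ : ¬ IsPGroup p (ρ.range.subtype).range := by
    rw [Subgroup.range_subtype]
    intro h
    obtain ⟨g, hg, hgk⟩ := hnp
    obtain ⟨j, hj⟩ := h ⟨ρ ⟨g, hg⟩, _, rfl⟩
    have h1 : ρ (⟨g, hg⟩ ^ p ^ j) = 1 := by
      rw [map_pow]; exact congrArg Subtype.val hj
    have h2 : Θ (ρ₀ (⟨g, hg⟩ ^ p ^ j) : AddMonoid.End (Additive ↥V)) = Θ 1 := by
      rw [map_one]
      refine LinearMap.ext fun w => ?_
      rw [← hρa, h1]
      rfl
    have h3 : ρ₀ (⟨g, hg⟩ ^ p ^ j) = 1 := Units.ext (hΘ h2)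
    exact hgk j ((hρ1 _).mp h3)
  obtain ⟨φ₁, hφ₁⟩ := red_SL2 (p := p) x₁ y₁ hD₁ hxy₁ ρ.range.subtype hqx hqy hnp₁
  refine ⟨m, φ₁.comp ρ.rangeRestrict, ?_, ?_, ?_⟩
  · intro h
    apply hφ₁
    rintro ⟨_, ⟨r, rfl⟩⟩
    obtain ⟨g, rfl⟩ := ρ.rangeRestrict_surjective r
    obtain ⟨j, hj⟩ := h ⟨φ₁ (ρ.rangeRestrict g), g, rfl⟩
    have h5 : (φ₁ (ρ.rangeRestrict g)) ^ p ^ j = 1 := by
      have := congrArg Subtype.val hj
      exact this
    exact ⟨j, Subtype.ext h5⟩
  · show φ₁ x₁ ^ p = 1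
    rw [← map_pow]
    have : x₁ ^ p = 1 := Subtype.ext (quad_pow_p' (p := p) (ρ x) hqx)
    rw [this, map_one]
  · show φ₁ y₁ ^ p = 1
    rw [← map_pow]
    have : y₁ ^ p = 1 := Subtype.ext (quad_pow_p' (p := p) (ρ y) hqy)
    rw [this, map_one]

end bridge

section sylow

theorem card_sylow_gt_one_of_gen {R : Type*} [Group R] [Finite R] (p : ℕ) [Fact p.Prime] (x y : R)
    (hxy : Subgroup.closure {x, y} = ⊤) (hx : x ^ p = 1) (hy : y ^ p = 1) (hnp : ¬ IsPGroup p R) :
    1 < Nat.card (Sylow p R) := by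
  by_contra hcon
  push Not at hcon
  have hpos : 0 < Nat.card (Sylow p R) := Nat.card_pos
  have h1 : Nat.card (Sylow p R) = 1 := by omega
  haveI : Subsingleton (Sylow p R) := (Nat.card_eq_one_iff_unique.mp h1).1
  obtain ⟨P⟩ : Nonempty (Sylow p R) := inferInstance
  have key : ∀ z : R, z ^ p = 1 → z ∈ (P : Subgroup R) := by
    intro z hz
    have hzp : IsPGroup p (Subgroup.zpowers z) := by
      rintro ⟨w, hw⟩
      obtain ⟨i, rfl⟩ := Subgroup.mem_zpowers_iff.mp hw
      refine ⟨1, Subtype.ext ?_⟩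
      show (z ^ i) ^ p ^ 1 = 1
      rw [pow_one, ← zpow_natCast, ← zpow_mul, mul_comm, zpow_mul, zpow_natCast, hz, one_zpow]
    obtain ⟨Q, hQ⟩ := hzp.exists_le_sylow
    rw [Subsingleton.elim P Q]
    exact hQ (Subgroup.mem_zpowers z)
  have hle : Subgroup.closure {x, y} ≤ (P : Subgroup R) := by
    apply (Subgroup.closure_le _).mpr
    intro z hz
    rcases hz with h | h
    · rw [h]; exact key x hx
    · rw [Set.mem_singleton_iff] at h; rw [h]; exact key y hy
  apply hnp
  intro g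
  have hg : g ∈ (P : Subgroup R) := hle (by rw [hxy]; exact Subgroup.mem_top g)
  obtain ⟨k, hk⟩ := P.isPGroup' ⟨g, hg⟩
  exact ⟨k, congrArg Subtype.val hk⟩

theorem quaternion_not_comm (k : ℕ) (hk : 1 ≤ k) :
    ¬ IsMulCommutative (QuaternionGroup (2 ^ k)) := by
  intro h
  have h1 := h.is_comm.comm (QuaternionGroup.a (1 : ZMod (2 * 2 ^ k))) (QuaternionGroup.xa 0)
  rw [QuaternionGroup.a_mul_xa, QuaternionGroup.xa_mul_a] at h1
  have h2 : (0 : ZMod (2 * 2 ^ k)) - 1 = 0 + 1 := QuaternionGroup.xa.inj h1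
  have h3 : ((2 : ℕ) : ZMod (2 * 2 ^ k)) = 0 := by
    push_cast
    linear_combination -h2
  have h4 := (ZMod.natCast_eq_zero_iff 2 (2 * 2 ^ k)).mp h3
  have h5 := Nat.le_of_dvd (by norm_num) h4
  have h6 : 2 ^ 1 ≤ 2 ^ k := Nat.pow_le_pow_right (by norm_num) hk
  omega

/-- the Sylow `2`-subgroups are nonabelian -/
def NA2 (X : Type*) [Group X] : Prop := ∀ T : Sylow 2 X, ¬ IsMulCommutative T

theorem NA2.of_surjective {X Q : Type*} [Group X] [Group Q] [Finite X] (f : X →* Q)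
    (hf : Function.Surjective f) (hQ : NA2 Q) : NA2 X := by
  intro T hT
  apply hQ (T.mapSurjective hf)
  refine ⟨⟨fun s t => ?_⟩⟩
  have hs : (s : Q) ∈ (T : Subgroup X).map f := by
    rw [← Sylow.coe_mapSurjective hf]; exact s.2
  have ht : (t : Q) ∈ (T : Subgroup X).map f := by
    rw [← Sylow.coe_mapSurjective hf]; exact t.2
  obtain ⟨s', hs', hs⟩ := hs
  obtain ⟨t', ht', ht⟩ := ht
  apply Subtype.ext
  show (s : Q) * t = t * s
  rw [← hs, ← ht, ← map_mul, ← map_mul]
  congr 1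
  exact congrArg Subtype.val (hT.is_comm.comm ⟨s', hs'⟩ ⟨t', ht'⟩)

theorem NA2.of_injective {D X : Type*} [Group D] [Group X] [Finite X] (f : D →* X)
    (hf : Function.Injective f) (hD : NA2 D) : NA2 X := by
  intro T hT
  haveI : Finite D := Finite.of_injective f hf
  obtain ⟨T₀⟩ : Nonempty (Sylow 2 D) := inferInstance
  apply hD T₀
  have h2 : IsPGroup 2 ((T₀ : Subgroup D).map f) := T₀.isPGroup'.map _
  obtain ⟨T₁, hT₁⟩ := h2.exists_le_sylow
  obtain ⟨g, hg⟩ := MulAction.exists_smul_eq X T T₁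
  refine ⟨⟨fun s t => ?_⟩⟩
  have hs : f s.1 ∈ (T₁ : Subgroup X) := hT₁ (Subgroup.mem_map_of_mem _ s.2)
  have ht : f t.1 ∈ (T₁ : Subgroup X) := hT₁ (Subgroup.mem_map_of_mem _ t.2)
  rw [← hg, Cfsg.Agent.Helper5.QuadPair.mem_smul_sylow'] at hs ht
  have h3 := congrArg Subtype.val (hT.is_comm.comm ⟨_, hs⟩ ⟨_, ht⟩)
  have h4 : g⁻¹ * f s.1 * g * (g⁻¹ * f t.1 * g) = g⁻¹ * f t.1 * g * (g⁻¹ * f s.1 * g) := h3
  have h5 : f (s.1 * t.1) = f (t.1 * s.1) := by
    rw [map_mul, map_mul]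
    calc f s.1 * f t.1 = g * (g⁻¹ * f s.1 * g * (g⁻¹ * f t.1 * g)) * g⁻¹ := by group
      _ = g * (g⁻¹ * f t.1 * g * (g⁻¹ * f s.1 * g)) * g⁻¹ := by rw [h4]
      _ = f t.1 * f s.1 := by group
  exact Subtype.ext (hf h5)

theorem NA2.of_le {G : Type*} [Group G] [Finite G] {D H : Subgroup G} (hDH : D ≤ H)
    (hD : NA2 ↥D) : NA2 ↥H :=
  NA2.of_injective (Subgroup.inclusion hDH) (Subgroup.inclusion_injective hDH) hD

theorem NA2.of_subgroup {G : Type*} [Group G] [Finite G] {D : Subgroup G}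
    (hD : NA2 ↥D) : NA2 G :=
  NA2.of_injective D.subtype D.subtype_injective hD

theorem sylow2_not_comm_range {F : Type*} [Field F] [Fintype F] (p : ℕ) [Fact p.Prime] [CharP F p]
    (hp : p ≠ 2) {D : Type*} [Group D] [Finite D] (x y : D)
    (hD : Subgroup.closure {x, y} = ⊤) (φ : D →* Matrix.SpecialLinearGroup (Fin 2) F)
    (hnp : ¬ IsPGroup p φ.range) (hx : φ x ^ p = 1) (hy : φ y ^ p = 1) : NA2 D := by
  have hD₁ : Subgroup.closure ({φ.rangeRestrict x, φ.rangeRestrict y} : Set ↥φ.range) = ⊤ := by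
    have h1 : Subgroup.map φ.rangeRestrict (Subgroup.closure {x, y}) = ⊤ := by
      rw [hD, Subgroup.map_top_of_surjective _ φ.rangeRestrict_surjective]
    rw [MonoidHom.map_closure, Set.image_pair] at h1
    exact h1
  have hgt : 1 < Nat.card (Sylow p φ.range) :=
    card_sylow_gt_one_of_gen p (φ.rangeRestrict x) (φ.rangeRestrict y) hD₁
      (Subtype.ext hx) (Subtype.ext hy) hnp
  apply NA2.of_surjective φ.rangeRestrict φ.rangeRestrict_surjective
  intro S hS
  obtain ⟨k, hk, ⟨e⟩⟩ := Cfsg.Agent.Helper1.GL2Odd.sl2_sylow_two_quaternion p hp φ.range hgt S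
  apply quaternion_not_comm k hk
  refine ⟨⟨fun a b => ?_⟩⟩
  obtain ⟨s, rfl⟩ := e.surjective a
  obtain ⟨t, rfl⟩ := e.surjective b
  rw [← map_mul, ← map_mul, hS.is_comm.comm s t]

variable {G : Type*} [Group G]

/-- a quadratic pair generating a non-`p`-group (mod the centralizer) has nonabelian Sylow
`2`-subgroups -/
theorem sylow2_of_quad_pair [Finite G] {p : ℕ} [Fact p.Prime] (hp : p ≠ 2)
    (V : Subgroup G) [IsMulCommutative V] (hVp : ∀ v ∈ V, v ^ p = 1)
    (a b : G) (haV : a ∈ Subgroup.normalizer (V : Set G))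
    (hbV : b ∈ Subgroup.normalizer (V : Set G))
    (hqa : ∀ v ∈ V, ⁅⁅v, a⁆, a⁆ = 1) (hqb : ∀ v ∈ V, ⁅⁅v, b⁆, b⁆ = 1)
    (hnp : ∃ g ∈ Subgroup.closure {a, b}, ∀ k : ℕ,
      g ^ p ^ k ∉ Subgroup.centralizer (V : Set G)) :
    NA2 ↥(Subgroup.closure {a, b}) := by
  obtain ⟨m, φ, hφ, hφa, hφb⟩ := bridge V hVp a b haV hbV hqa hqb hnp
  letI : Fintype (GaloisField p m) := Fintype.ofFinite _
  have hD : Subgroup.closure ({⟨a, Subgroup.subset_closure (by simp)⟩,
      ⟨b, Subgroup.subset_closure (by simp)⟩} : Set ↥(Subgroup.closure {a, b})) = ⊤ := by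
    rw [← Subgroup.closure_closure_coe_preimage (k := ({a, b} : Set G))]
    congr 1
    ext z
    simp only [Set.mem_insert_iff, Set.mem_singleton_iff, Set.mem_preimage, Subtype.ext_iff]
  exact sylow2_not_comm_range p hp _ _ hD φ hφ hφa hφb

/-- Baer–Suzuki in the form: a `p`-element outside every normal `p`-subgroup generates a
non-`p`-group together with one of its conjugates -/
theorem exists_conj_not_pgroup [Finite G] {p : ℕ} [Fact p.Prime] (a : G)
    (hO : ∀ N : Subgroup G, N.Normal → IsPGroup p N → a ∉ N) :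
    ∃ g : G, ¬ IsPGroup p ↥(Subgroup.closure {a, g * a * g⁻¹}) := by
  by_contra hcon
  push Not at hcon
  have hX : ∀ g : G, IsPGroup p ↥(Subgroup.zpowers a ⊔
      (Subgroup.zpowers a).map (MulAut.conj g).toMonoidHom) := by
    intro g
    have e : Subgroup.zpowers a ⊔ (Subgroup.zpowers a).map (MulAut.conj g).toMonoidHom =
        Subgroup.closure {a, g * a * g⁻¹} := by
      rw [MonoidHom.map_zpowers, Subgroup.zpowers_eq_closure, Subgroup.zpowers_eq_closure,
        ← Subgroup.closure_union]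
      rfl
    rw [e]; exact hcon g
  obtain ⟨N, hNn, hNp, hle⟩ := Cfsg.Agent.Helper21.baer_suzuki_subgroup (Subgroup.zpowers a) hX
  exact hO N hNn hNp (hle (Subgroup.mem_zpowers a))

end sylow

end Cfsg.Agent.Helper5.SL2
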