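import Mathlib
import Cfsg.Prelude
import Cfsg.Agent.Helper5.PStabSolv
import Cfsg.Agent.Helper5.QuadBridge

/-!
# `p`-stability from a minimal-case hypothesis (helper5)

* `pstable_gen_aux`: the induction of `pstable_psolv_aux` with the minimal case abstracted.
* `min_case_pair`: in the minimal case a quadratic element outside `C_G(V)` generates, with a
  conjugate, a subgroup which is not a `p`-group modulo `C_G(V)` (Baer–Suzuki).
* `pstable_of_not_NA2`: groups with abelian Sylow `2`-subgroups are `p`-stable (`p` odd).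
-/

set_option autoImplicit false

namespace Cfsg.Agent.Helper5

open scoped IsMulCommutative
open scoped commutatorElement
open Cfsg.Agent.S0653 Cfsg.Agent.Helper5.SL2

universe u

variable {G : Type u} [Group G]

theorem pstable_gen_aux [Finite G] {p : ℕ} [Fact p.Prime] (B : Prop)
    (hminc : ∀ (V₁ : Subgroup G) [V₁.Normal] (Vb : Subgroup (G ⧸ V₁)) [Vb.Normal],
      IsPGroup p Vb → Vb ≠ ⊥ →
      (∀ U : Subgroup (G ⧸ V₁), U.Normal → U ≤ Vb → U = ⊥ ∨ U = Vb) →
      (∀ s ∈ Vb, ∀ t ∈ Vb, s * t = t * s) → (∀ v ∈ Vb, v ^ p = 1) →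
      ∀ ab : G ⧸ V₁, ⁅⁅Vb, Subgroup.zpowers ab⁆, Subgroup.zpowers ab⁆ = ⊥ →
      ab ∈ Subgroup.centralizer (Vb : Set (G ⧸ V₁)) ∨ B) :
    ∀ (n : ℕ) (V : Subgroup G) [V.Normal], IsPGroup p V → Nat.card V = n →
      ∀ a : G, ⁅⁅V, Subgroup.zpowers a⁆, Subgroup.zpowers a⁆ = ⊥ →
        a ∈ LL p V ∨ B := by
  intro n
  induction n using Nat.strong_induction_on with
  | _ n ih =>
  intro V hVn hVp hcard a hq
  by_cases hV1 : V = ⊥
  · left
    show QuotientGroup.mk' _ a ∈ Cfsg.pCore p _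
    have : a ∈ Subgroup.centralizer (V : Set G) := by
      rw [Subgroup.mem_centralizer_iff]
      intro v hv
      have hv' : v ∈ V := hv
      rw [hV1, Subgroup.mem_bot] at hv'
      rw [hv']; simp
    rw [QuotientGroup.mk'_apply, (QuotientGroup.eq_one_iff a).mpr this]
    exact one_mem _
  obtain ⟨V₁, ⟨hV₁n, hV₁lt⟩, hV₁max⟩ := Set.exists_max_image {U : Subgroup G | U.Normal ∧ U < V}
    (fun U => Nat.card U) (Set.toFinite _) ⟨⊥, inferInstance, bot_lt_iff_ne_bot.mpr hV1⟩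
  haveI := hV₁n
  have hmax : ∀ U : Subgroup G, U.Normal → V₁ ≤ U → U ≤ V → U = V₁ ∨ U = V := by
    intro U hUn h1 h2
    by_cases hUV : U = V
    · exact Or.inr hUV
    · left
      have := hV₁max U ⟨hUn, lt_of_le_of_ne h2 hUV⟩
      exact (Subgroup.eq_of_le_of_card_ge h1 this).symm
  set π := QuotientGroup.mk' V₁ with hπdef
  have hπ : Function.Surjective π := QuotientGroup.mk'_surjective V₁
  have hker : π.ker = V₁ := QuotientGroup.ker_mk' V₁
  set Vb : Subgroup (G ⧸ V₁) := V.map π with hVb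
  haveI hVbn : Vb.Normal := Subgroup.Normal.map hVn π hπ
  have hVbp : IsPGroup p Vb := hVp.map π
  have hVb1 : Vb ≠ ⊥ := by
    intro h
    have : V ≤ V₁ := by
      rw [← hker]; exact (Subgroup.map_eq_bot_iff V).mp h
    exact (lt_irrefl _ (lt_of_lt_of_le hV₁lt this))
  have hmin : ∀ U : Subgroup (G ⧸ V₁), U.Normal → U ≤ Vb → U = ⊥ ∨ U = Vb := by
    intro U hUn hUV
    have h1 : V₁ ≤ U.comap π := by
      intro x hx
      show π x ∈ U
      have : π x = 1 := by rw [← MonoidHom.mem_ker, hker]; exact hx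
      rw [this]; exact one_mem U
    have h2 : U.comap π ≤ V := by
      have := Subgroup.comap_mono (f := π) hUV
      rw [hVb, Subgroup.comap_map_eq, hker, sup_of_le_left hV₁lt.le] at this
      exact this
    have hUe : (U.comap π).map π = U := Subgroup.map_comap_eq_self_of_surjective hπ U
    rcases hmax _ inferInstance h1 h2 with h | h
    · left; rw [← hUe, h]; exact (Subgroup.map_eq_bot_iff _).mpr (le_of_eq hker.symm)
    · right; rw [← hUe, h]
  -- V̄ abelian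
  have hVbc : ∀ s ∈ Vb, ∀ t ∈ Vb, s * t = t * s := by
    have hD : ⁅Vb, Vb⁆ = ⊥ := by
      rcases hmin ⁅Vb, Vb⁆ inferInstance (Subgroup.commutator_le_right Vb Vb) with h | h
      · exact h
      · exact absurd h (Cfsg.Agent.S0072.commutator_ne_self_of_isPGroup Vb hVbp hVb1)
    intro s hs t ht
    have : ⁅s, t⁆ ∈ ⁅Vb, Vb⁆ := Subgroup.commutator_mem_commutator hs ht
    rw [hD, Subgroup.mem_bot] at this
    exact commutatorElement_eq_one_iff_mul_comm.mp this
  -- exponent p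
  have hVbe : ∀ v ∈ Vb, v ^ p = 1 := by
    let E : Subgroup (G ⧸ V₁) :=
      { carrier := {v | v ∈ Vb ∧ v ^ p = 1}
        mul_mem' := fun {x y} hx hy => ⟨Vb.mul_mem hx.1 hy.1, by
          rw [(show Commute x y from hVbc x hx.1 y hy.1).mul_pow, hx.2, hy.2, one_mul]⟩
        one_mem' := ⟨Vb.one_mem, one_pow p⟩
        inv_mem' := fun {x} hx => ⟨Vb.inv_mem hx.1, by rw [inv_pow, hx.2, inv_one]⟩ }
    have hEn : E.Normal :=
      ⟨fun v hv g => ⟨hVbn.conj_mem v hv.1 g, by rw [conj_pow, hv.2, mul_one, mul_inv_cancel]⟩⟩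
    have hEV : E ≤ Vb := fun v hv => hv.1
    have hpV : p ∣ Nat.card Vb := by
      obtain ⟨n', hn'⟩ := hVbp.exists_card_eq
      have hn0 : n' ≠ 0 := by
        rintro rfl
        rw [pow_zero] at hn'
        exact hVb1 (Subgroup.card_eq_one.mp hn')
      rw [hn']; exact dvd_pow_self p hn0
    obtain ⟨x, hx⟩ := exists_prime_orderOf_dvd_card' p hpV
    have hxE : (x : G ⧸ V₁) ∈ E :=
      ⟨x.2, by rw [← Subgroup.coe_pow, ← hx, pow_orderOf_eq_one]; rfl⟩
    rcases hmin E hEn hEV with h | h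
    · exfalso
      rw [h, Subgroup.mem_bot] at hxE
      have hx1 : x = 1 := Subtype.ext hxE
      rw [hx1, orderOf_one] at hx
      exact (Fact.out : p.Prime).one_lt.ne hx
    · intro v hv
      have : v ∈ E := by rw [h]; exact hv
      exact this.2
  -- quadratic
  have hqb : ⁅⁅Vb, Subgroup.zpowers (π a)⁆, Subgroup.zpowers (π a)⁆ = ⊥ := by
    rw [← MonoidHom.map_zpowers, hVb, ← Subgroup.map_commutator, ← Subgroup.map_commutator, hq,
      Subgroup.map_bot]
  rcases hminc V₁ Vb hVbp hVb1 hmin hVbc hVbe (π a) hqb with h3 | hB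
  swap
  · exact Or.inr hB
  -- IH
  have hV₁p : IsPGroup p V₁ := hVp.to_le hV₁lt.le
  have hq₁ : ⁅⁅V₁, Subgroup.zpowers a⁆, Subgroup.zpowers a⁆ = ⊥ := by
    apply le_bot_iff.mp
    rw [← hq]
    exact Subgroup.commutator_mono (Subgroup.commutator_mono hV₁lt.le le_rfl) le_rfl
  rcases ih (Nat.card V₁) (by rw [← hcard]; exact card_lt_of_lt hV₁lt) V₁ hV₁p rfl a hq₁ with
    hIH | hIH
  swap
  · exact Or.inr hIH
  left
  -- final
  set C := Subgroup.centralizer (V : Set G) with hC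
  set X : Subgroup G := (Subgroup.centralizer (Vb : Set (G ⧸ V₁))).comap π ⊓ LL p V₁ with hX
  haveI : (LL p V₁).Normal := LL_normal p V₁
  haveI hXn : X.Normal := inferInstance
  have hXp : ∀ x ∈ X, ∃ N : ℕ, x ^ p ^ N ∈ C := by
    rintro x ⟨hx1, hx2⟩
    have hcore : IsPGroup p (Cfsg.pCore p (G ⧸ Subgroup.centralizer (V₁ : Set G))) :=
      Sylow.sSup_of_normal _ (fun _ h => h.2) (fun _ h => h.1)
    obtain ⟨k₁, hk₁⟩ := hcore ⟨QuotientGroup.mk' _ x, hx2⟩
    have hy1 : x ^ p ^ k₁ ∈ Subgroup.centralizer (V₁ : Set G) := by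
      have h5 := congrArg Subtype.val hk₁
      rw [Subgroup.coe_pow] at h5
      rw [← QuotientGroup.eq_one_iff]
      exact h5
    have hy2 : π (x ^ p ^ k₁) ∈ Subgroup.centralizer (Vb : Set (G ⧸ V₁)) := by
      rw [map_pow]; exact pow_mem hx1 _
    obtain ⟨e₁, he₁⟩ := hV₁p.exists_card_eq
    refine ⟨k₁ + e₁, ?_⟩
    rw [pow_add, pow_mul]
    generalize x ^ p ^ k₁ = y at hy1 hy2
    rw [hC, Subgroup.mem_centralizer_iff]
    intro v hv
    obtain ⟨z, hzdef⟩ : ∃ z, z = v⁻¹ * (y * v * y⁻¹) := ⟨_, rfl⟩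
    have hyv : y * v * y⁻¹ = v * z := by rw [hzdef]; group
    have hz : z ∈ V₁ := by
      rw [← hker, MonoidHom.mem_ker, hzdef]
      have := (Subgroup.mem_centralizer_iff.mp hy2) (π v) (Subgroup.mem_map_of_mem π hv)
      rw [map_mul, map_mul, map_mul, map_inv, map_inv, ← this]; group
    have hyz : y * z = z * y := ((Subgroup.mem_centralizer_iff.mp hy1) _ hz).symm
    have hpow : ∀ i : ℕ, y ^ i * v * (y ^ i)⁻¹ = v * z ^ i := by
      intro i
      induction i with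
      | zero => simp
      | succ i ihi =>
        have hc : y * z ^ i = z ^ i * y := (Commute.pow_right (show Commute y z from hyz) i).eq
        calc y ^ (i + 1) * v * (y ^ (i + 1))⁻¹ = y * (y ^ i * v * (y ^ i)⁻¹) * y⁻¹ := by
              rw [pow_succ']; group
          _ = y * (v * z ^ i) * y⁻¹ := by rw [ihi]
          _ = (y * v * y⁻¹) * (y * z ^ i) * y⁻¹ := by group
          _ = (v * z) * (z ^ i * y) * y⁻¹ := by rw [hyv, hc]
          _ = v * z ^ (i + 1) := by rw [pow_succ']; group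
    have hz1 : z ^ p ^ e₁ = 1 := by
      have := pow_card_eq_one' (G := ↥V₁) (x := ⟨z, hz⟩)
      rw [he₁] at this
      exact congrArg Subtype.val this
    have h6 := hpow (p ^ e₁)
    rw [hz1, mul_one] at h6
    calc v * y ^ p ^ e₁ = (y ^ p ^ e₁ * v * (y ^ p ^ e₁)⁻¹) * y ^ p ^ e₁ := by rw [h6]
      _ = y ^ p ^ e₁ * v := by group
  have hXq : IsPGroup p (X.map (QuotientGroup.mk' C)) := by
    rintro ⟨_, x, hx, rfl⟩
    obtain ⟨N, hN⟩ := hXp x hx
    refine ⟨N, Subtype.ext ?_⟩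
    rw [Subgroup.coe_pow]
    show (QuotientGroup.mk' C x) ^ p ^ N = 1
    rw [← map_pow]
    exact (QuotientGroup.eq_one_iff _).mpr hN
  have hXqn : (X.map (QuotientGroup.mk' C)).Normal :=
    Subgroup.Normal.map hXn _ (QuotientGroup.mk'_surjective C)
  show QuotientGroup.mk' C a ∈ Cfsg.pCore p (G ⧸ C)
  exact le_sSup (show _ ∈ {N : Subgroup _ | N.Normal ∧ IsPGroup p N} from ⟨hXqn, hXq⟩)
    (Subgroup.mem_map_of_mem _ ⟨h3, hIH⟩)


/-- minimal case: Baer–Suzuki pair -/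
theorem min_case_pair [Finite G] {p : ℕ} [Fact p.Prime] (V : Subgroup G) [hVn : V.Normal]
    (hVp : IsPGroup p V) (hV1 : V ≠ ⊥)
    (hmin : ∀ U : Subgroup G, U.Normal → U ≤ V → U = ⊥ ∨ U = V)
    (a : G) (haC : a ∉ Subgroup.centralizer (V : Set G)) :
    ∃ x : G, ∃ d ∈ Subgroup.closure {a, x * a * x⁻¹}, ∀ k : ℕ,
      d ^ p ^ k ∉ Subgroup.centralizer (V : Set G) := by
  set C := Subgroup.centralizer (V : Set G) with hC
  set π := QuotientGroup.mk' C with hπ
  have hπs : Function.Surjective π := QuotientGroup.mk'_surjective C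
  have hO : ∀ N : Subgroup (G ⧸ C), N.Normal → IsPGroup p N → π a ∉ N := by
    intro N hNn hNp hmem
    haveI := hNn
    have h1 := quot_pgroup_eq_bot V hVp hV1 hmin N hNp
    rw [h1, Subgroup.mem_bot] at hmem
    exact haC ((QuotientGroup.eq_one_iff a).mp hmem)
  obtain ⟨gb, hgb⟩ := exists_conj_not_pgroup (p := p) (π a) hO
  obtain ⟨x, rfl⟩ := hπs gb
  refine ⟨x, ?_⟩
  by_contra hcon
  push Not at hcon
  apply hgb
  have e : Subgroup.closure {π a, π x * π a * (π x)⁻¹} =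
      (Subgroup.closure {a, x * a * x⁻¹}).map π := by
    rw [MonoidHom.map_closure, Set.image_pair, map_mul, map_mul, map_inv]
  rintro ⟨db, hdb⟩
  have hdb' := hdb
  rw [e] at hdb'
  obtain ⟨d, hd, hdd⟩ := hdb'
  obtain ⟨k, hk⟩ := hcon d hd
  refine ⟨k, Subtype.ext ?_⟩
  show db ^ p ^ k = 1
  rw [← hdd, ← map_pow]
  exact (QuotientGroup.eq_one_iff _).mpr hk

/-- minimal case: quadratic elements centralize, or the Sylow `2`-subgroups are nonabelian -/
theorem min_case_NA2 [Finite G] {p : ℕ} [Fact p.Prime] (hp2 : p ≠ 2) (V : Subgroup G)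
    [hVn : V.Normal] (hVp : IsPGroup p V) (hV1 : V ≠ ⊥)
    (hmin : ∀ U : Subgroup G, U.Normal → U ≤ V → U = ⊥ ∨ U = V)
    (hVc : ∀ s ∈ V, ∀ t ∈ V, s * t = t * s) (hVe : ∀ v ∈ V, v ^ p = 1)
    (a : G) (hq : ⁅⁅V, Subgroup.zpowers a⁆, Subgroup.zpowers a⁆ = ⊥) :
    a ∈ Subgroup.centralizer (V : Set G) ∨ NA2 G := by
  haveI : IsMulCommutative V := ⟨⟨fun x y => Subtype.ext (hVc x.1 x.2 y.1 y.2)⟩⟩
  by_cases haC : a ∈ Subgroup.centralizer (V : Set G)
  · exact Or.inl haC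
  right
  obtain ⟨x, hnp⟩ := min_case_pair V hVp hV1 hmin a haC
  have hnorm : ∀ g : G, g ∈ Subgroup.normalizer (V : Set G) := by
    intro g; rw [Subgroup.normalizer_eq_top]; exact Subgroup.mem_top g
  have hqa := quad_elem V a hq
  exact NA2.of_subgroup (sylow2_of_quad_pair hp2 V hVe a (x * a * x⁻¹) (hnorm _) (hnorm _) hqa
    (quad_conj V a x (hnorm x) hqa) hnp)

/-- **groups with abelian Sylow `2`-subgroups are `p`-stable** (`p` odd) -/
theorem pstable_of_not_NA2 [Finite G] {p : ℕ} [Fact p.Prime] (hp2 : p ≠ 2) (hG : ¬ NA2 G)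
    (V : Subgroup G) [V.Normal] (hV : IsPGroup p V) : Cfsg.IsPStableOn p V := by
  intro a hq
  have hminc : ∀ (V₁ : Subgroup G) [V₁.Normal] (Vb : Subgroup (G ⧸ V₁)) [Vb.Normal],
      IsPGroup p Vb → Vb ≠ ⊥ →
      (∀ U : Subgroup (G ⧸ V₁), U.Normal → U ≤ Vb → U = ⊥ ∨ U = Vb) →
      (∀ s ∈ Vb, ∀ t ∈ Vb, s * t = t * s) → (∀ v ∈ Vb, v ^ p = 1) →
      ∀ ab : G ⧸ V₁, ⁅⁅Vb, Subgroup.zpowers ab⁆, Subgroup.zpowers ab⁆ = ⊥ →
      ab ∈ Subgroup.centralizer (Vb : Set (G ⧸ V₁)) ∨ NA2 G := by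
    intro V₁ _ Vb _ hVbp hVb1 hmin hVbc hVbe ab hqb
    rcases min_case_NA2 hp2 Vb hVbp hVb1 hmin hVbc hVbe ab hqb with h | h
    · exact Or.inl h
    · exact Or.inr (NA2.of_surjective (QuotientGroup.mk' V₁) (QuotientGroup.mk'_surjective V₁) h)
  rcases pstable_gen_aux (NA2 G) hminc _ V hV rfl a hq with h | h
  · exact h
  · exact absurd h hG

end Cfsg.Agent.Helper5
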