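import Cfsg.Agent.S2795

/-!
# Plane data (helper5)

`IsPlane p R lam E`: a `p`-subgroup `R` of `G` with an additive surjection `lam` onto the plane
`𝔽_p²` such that every matrix of `SL₂(p)` is induced (through `lam`) by conjugation with an element
of `E` stabilizing `R`.  A finite group has such a datum iff `Qd(p)` is a section of it
(`isPlane_of_hasQdSec`, `IsPlane.hasQdSec`).
-/

set_option autoImplicit false

namespace Cfsg.Agent.Helper5.Plane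

open Cfsg Cfsg.Agent.Helper5 Cfsg.Agent.Helper5.Qd Cfsg.Agent.Helper1.Qd Cfsg.Agent.Helper17
open Cfsg.Agent.S2795

variable {p : ℕ} [Fact p.Prime]

/-- plane datum -/
def IsPlane (p : ℕ) [Fact p.Prime] {G : Type*} [Group G] (R : Subgroup G)
    (lam : G → ZMod p × ZMod p) (E : Subgroup G) : Prop :=
  IsPGroup p R ∧ (∀ a ∈ R, ∀ b ∈ R, lam (a * b) = lam a + lam b) ∧ (∀ v, ∃ r ∈ R, lam r = v) ∧
    ∀ M : SL2p p, ∃ g ∈ E, (∀ r ∈ R, g * r * g⁻¹ ∈ R) ∧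
      ∀ r ∈ R, lam (g * r * g⁻¹) = act M (lam r)

theorem IsPlane.mono {G : Type*} [Group G] {R E E' : Subgroup G} {lam : G → ZMod p × ZMod p}
    (h : IsPlane p R lam E) (hE : E ≤ E') : IsPlane p R lam E' := by
  obtain ⟨h1, h2, h3, h4⟩ := h
  refine ⟨h1, h2, h3, fun M => ?_⟩
  obtain ⟨g, hg, hg'⟩ := h4 M
  exact ⟨g, hE hg, hg'⟩

theorem IsPlane.lam_one {G : Type*} [Group G] {R E : Subgroup G} {lam : G → ZMod p × ZMod p}
    (h : IsPlane p R lam E) : lam 1 = 0 := by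
  have h1 := h.2.1 1 R.one_mem 1 R.one_mem
  rw [mul_one] at h1
  have h2 : lam 1 + lam 1 = lam 1 + 0 := by rw [add_zero]; exact h1.symm
  exact add_left_cancel h2

theorem IsPlane.lam_inv {G : Type*} [Group G] {R E : Subgroup G} {lam : G → ZMod p × ZMod p}
    (h : IsPlane p R lam E) {r : G} (hr : r ∈ R) : lam r⁻¹ = - lam r := by
  have h1 := h.2.1 r hr r⁻¹ (R.inv_mem hr)
  rw [mul_inv_cancel, h.lam_one] at h1
  exact eq_neg_of_add_eq_zero_right h1.symm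

/-- push a plane datum along a homomorphism injective on `R` -/
theorem IsPlane.map {G₁ G₂ : Type*} [Group G₁] [Group G₂] {R E : Subgroup G₁}
    {lam : G₁ → ZMod p × ZMod p} (h : IsPlane p R lam E) (f : G₁ →* G₂)
    (hf : ∀ r ∈ R, f r = 1 → r = 1) :
    ∃ lam₂ : G₂ → ZMod p × ZMod p, IsPlane p (R.map f) lam₂ (E.map f) ∧
      ∀ r ∈ R, lam₂ (f r) = lam r := by
  classical
  obtain ⟨h1, h2, h3, h4⟩ := h
  obtain ⟨lam₂, hlam₂⟩ : ∃ lam₂ : G₂ → ZMod p × ZMod p,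
      ∀ y, lam₂ y = if hy : ∃ r ∈ R, f r = y then lam hy.choose else 0 := ⟨_, fun _ => rfl⟩
  have key : ∀ r ∈ R, lam₂ (f r) = lam r := by
    intro r hr
    have hex : ∃ r' ∈ R, f r' = f r := ⟨r, hr, rfl⟩
    rw [hlam₂, dif_pos hex]
    obtain ⟨hc1, hc2⟩ := hex.choose_spec
    have h5 : hex.choose⁻¹ * r = 1 := by
      apply hf _ (R.mul_mem (R.inv_mem hc1) hr)
      rw [map_mul, map_inv, hc2, inv_mul_cancel]
    rw [inv_mul_eq_one] at h5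
    rw [h5]
  refine ⟨lam₂, ⟨h1.map f, ?_, ?_, ?_⟩, key⟩
  · rintro _ ⟨a, ha, rfl⟩ _ ⟨b, hb, rfl⟩
    rw [← map_mul, key _ (R.mul_mem ha hb), key a ha, key b hb, h2 a ha b hb]
  · intro v
    obtain ⟨r, hr, hrv⟩ := h3 v
    exact ⟨f r, ⟨r, hr, rfl⟩, by rw [key r hr, hrv]⟩
  · intro M
    obtain ⟨g, hg, hgR, hgl⟩ := h4 M
    refine ⟨f g, ⟨g, hg, rfl⟩, ?_, ?_⟩
    · rintro _ ⟨r, hr, rfl⟩
      exact ⟨g * r * g⁻¹, hgR r hr, by rw [map_mul, map_mul, map_inv]⟩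
    · rintro _ ⟨r, hr, rfl⟩
      rw [← map_inv, ← map_mul, ← map_mul, key _ (hgR r hr), key r hr, hgl r hr]

/-- restrict a plane datum to a subgroup containing it -/
theorem IsPlane.subgroupOf {G : Type*} [Group G] {R E : Subgroup G}
    {lam : G → ZMod p × ZMod p} (h : IsPlane p R lam E) (N : Subgroup G) (hR : R ≤ N)
    (hE : E ≤ N) :
    IsPlane p (R.subgroupOf N) (fun x : ↥N => lam (x : G)) (⊤ : Subgroup ↥N) := by
  obtain ⟨h1, h2, h3, h4⟩ := h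
  refine ⟨h1.comap_subtype, ?_, ?_, ?_⟩
  · intro a ha b hb
    exact h2 a (Subgroup.mem_subgroupOf.mp ha) b (Subgroup.mem_subgroupOf.mp hb)
  · intro v
    obtain ⟨r, hr, hrv⟩ := h3 v
    exact ⟨⟨r, hR hr⟩, Subgroup.mem_subgroupOf.mpr hr, hrv⟩
  · intro M
    obtain ⟨g, hg, hgR, hgl⟩ := h4 M
    refine ⟨⟨g, hE hg⟩, Subgroup.mem_top _, ?_, ?_⟩
    · intro r hr
      exact Subgroup.mem_subgroupOf.mpr (hgR r (Subgroup.mem_subgroupOf.mp hr))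
    · intro r hr
      exact hgl r (Subgroup.mem_subgroupOf.mp hr)

/-- a plane datum in a finite group gives a `Qd(p)`-section -/
theorem IsPlane.hasQdSec {G : Type*} [Group G] [Finite G] (hp2 : p ≠ 2) {R E : Subgroup G}
    {lam : G → ZMod p × ZMod p} (h : IsPlane p R lam E) : HasQdSec p G := by
  have hl1 := h.lam_one
  have hlinv := fun {r : G} (hr : r ∈ R) => h.lam_inv hr
  obtain ⟨hR, hadd, hsurj, hreal⟩ := h
  obtain ⟨R₀, hR₀⟩ : ∃ R₀ : Subgroup G, ∀ x, x ∈ R₀ ↔ x ∈ R ∧ lam x = 0 :=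
    ⟨{ carrier := {r | r ∈ R ∧ lam r = 0}
       mul_mem' := by
         rintro a b ⟨ha, ha0⟩ ⟨hb, hb0⟩
         exact ⟨R.mul_mem ha hb, by rw [hadd a ha b hb, ha0, hb0, add_zero]⟩
       one_mem' := ⟨R.one_mem, hl1⟩
       inv_mem' := by
         rintro a ⟨ha, ha0⟩
         exact ⟨R.inv_mem ha, by rw [hlinv ha, ha0, neg_zero]⟩ }, fun _ => Iff.rfl⟩
  obtain ⟨N₀, hN₀⟩ : ∃ N₀ : Subgroup G, N₀ = Subgroup.normalizer (R₀ : Set G) := ⟨_, rfl⟩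
  have hRN : R ≤ N₀ := by
    intro r hr
    rw [hN₀]
    apply mem_normalizer_of_cj_le
    intro x hx
    obtain ⟨y, hy, rfl⟩ := mem_cj'.mp hx
    obtain ⟨hyR, hy0⟩ := (hR₀ y).mp hy
    refine (hR₀ _).mpr ⟨R.mul_mem (R.mul_mem hr hyR) (R.inv_mem hr), ?_⟩
    rw [hadd _ (R.mul_mem hr hyR) _ (R.inv_mem hr), hadd r hr y hyR, hy0, hlinv hr, add_zero,
      add_neg_cancel]
  have hgN : ∀ (M : SL2p p) (g : G), (∀ r ∈ R, g * r * g⁻¹ ∈ R) →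
      (∀ r ∈ R, lam (g * r * g⁻¹) = act M (lam r)) → g ∈ N₀ := by
    intro M g hgR hgl
    rw [hN₀]
    apply mem_normalizer_of_cj_le
    intro x hx
    obtain ⟨y, hy, rfl⟩ := mem_cj'.mp hx
    obtain ⟨hyR, hy0⟩ := (hR₀ y).mp hy
    exact (hR₀ _).mpr ⟨hgR y hyR, by rw [hgl y hyR, hy0, act_zero]⟩
  haveI hnorm : (R₀.subgroupOf N₀).Normal := by
    rw [hN₀]; exact Subgroup.normal_in_normalizer
  have key : ∀ (a b : G) (ha : a ∈ R) (hb : b ∈ R), lam a = lam b →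
      (QuotientGroup.mk (⟨a, hRN ha⟩ : ↥N₀) : ↥N₀ ⧸ R₀.subgroupOf N₀) =
        QuotientGroup.mk (⟨b, hRN hb⟩ : ↥N₀) := by
    intro a b ha hb hab
    rw [QuotientGroup.eq, Subgroup.mem_subgroupOf]
    show a⁻¹ * b ∈ R₀
    refine (hR₀ _).mpr ⟨R.mul_mem (R.inv_mem ha) hb, ?_⟩
    rw [hadd _ (R.inv_mem ha) _ hb, hlinv ha, hab, neg_add_cancel]
  have key' : ∀ (a b : G) (ha : a ∈ R) (hb : b ∈ R),
      (QuotientGroup.mk (⟨a, hRN ha⟩ : ↥N₀) : ↥N₀ ⧸ R₀.subgroupOf N₀) =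
        QuotientGroup.mk (⟨b, hRN hb⟩ : ↥N₀) → lam a = lam b := by
    intro a b ha hb hab
    rw [QuotientGroup.eq, Subgroup.mem_subgroupOf] at hab
    have h1 : a⁻¹ * b ∈ R₀ := hab
    have h2 := ((hR₀ _).mp h1).2
    rw [hadd _ (R.inv_mem ha) _ hb, hlinv ha] at h2
    have h3 : lam b = lam a := by
      have := congrArg (fun t => lam a + t) h2
      simpa using this
    exact h3.symm
  choose r hrR hrlam using hsurj
  obtain ⟨ε, hε⟩ : ∃ ε : ZMod p × ZMod p → ↥N₀ ⧸ R₀.subgroupOf N₀,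
      ∀ v, ε v = QuotientGroup.mk (⟨r v, hRN (hrR v)⟩ : ↥N₀) := ⟨_, fun _ => rfl⟩
  have hadd' : ∀ v w, ε (v + w) = ε v * ε w := by
    intro v w
    rw [hε, hε, hε, ← QuotientGroup.mk_mul]
    have h1 : (⟨r v, hRN (hrR v)⟩ : ↥N₀) * ⟨r w, hRN (hrR w)⟩ =
        ⟨r v * r w, hRN (R.mul_mem (hrR v) (hrR w))⟩ := rfl
    rw [h1]
    apply key _ _ (hrR (v + w)) (R.mul_mem (hrR v) (hrR w))
    rw [hrlam, hadd _ (hrR v) _ (hrR w), hrlam, hrlam]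
  have hinj : Function.Injective ε := by
    intro v w hvw
    rw [hε, hε] at hvw
    have := key' _ _ (hrR v) (hrR w) hvw
    rwa [hrlam, hrlam] at this
  have hsurj' : ∀ M : SL2p p, ∃ g : ↥N₀ ⧸ R₀.subgroupOf N₀, IsAct ε g M := by
    intro M
    obtain ⟨g, -, hgR, hgl⟩ := hreal M
    refine ⟨QuotientGroup.mk (⟨g, hgN M g hgR hgl⟩ : ↥N₀), fun v => ?_⟩
    rw [hε, hε, ← QuotientGroup.mk_inv, ← QuotientGroup.mk_mul, ← QuotientGroup.mk_mul]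
    have h1 : (⟨g, hgN M g hgR hgl⟩ : ↥N₀) * ⟨r v, hRN (hrR v)⟩ * (⟨g, hgN M g hgR hgl⟩ : ↥N₀)⁻¹ =
        ⟨g * r v * g⁻¹, hRN (hgR _ (hrR v))⟩ := rfl
    rw [h1]
    apply key _ _ (hgR _ (hrR v)) (hrR (act M v))
    rw [hgl _ (hrR v), hrlam, hrlam]
  have h5 : HasQdSec p (↥N₀ ⧸ R₀.subgroupOf N₀) := qd_section_of_act hp2 ε hadd' hinj hsurj'
  exact hasQdSec_of_injective p N₀.subtype N₀.subtype_injective
    (hasQdSec_lift p (QuotientGroup.mk' _) (QuotientGroup.mk'_surjective _) h5)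

/-- the translation part of an element of `Qd(p)` -/
def tr (p : ℕ) [Fact p.Prime] (y : ↥(Cfsg.qd p)) : ZMod p × ZMod p := ((qdEquiv p) y).2

theorem tr_Qm (M : SL2p p) (v : ZMod p × ZMod p) : tr p (Qm M v) = v := by
  show ((qdEquiv p) ((qdEquiv p).symm (M, v))).2 = v
  rw [Equiv.apply_symm_apply]

theorem eq_Qm_tr (y : ↥(Cfsg.qd p)) : y = Qm (Cfsg.Agent.S2795.beta p y) (tr p y) := by
  obtain ⟨M, v, rfl⟩ := Qm_surj y
  rw [beta_Qm, tr_Qm]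

/-- a `Qd(p)`-section of a finite group gives a plane datum -/
theorem isPlane_of_hasQdSec {G : Type*} [Group G] [Finite G] (h : HasQdSec p G) :
    ∃ (R : Subgroup G) (lam : G → ZMod p × ZMod p), IsPlane p R lam ⊤ := by
  have hpp := (Fact.out : p.Prime)
  obtain ⟨K, ψ, hψ⟩ := h
  obtain ⟨V, hVdef⟩ : ∃ V : Subgroup ↥K, V = ((Cfsg.Agent.S2795.beta p).comp ψ).ker := ⟨_, rfl⟩
  haveI hVn : V.Normal := by rw [hVdef]; infer_instance
  have hVmem : ∀ x : ↥K, x ∈ V ↔ Cfsg.Agent.S2795.beta p (ψ x) = 1 := by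
    intro x; rw [hVdef, MonoidHom.mem_ker]; rfl
  obtain ⟨T⟩ : Nonempty (Sylow p ↥V) := inferInstance
  obtain ⟨R, hRdef⟩ : ∃ R : Subgroup ↥K, R = (T : Subgroup ↥V).map V.subtype := ⟨_, rfl⟩
  have hRV : R ≤ V := by
    rw [hRdef]; rintro _ ⟨t, -, rfl⟩; exact t.2
  have hψV : ∀ x ∈ V, ψ x = Qm 1 (tr p (ψ x)) := by
    intro x hx
    have h1 := eq_Qm_tr (ψ x)
    rw [(hVmem x).mp hx] at h1
    exact h1
  obtain ⟨Vb, hVb⟩ : ∃ Vb : Subgroup ↥(Cfsg.qd p), Vb = (Cfsg.Agent.S2795.beta p).ker := ⟨_, rfl⟩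
  have hVbmem : ∀ y, y ∈ Vb ↔ Cfsg.Agent.S2795.beta p y = 1 := by
    intro y; rw [hVb, MonoidHom.mem_ker]
  have hψVb : ∀ x : ↥V, ψ (x : ↥K) ∈ Vb := fun x => (hVbmem _).mpr ((hVmem _).mp x.2)
  obtain ⟨ψV, hψVdef⟩ : ∃ ψV : ↥V →* ↥Vb, ∀ x : ↥V, (ψV x : ↥(Cfsg.qd p)) = ψ (x : ↥K) :=
    ⟨(ψ.comp V.subtype).codRestrict Vb hψVb, fun _ => rfl⟩
  have hψVs : Function.Surjective ψV := by
    intro y
    obtain ⟨x, hx⟩ := hψ (y : ↥(Cfsg.qd p))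
    have hxV : x ∈ V := by rw [hVmem, hx]; exact (hVbmem _).mp y.2
    exact ⟨⟨x, hxV⟩, Subtype.ext (by rw [hψVdef]; exact hx)⟩
  have hTtop : ((T.mapSurjective hψVs : Sylow p ↥Vb) : Subgroup ↥Vb) = ⊤ := by
    have hpg : IsPGroup p (⊤ : Subgroup ↥Vb) := by
      intro g
      refine ⟨1, ?_⟩
      obtain ⟨M, v, hMv⟩ := Qm_surj ((g : ↥Vb) : ↥(Cfsg.qd p))
      have hM : M = 1 := by
        have := (hVbmem _).mp (g : ↥Vb).2
        rwa [← hMv, beta_Qm] at this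
      apply Subtype.ext
      apply Subtype.ext
      show (((g : ↥Vb) : ↥(Cfsg.qd p)) ^ p ^ 1 : ↥(Cfsg.qd p)) = 1
      rw [pow_one, ← hMv, hM, Qm_one_pow_p]
    exact ((T.mapSurjective hψVs).3 hpg le_top).symm
  have h : ∃ lam : ↥K → ZMod p × ZMod p, IsPlane p R lam ⊤ := by
    refine ⟨fun x => tr p (ψ x), ?_, ?_, ?_, ?_⟩
    · rw [hRdef]; exact T.2.map _
    · intro a ha b hb
      obtain ⟨va, hva⟩ : ∃ va, ψ a = Qm 1 va := ⟨_, hψV a (hRV ha)⟩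
      obtain ⟨vb, hvb⟩ : ∃ vb, ψ b = Qm 1 vb := ⟨_, hψV b (hRV hb)⟩
      show tr p (ψ (a * b)) = tr p (ψ a) + tr p (ψ b)
      rw [map_mul, hva, hvb, Qm_mul, one_mul, act_one, tr_Qm, tr_Qm, tr_Qm]
    · intro v
      have hv : Qm (1 : SL2p p) v ∈ Vb := (hVbmem _).mpr (beta_Qm _ _)
      have h1 : (⟨Qm 1 v, hv⟩ : ↥Vb) ∈ ((T.mapSurjective hψVs : Sylow p ↥Vb) : Subgroup ↥Vb) := by
        rw [hTtop]; exact Subgroup.mem_top _
      rw [Sylow.coe_mapSurjective] at h1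
      obtain ⟨t, ht, hte⟩ := h1
      refine ⟨(t : ↥K), by rw [hRdef]; exact ⟨t, ht, rfl⟩, ?_⟩
      have h2 := congrArg (Subtype.val) hte
      rw [hψVdef] at h2
      show tr p (ψ (t : ↥K)) = v
      rw [h2, tr_Qm]
    · intro M
      obtain ⟨h₀, hh₀⟩ := hψ (Qm M 0)
      have hfr := Sylow.normalizer_sup_eq_top T
      have h1 : h₀ ∈ Subgroup.normalizer (((T : Subgroup ↥V).map V.subtype : Subgroup ↥K) : Set ↥K) ⊔ V := by
        rw [hfr]; exact Subgroup.mem_top _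
      obtain ⟨y, hy, z, hz, hyz⟩ := Subgroup.mem_sup_of_normal_right.mp h1
      rw [← hRdef] at hy
      obtain ⟨vz, hvz⟩ : ∃ vz, ψ z = Qm 1 vz := ⟨_, hψV z hz⟩
      have hψy : ψ y = Qm M (act M (-vz)) := by
        have h2 : y = h₀ * z⁻¹ := by rw [← hyz]; group
        rw [h2, map_mul, map_inv, hh₀, hvz, Qm_one_inv, Qm_mul, mul_one, zero_add]
      refine ⟨y, Subgroup.mem_top _, fun r hr => ?_, fun r hr => ?_⟩
      · exact (Subgroup.mem_normalizer_iff.mp hy r).mp hr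
      · obtain ⟨vr, hvr⟩ : ∃ vr, ψ r = Qm 1 vr := ⟨_, hψV r (hRV hr)⟩
        show tr p (ψ (y * r * y⁻¹)) = act M (tr p (ψ r))
        rw [map_mul, map_mul, map_inv, hψy, hvr, conj_Qm, tr_Qm, tr_Qm]
  obtain ⟨lam, hlam⟩ := h
  obtain ⟨lam₂, h2, -⟩ := hlam.map K.subtype (fun r _ hr => by
    apply Subtype.ext; exact hr)
  exact ⟨R.map K.subtype, lam₂, h2.mono le_top⟩

end Cfsg.Agent.Helper5.Plane
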