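import Cfsg.Agent.Helper5.SylIn
import Cfsg.Agent.Helper27.FusReal
import Cfsg.Agent.Helper13.Glaub

/-!
# Plane data and fusion systems of groups (helper5)

Tools for: the fusion system of `G` on a Sylow `p`-subgroup is `Qd(p)`-free iff `G` is.
-/

set_option autoImplicit false

namespace Cfsg.Agent.Helper5.Plane

open Cfsg Cfsg.FusionSystem Cfsg.Agent.Helper17 Cfsg.Agent.Helper27 Cfsg.Agent.Helper5
open Cfsg.Agent.Helper5.Qd

universe u

variable {p : ℕ} [Fact p.Prime] {G : Type u} [Group G]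

theorem involves_of_hasQdSec {X : Type*} [Group X] (h : HasQdSec p X) :
    Cfsg.Involves ↥(Cfsg.qd p) X := by
  obtain ⟨K, ψ, hψ⟩ := h
  obtain ⟨L', hL', ⟨e⟩⟩ := Cfsg.Agent.Helper5.sec_of_surj K ψ hψ
  exact ⟨K, L', hL', ⟨e⟩⟩

theorem hasQdSec_of_involves {X : Type*} [Group X] (h : Cfsg.Involves ↥(Cfsg.qd p) X) :
    HasQdSec p X := by
  obtain ⟨K, R, hn, ⟨e⟩⟩ := h
  exact ⟨K, e.toMonoidHom.comp (QuotientGroup.mk' _),
    e.surjective.comp (QuotientGroup.mk'_surjective _)⟩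

theorem nIn_le (S Q : Subgroup G) :
    FusionSystem.normalizerIn S Q ≤ Subgroup.normalizer (Q : Set G) := inf_le_right

theorem nIn_le_left (S Q : Subgroup G) : FusionSystem.normalizerIn S Q ≤ S := inf_le_left

/-- (⇐) a `Qd(p)`-section of a model of a normalizer system gives one of `G` -/
theorem involves_of_model [Finite G] (hp : p ≠ 2) (P : Sylow p G)
    (Q : Subgroup G) (N : FusionSystem (FusionSystem.normalizerIn (P : Subgroup G) Q))
    (hN : (Cfsg.groupFusionSystem (P : Subgroup G)).IsNormalizerSystem Q N)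
    (L : Type u) [Group L] (ι : ↥(FusionSystem.normalizerIn (P : Subgroup G) Q) →* L)
    (hmodel : N.IsModel p L ι) (hinv : Cfsg.Involves ↥(Cfsg.qd p) L) :
    Cfsg.Involves ↥(Cfsg.qd p) G := by
  classical
  obtain ⟨hfin, hreal, ⟨T, hT⟩, -⟩ := hmodel
  haveI := hfin
  obtain ⟨R, lam, hpl⟩ := isPlane_of_hasQdSec (hasQdSec_of_involves hinv)
  obtain ⟨l, -, hl⟩ := (sylow_sylIn_top T).exists_conj_le le_top hpl.1
  obtain ⟨lam₂, hpl₂, -⟩ := hpl.map (MulAut.conj l).toMonoidHom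
    (fun r _ hr => (MulAut.conj l).injective (by rw [map_one]; exact hr))
  obtain ⟨R₂, hR₂⟩ : ∃ R₂ : Subgroup L, R₂ = R.map (MulAut.conj l).toMonoidHom := ⟨_, rfl⟩
  rw [← hR₂] at hpl₂
  have hR₂T : R₂ ≤ ι.range := by rw [hR₂, ← hT]; exact hl
  obtain ⟨hp1, hp2, hp3, hp4⟩ := hpl₂
  obtain ⟨RG, hRG⟩ : ∃ RG : Subgroup G, RG = (R₂.comap ι).map (Subgroup.subtype _) := ⟨_, rfl⟩
  have hmemRG : ∀ x : G, x ∈ RG ↔
      ∃ h : x ∈ FusionSystem.normalizerIn (P : Subgroup G) Q, ι ⟨x, h⟩ ∈ R₂ := by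
    intro x
    rw [hRG]
    constructor
    · rintro ⟨y, hy, rfl⟩
      exact ⟨y.2, hy⟩
    · rintro ⟨h, hx⟩
      exact ⟨⟨x, h⟩, hx, rfl⟩
  have hRGS : RG ≤ FusionSystem.normalizerIn (P : Subgroup G) Q := fun x hx =>
    ((hmemRG x).mp hx).1
  obtain ⟨lamG, hlamG⟩ : ∃ lamG : G → ZMod p × ZMod p, ∀ x,
      lamG x = if h : x ∈ FusionSystem.normalizerIn (P : Subgroup G) Q then lam₂ (ι ⟨x, h⟩)
        else 0 := ⟨_, fun _ => rfl⟩
  have hlamG' : ∀ (x : G) (h : x ∈ FusionSystem.normalizerIn (P : Subgroup G) Q),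
      lamG x = lam₂ (ι ⟨x, h⟩) := fun x h => by rw [hlamG, dif_pos h]
  have hplG : IsPlane p RG lamG ⊤ := by
    refine ⟨P.2.to_le (hRGS.trans (nIn_le_left _ _)), ?_, ?_, ?_⟩
    · intro a ha b hb
      obtain ⟨ha1, ha2⟩ := (hmemRG a).mp ha
      obtain ⟨hb1, hb2⟩ := (hmemRG b).mp hb
      rw [hlamG' _ (Subgroup.mul_mem _ ha1 hb1), hlamG' a ha1, hlamG' b hb1]
      have e : (⟨a * b, Subgroup.mul_mem _ ha1 hb1⟩ :
          ↥(FusionSystem.normalizerIn (P : Subgroup G) Q)) = ⟨a, ha1⟩ * ⟨b, hb1⟩ := rfl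
      rw [e, map_mul]
      exact hp2 _ ha2 _ hb2
    · intro v
      obtain ⟨r, hr, hrv⟩ := hp3 v
      obtain ⟨s, hs⟩ := hR₂T hr
      refine ⟨(s : G), (hmemRG _).mpr ⟨s.2, by rw [Subtype.coe_eta, hs]; exact hr⟩, ?_⟩
      rw [hlamG' _ s.2, Subtype.coe_eta, hs, hrv]
    · intro M
      obtain ⟨g, -, hgR, hgl⟩ := hp4 M
      obtain ⟨f, hf, hfι⟩ := realized_conj hreal hRGS g (fun x hx =>
        hR₂T (hgR _ ((hmemRG x).mp hx).2))
      obtain ⟨φ, hφ, hφf⟩ := hf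
      rw [hN RG] at hφ
      obtain ⟨-, -, x₀, hx₀⟩ := hφ.1
      have hx₀f : ∀ r (hr : r ∈ RG), x₀ * r * x₀⁻¹ = f r := fun r hr => by
        rw [← hφf ⟨r, hr⟩, hx₀]
      refine ⟨x₀, Subgroup.mem_top _, fun r hr => ?_, fun r hr => ?_⟩
      · rw [hx₀f r hr]
        obtain ⟨hm, hme⟩ := hfι r hr
        exact (hmemRG _).mpr ⟨hm, by rw [hme]; exact hgR _ ((hmemRG r).mp hr).2⟩
      · rw [hx₀f r hr]
        obtain ⟨hm, hme⟩ := hfι r hr
        rw [hlamG' _ hm, hme, hgl _ ((hmemRG r).mp hr).2, hlamG' r (hRGS hr)]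
  exact involves_of_hasQdSec (hplG.hasQdSec hp)

/-- every `p`-subgroup of `C_G(Q)` lies in `Q` -/
def PCent (p : ℕ) {G : Type*} [Group G] (Q : Subgroup G) : Prop :=
  ∀ D : Subgroup G, IsPGroup p D → D ≤ Subgroup.centralizer (Q : Set G) → D ≤ Q

omit [Fact p.Prime] in
theorem PCent.conj {Q : Subgroup G} (h : PCent p Q) (g : G) :
    PCent p (Cfsg.Agent.Helper17.cj g Q) := by
  intro D hD hDc
  rw [le_cj_iff]
  apply h _ (hD.map _)
  intro x hx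
  obtain ⟨d, hd, rfl⟩ := mem_cj'.mp hx
  rw [Subgroup.mem_centralizer_iff]
  intro q hq
  have h1 := Subgroup.mem_centralizer_iff.mp (hDc hd) (g * q * g⁻¹) (conj_mem_cj hq)
  have h2 : q * (g⁻¹ * d * g⁻¹⁻¹) = g⁻¹ * ((g * q * g⁻¹) * d) * g := by group
  rw [h2, h1]
  group

omit [Fact p.Prime] in
theorem range_eq_cj {S Q : Subgroup G} {φ : ↥Q →* G} {x : G}
    (hx : ∀ q : ↥Q, φ q = x * (q : G) * x⁻¹) : φ.range = Cfsg.Agent.Helper17.cj x Q := by
  ext y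
  constructor
  · rintro ⟨q, rfl⟩
    rw [hx]
    exact conj_mem_cj q.2
  · intro hy
    obtain ⟨q, hq, rfl⟩ := mem_cj'.mp hy
    exact ⟨⟨q, hq⟩, hx _⟩

theorem fullyNormalized_of_sylIn [Finite G] (P : Sylow p G) {Q : Subgroup G}
    (hQ : Q ≤ (P : Subgroup G))
    (h : SylIn p (FusionSystem.normalizerIn (P : Subgroup G) Q)
      (Subgroup.normalizer (Q : Set G))) :
    (Cfsg.groupFusionSystem (P : Subgroup G)).IsFullyNormalized Q := by
  refine ⟨hQ, ?_⟩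
  rintro Q'' ⟨φ, ⟨-, -, x, hx⟩, rfl⟩
  rw [range_eq_cj (S := (P : Subgroup G)) hx]
  have h1 : Cfsg.Agent.Helper17.cj x⁻¹
      (FusionSystem.normalizerIn (P : Subgroup G) (Cfsg.Agent.Helper17.cj x Q)) ≤
      Subgroup.normalizer (Q : Set G) := by
    have h2 := cj_mono (g := x⁻¹) (nIn_le (P : Subgroup G) (Cfsg.Agent.Helper17.cj x Q))
    rwa [normalizer_cj, cj_inv_cj] at h2
  have h3 := h.card_le h1 ((P.2.to_le (nIn_le_left _ _)).map _)
  rwa [card_cj] at h3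

theorem centric_of_pCent (P : Sylow p G) {Q : Subgroup G} (hQ : Q ≤ (P : Subgroup G))
    (h : PCent p Q) : (Cfsg.groupFusionSystem (P : Subgroup G)).IsCentric Q := by
  refine ⟨hQ, ?_⟩
  rintro Q'' ⟨φ, ⟨-, -, x, hx⟩, rfl⟩
  rw [range_eq_cj (S := (P : Subgroup G)) hx]
  exact (h.conj x) _ (P.2.to_le inf_le_left) inf_le_right

omit [Fact p.Prime] in
/-- the normalizer system of `Q` in `F_P(G)` is `F_{N_P(Q)}(N_G(Q))` -/
theorem normSys [Finite G] (P Q : Subgroup G) (hQ : Q ≤ P) :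
    (Cfsg.groupFusionSystem P).IsNormalizerSystem Q
      (Cfsg.fusionSystemOfSubgroup (Subgroup.normalizer (Q : Set G))
        (FusionSystem.normalizerIn P Q) (nIn_le P Q)) := by
  intro P'
  ext φ
  constructor
  · rintro ⟨hP', hφ, g, hg, hgφ⟩
    have hcj : Cfsg.Agent.Helper17.cj g (P' ⊔ Q) ≤ P := by
      rw [Cfsg.Agent.Helper17.cj, Subgroup.map_sup]
      refine sup_le ?_ ?_
      · rintro _ ⟨x, hx, rfl⟩
        have := (hφ ⟨x, hx⟩).1
        rw [hgφ] at this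
        exact this
      · rintro _ ⟨q, hq, rfl⟩
        exact hQ ((Subgroup.mem_normalizer_iff.mp hg q).mp hq)
    refine ⟨⟨hP'.trans (nIn_le_left _ _), fun x => (hφ x).1, g, hgφ⟩, hP', hφ,
      Cfsg.conjHom (P' ⊔ Q) g, ⟨sup_le (hP'.trans (nIn_le_left _ _)) hQ,
        fun x => hcj (conj_mem_cj x.2), g, fun x => rfl⟩, fun x => (hgφ x).symm, ?_⟩
    ext y
    constructor
    · rintro ⟨q, hq, rfl⟩
      exact (Subgroup.mem_normalizer_iff.mp hg _).mp (Subgroup.mem_subgroupOf.mp hq)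
    · intro hy
      have h1 : g⁻¹ * y * g ∈ Q := by
        have := (Subgroup.mem_normalizer_iff.mp (Subgroup.inv_mem _ hg) y).mp hy
        rwa [inv_inv] at this
      refine ⟨⟨g⁻¹ * y * g, (le_sup_right : Q ≤ P' ⊔ Q) h1⟩, Subgroup.mem_subgroupOf.mpr h1, ?_⟩
      show g * (g⁻¹ * y * g) * g⁻¹ = y
      group
  · rintro ⟨-, hP', hφN, ψ, ⟨-, -, g, hg⟩, hψφ, hψQ⟩
    have hgN : g ∈ Subgroup.normalizer (Q : Set G) := by
      apply mem_normalizer_of_cj_le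
      intro y hy
      obtain ⟨q, hq, rfl⟩ := mem_cj'.mp hy
      rw [← hψQ]
      exact ⟨⟨q, (le_sup_right : Q ≤ P' ⊔ Q) hq⟩, Subgroup.mem_subgroupOf.mpr hq, hg _⟩
    exact ⟨hP', hφN, g, hgN, fun x => by rw [← hψφ x, hg]; rfl⟩

end Cfsg.Agent.Helper5.Plane
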