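import Cfsg.Agent.Helper5.PlaneFus

/-!
# The model `N_G(Q)/O_{p'}(C_G(Q))` of a normalizer system of a group fusion system (helper5)
-/

set_option autoImplicit false

namespace Cfsg.Agent.Helper5.Plane

open Cfsg Cfsg.FusionSystem Cfsg.Agent.Helper17 Cfsg.Agent.Helper27 Cfsg.Agent.Helper5
open Cfsg.Agent.Helper5.Qd

universe u

variable {p : ℕ} [Fact p.Prime] {G : Type u} [Group G]

/-- the `p'`-elements of `C_G(Q)` form a normal subgroup of `N_G(Q)` complementing `Z(Q)` in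
`C_G(Q)`, when every `p`-subgroup of `C_G(Q)` lies in `Q` -/
theorem exists_pprime_cent [Finite G] {Q : Subgroup G} (hQp : IsPGroup p Q) (hpc : PCent p Q) :
    ∃ K : Subgroup ↥(Subgroup.normalizer (Q : Set G)), K.Normal ∧
      (∀ x : ↥(Subgroup.normalizer (Q : Set G)), x ∈ K ↔
        (x : G) ∈ Subgroup.centralizer (Q : Set G) ∧ (orderOf (x : G)).Coprime p) ∧
      (∀ c : ↥(Subgroup.normalizer (Q : Set G)), (c : G) ∈ Subgroup.centralizer (Q : Set G) →
        ∃ k ∈ K, ∃ z : ↥(Subgroup.normalizer (Q : Set G)), (z : G) ∈ Q ∧ c = k * z) := by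
  obtain ⟨C, hC⟩ : ∃ C : Subgroup G, C = Subgroup.centralizer (Q : Set G) := ⟨_, rfl⟩
  obtain ⟨N, hN⟩ : ∃ N : Subgroup G, N = Subgroup.normalizer (Q : Set G) := ⟨_, rfl⟩
  have hCN : C ≤ N := by rw [hC, hN]; exact Subgroup.centralizer_le_normalizer (Q : Set G)
  have hmemC : ∀ x : G, x ∈ C ↔ ∀ q ∈ Q, q * x = x * q := by
    intro x; rw [hC, Subgroup.mem_centralizer_iff]; rfl
  have hZ : SylIn p (Q ⊓ C) C := by
    obtain ⟨A₀, hA₀⟩ := sylIn_exists p C
    have h1 : A₀ ≤ Q := hpc A₀ hA₀.2.1 (hC ▸ hA₀.1)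
    exact hA₀.of_le (le_inf h1 hA₀.1) inf_le_right (hQp.to_le inf_le_left)
  obtain ⟨Zs, hZs⟩ := hZ.toSylow
  have hcen : (Zs : Subgroup ↥C) ≤ Subgroup.center ↥C := by
    intro z hz
    rw [hZs, Subgroup.mem_subgroupOf] at hz
    rw [Subgroup.mem_center_iff]
    intro c
    apply Subtype.ext
    exact ((hmemC c).mp c.2 z hz.1).symm
  obtain ⟨K₀, hK₀mem, hK₀dec⟩ := central_sylow_compl Zs hcen
  obtain ⟨K₁, hK₁⟩ : ∃ K₁ : Subgroup G, K₁ = K₀.map C.subtype := ⟨_, rfl⟩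
  have hK₁mem : ∀ x : G, x ∈ K₁ ↔ x ∈ C ∧ (orderOf x).Coprime p := by
    intro x
    rw [hK₁]
    constructor
    · rintro ⟨c, hc, rfl⟩
      refine ⟨c.2, ?_⟩
      have := (hK₀mem c).mp hc
      rwa [← Subgroup.orderOf_coe] at this
    · rintro ⟨hxC, hx⟩
      refine ⟨⟨x, hxC⟩, (hK₀mem _).mpr ?_, rfl⟩
      rw [← Subgroup.orderOf_coe]
      exact hx
  have hconjC : ∀ n ∈ N, ∀ x ∈ C, n * x * n⁻¹ ∈ C := by
    intro n hn x hx
    rw [hmemC]
    intro q hq
    have hq' : n⁻¹ * q * n ∈ Q := by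
      have := (Subgroup.mem_normalizer_iff.mp (Subgroup.inv_mem _ (hN ▸ hn)) q).mp hq
      rwa [inv_inv] at this
    have h1 := (hmemC x).mp hx _ hq'
    have h2 : q * (n * x * n⁻¹) = n * ((n⁻¹ * q * n) * x) * n⁻¹ := by group
    rw [h2, h1]
    group
  have hconjK : ∀ n ∈ N, ∀ x ∈ K₁, n * x * n⁻¹ ∈ K₁ := by
    intro n hn x hx
    obtain ⟨hxC, hxo⟩ := (hK₁mem x).mp hx
    refine (hK₁mem _).mpr ⟨hconjC n hn x hxC, ?_⟩
    have h1 : orderOf (n * x * n⁻¹) = orderOf x := by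
      have := MulEquiv.orderOf_eq (MulAut.conj n) x
      rwa [MulAut.conj_apply] at this
    rw [h1]; exact hxo
  subst hN
  subst hC
  refine ⟨K₁.subgroupOf _, ⟨fun x hx n => ?_⟩, fun x => ?_, fun c hc => ?_⟩
  · rw [Subgroup.mem_subgroupOf] at hx ⊢
    exact hconjK n n.2 x hx
  · rw [Subgroup.mem_subgroupOf, hK₁mem]
  · obtain ⟨k, hk, z, hz, hkz⟩ := hK₀dec ⟨(c : G), hc⟩
    rw [hZs, Subgroup.mem_subgroupOf] at hz
    refine ⟨⟨(k : G), hCN k.2⟩, ?_, ⟨(z : G), hCN z.2⟩, hz.1, ?_⟩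
    · rw [Subgroup.mem_subgroupOf, hK₁]
      exact ⟨k, hk, rfl⟩
    · apply Subtype.ext
      have := congrArg Subtype.val hkz
      exact this

/-- elements of `K` that are `p`-elements are trivial -/
theorem pprime_elt_eq_one {H : Type*} [Group H] {x : H} (hx : (orderOf x).Coprime p)
    (hxp : ∃ k : ℕ, x ^ p ^ k = 1) : x = 1 := by
  obtain ⟨k, hk⟩ := hxp
  have h1 : orderOf x ∣ p ^ k := orderOf_dvd_of_pow_eq_one hk
  have h2 : orderOf x = 1 := Nat.Coprime.eq_one_of_dvd (Nat.Coprime.pow_right k hx) h1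
  exact orderOf_eq_one_iff.mp h2

theorem card_coprime_of_elts {H : Type*} [Group H] [Finite H]
    (h : ∀ x : H, (orderOf x).Coprime p) : (Nat.card H).Coprime p := by
  have hpp := (Fact.out : p.Prime)
  rw [Nat.coprime_comm, Nat.Prime.coprime_iff_not_dvd hpp]
  intro hdvd
  obtain ⟨x, hx⟩ := exists_prime_orderOf_dvd_card' p hdvd
  have := h x
  rw [hx] at this
  exact hpp.one_lt.ne' ((Nat.coprime_self p).mp this)

/-- the quotient of `N_G(Q)` by the `p'`-elements of `C_G(Q)` is a model of the normalizer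
system of `Q` -/
theorem isModel_quot [Finite G] (P : Sylow p G) {Q : Subgroup G} (hQ : Q ≤ (P : Subgroup G))
    (hsyl : SylIn p (FusionSystem.normalizerIn (P : Subgroup G) Q)
      (Subgroup.normalizer (Q : Set G)))
    (K : Subgroup ↥(Subgroup.normalizer (Q : Set G))) [hKn : K.Normal]
    (hKmem : ∀ x : ↥(Subgroup.normalizer (Q : Set G)), x ∈ K ↔
      (x : G) ∈ Subgroup.centralizer (Q : Set G) ∧ (orderOf (x : G)).Coprime p)
    (hKdec : ∀ c : ↥(Subgroup.normalizer (Q : Set G)),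
      (c : G) ∈ Subgroup.centralizer (Q : Set G) →
        ∃ k ∈ K, ∃ z : ↥(Subgroup.normalizer (Q : Set G)), (z : G) ∈ Q ∧ c = k * z) :
    (Cfsg.fusionSystemOfSubgroup (Subgroup.normalizer (Q : Set G))
        (FusionSystem.normalizerIn (P : Subgroup G) Q) (nIn_le (P : Subgroup G) Q)).IsModel p
      (↥(Subgroup.normalizer (Q : Set G)) ⧸ K)
      ((QuotientGroup.mk' K).comp (Subgroup.inclusion (nIn_le (P : Subgroup G) Q))) := by
  have hpp := (Fact.out : p.Prime)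
  obtain ⟨π, hπ⟩ : ∃ π : ↥(Subgroup.normalizer (Q : Set G)) →*
      (↥(Subgroup.normalizer (Q : Set G)) ⧸ K), π = QuotientGroup.mk' K := ⟨_, rfl⟩
  rw [← hπ]
  have hπs : Function.Surjective π := by rw [hπ]; exact QuotientGroup.mk'_surjective K
  have hπker : ∀ x, π x = 1 ↔ x ∈ K := by
    intro x; rw [hπ]; exact QuotientGroup.eq_one_iff x
  have hQp : IsPGroup p Q := P.2.to_le hQ
  have hSp : IsPGroup p (FusionSystem.normalizerIn (P : Subgroup G) Q) :=
    P.2.to_le (nIn_le_left _ _)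
  -- `p`-elements of `K` are trivial
  have hK1 : ∀ x : ↥(Subgroup.normalizer (Q : Set G)), x ∈ K →
      (∃ k : ℕ, (x : G) ^ p ^ k = 1) → x = 1 := by
    intro x hx hxp
    exact Subtype.ext (pprime_elt_eq_one ((hKmem x).mp hx).2 hxp)
  have hSelt : ∀ s : G, s ∈ FusionSystem.normalizerIn (P : Subgroup G) Q →
      ∃ k : ℕ, s ^ p ^ k = 1 := by
    intro s hs
    obtain ⟨k, hk⟩ := hSp ⟨s, hs⟩
    exact ⟨k, congrArg Subtype.val hk⟩
  have hιinj : Function.Injective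
      (π.comp (Subgroup.inclusion (nIn_le (P : Subgroup G) Q))) := by
    rw [injective_iff_map_eq_one]
    intro s hs
    rw [MonoidHom.comp_apply, hπker] at hs
    have h1 := hK1 _ hs (hSelt _ s.2)
    have h1' := congrArg Subtype.val h1
    apply Subtype.ext
    exact h1'
  obtain ⟨Ts, hTs⟩ := hsyl.toSylow
  have hKc : (Nat.card K).Coprime p := by
    apply card_coprime_of_elts
    intro x
    have := ((hKmem x).mp x.2).2
    rwa [Subgroup.orderOf_coe, Subgroup.orderOf_coe] at this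
  refine ⟨inferInstance, ⟨hιinj, fun P' hP' φ hφ => ⟨?_, ?_⟩⟩, ⟨Ts.mapSurjective hπs, ?_⟩, ?_⟩
  · rintro ⟨-, -, g, hgN, hg⟩
    refine ⟨π ⟨g, hgN⟩, fun x => ?_⟩
    rw [MonoidHom.comp_apply, MonoidHom.comp_apply, ← map_inv, ← map_mul, ← map_mul]
    congr 1
    apply Subtype.ext
    exact hg x
  · rintro ⟨l, hl⟩
    obtain ⟨n, rfl⟩ := hπs l
    have hB : P'.subgroupOf (Subgroup.normalizer (Q : Set G)) ≤ (Ts : Subgroup _) := by
      rw [hTs]
      intro b hb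
      exact Subgroup.mem_subgroupOf.mpr (hP' (Subgroup.mem_subgroupOf.mp hb))
    have hnB : Cfsg.Agent.Helper17.cj (QuotientGroup.mk' K n)
        ((P'.subgroupOf (Subgroup.normalizer (Q : Set G))).map (QuotientGroup.mk' K)) ≤
        (Ts : Subgroup _).map (QuotientGroup.mk' K) := by
      rw [← hπ]
      intro y hy
      obtain ⟨_, ⟨b, hb, rfl⟩, rfl⟩ := mem_cj'.mp hy
      have hbP' : (b : G) ∈ P' := Subgroup.mem_subgroupOf.mp hb
      have h1 := hl ⟨(b : G), hbP'⟩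
      rw [MonoidHom.comp_apply, MonoidHom.comp_apply] at h1
      have e : (Subgroup.inclusion (nIn_le (P : Subgroup G) Q)
          ⟨((⟨(b : G), hbP'⟩ : ↥P') : G), hP' hbP'⟩) = b := Subtype.ext rfl
      rw [e] at h1
      rw [← h1]
      refine ⟨_, ?_, rfl⟩
      rw [hTs, SetLike.mem_coe, Subgroup.mem_subgroupOf]
      exact hφ _
    obtain ⟨m, hm, hmn⟩ := Cfsg.Agent.Helper13.lift_pprime Ts K hKc ⊤ le_top n
      (Subgroup.mem_top _) _ hB hnB
    have hmK : m ∈ K := hm.1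
    have hπm : π m = 1 := (hπker m).mpr hmK
    refine ⟨hP', hφ, ((m * n : ↥(Subgroup.normalizer (Q : Set G))) : G), (m * n).2, fun x => ?_⟩
    have hb : (⟨(x : G), nIn_le _ _ (hP' x.2)⟩ : ↥(Subgroup.normalizer (Q : Set G))) ∈
        P'.subgroupOf (Subgroup.normalizer (Q : Set G)) := Subgroup.mem_subgroupOf.mpr x.2
    have h2 : (m * n) * ⟨(x : G), nIn_le _ _ (hP' x.2)⟩ * (m * n)⁻¹ ∈ (Ts : Subgroup _) :=
      hmn (conj_mem_cj hb)
    rw [hTs, Subgroup.mem_subgroupOf] at h2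
    have h3 := hl x
    have h4 : (π.comp (Subgroup.inclusion (nIn_le (P : Subgroup G) Q)))
        ⟨((m * n) * ⟨(x : G), nIn_le _ _ (hP' x.2)⟩ * (m * n)⁻¹ :
          ↥(Subgroup.normalizer (Q : Set G))), h2⟩ =
        (π.comp (Subgroup.inclusion (nIn_le (P : Subgroup G) Q))) ⟨φ x, hφ x⟩ := by
      rw [h3, MonoidHom.comp_apply, MonoidHom.comp_apply]
      have e : (Subgroup.inclusion (nIn_le (P : Subgroup G) Q)
          ⟨((m * n) * ⟨(x : G), nIn_le _ _ (hP' x.2)⟩ * (m * n)⁻¹ :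
            ↥(Subgroup.normalizer (Q : Set G))), h2⟩) =
          (m * n) * ⟨(x : G), nIn_le _ _ (hP' x.2)⟩ * (m * n)⁻¹ := Subtype.ext rfl
      have e' : (Subgroup.inclusion (nIn_le (P : Subgroup G) Q) ⟨(x : G), hP' x.2⟩) =
          ⟨(x : G), nIn_le _ _ (hP' x.2)⟩ := Subtype.ext rfl
      rw [e, e', map_mul, map_mul, map_inv, map_mul, hπm, one_mul]
    have h5 := congrArg Subtype.val (hιinj h4)
    exact h5.symm
  · rw [Sylow.coe_mapSurjective, hTs]
    ext y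
    constructor
    · rintro ⟨n, hn, rfl⟩
      exact ⟨⟨(n : G), Subgroup.mem_subgroupOf.mp hn⟩, rfl⟩
    · rintro ⟨s, rfl⟩
      exact ⟨Subgroup.inclusion (nIn_le (P : Subgroup G) Q) s,
        Subgroup.mem_subgroupOf.mpr s.2, rfl⟩
  · obtain ⟨Qb, hQb⟩ : ∃ Qb : Subgroup (↥(Subgroup.normalizer (Q : Set G)) ⧸ K),
        Qb = (Q.subgroupOf (Subgroup.normalizer (Q : Set G))).map π := ⟨_, rfl⟩
    haveI hQn : (Q.subgroupOf (Subgroup.normalizer (Q : Set G))).Normal :=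
      Subgroup.normal_in_normalizer
    have hQbn : Qb.Normal := by rw [hQb]; exact Subgroup.Normal.map hQn π hπs
    have hQbp : IsPGroup p Qb := by rw [hQb]; exact hQp.comap_subtype.map π
    have hQble : Qb ≤ Cfsg.pCore p (↥(Subgroup.normalizer (Q : Set G)) ⧸ K) :=
      le_sSup ⟨hQbn, hQbp⟩
    intro l hl
    obtain ⟨n, rfl⟩ := hπs l
    apply hQble
    have hnC : (n : G) ∈ Subgroup.centralizer (Q : Set G) := by
      rw [Subgroup.mem_centralizer_iff]
      intro q hq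
      have hqN : q ∈ Subgroup.normalizer (Q : Set G) := Subgroup.le_normalizer hq
      have h1 : π ⟨q, hqN⟩ ∈ Cfsg.pCore p (↥(Subgroup.normalizer (Q : Set G)) ⧸ K) :=
        hQble (by rw [hQb]; exact ⟨_, Subgroup.mem_subgroupOf.mpr hq, rfl⟩)
      have h2 := Subgroup.mem_centralizer_iff.mp hl _ h1
      -- the commutator lies in `K ∩ Q`
      have h3 : n * ⟨q, hqN⟩ * n⁻¹ * (⟨q, hqN⟩ : ↥(Subgroup.normalizer (Q : Set G)))⁻¹ ∈ K := by
        rw [← hπker, map_mul, map_mul, map_mul, map_inv, map_inv, ← h2]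
        group
      have h4 : ((n * ⟨q, hqN⟩ * n⁻¹ * (⟨q, hqN⟩ : ↥(Subgroup.normalizer (Q : Set G)))⁻¹ :
          ↥(Subgroup.normalizer (Q : Set G))) : G) ∈ Q := by
        show (n : G) * q * (n : G)⁻¹ * q⁻¹ ∈ Q
        exact Q.mul_mem ((Subgroup.mem_normalizer_iff.mp n.2 q).mp hq) (Q.inv_mem hq)
      have h5 := hK1 _ h3 (by
        obtain ⟨k, hk⟩ := hQp ⟨_, h4⟩
        exact ⟨k, congrArg Subtype.val hk⟩)
      have h6 : (n : G) * q * (n : G)⁻¹ * q⁻¹ = 1 := congrArg Subtype.val h5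
      have h7 : (n : G) * q = q * (n : G) := by
        have := congrArg (fun t => t * q * (n : G)) h6
        simpa [mul_assoc] using this
      exact h7.symm
    obtain ⟨k, hk, z, hz, hkz⟩ := hKdec n hnC
    rw [hkz, map_mul, (hπker k).mpr hk, one_mul, hQb]
    exact ⟨z, Subgroup.mem_subgroupOf.mpr hz, rfl⟩

omit [Fact p.Prime] in
theorem normalizer_le_normalizer_centralizer [Finite G] (R : Subgroup G) :
    Subgroup.normalizer (R : Set G) ≤
      Subgroup.normalizer ((Subgroup.centralizer (R : Set G) : Subgroup G) : Set G) := by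
  intro n hn
  apply mem_normalizer_of_cj_le
  intro x hx
  obtain ⟨c, hc, rfl⟩ := mem_cj'.mp hx
  rw [Subgroup.mem_centralizer_iff]
  intro r hr
  have hr' : n⁻¹ * r * n ∈ R := by
    have := (Subgroup.mem_normalizer_iff.mp (Subgroup.inv_mem _ hn) r).mp hr
    rwa [inv_inv] at this
  have h1 := Subgroup.mem_centralizer_iff.mp hc _ hr'
  have h2 : r * (n * c * n⁻¹) = n * ((n⁻¹ * r * n) * c) * n⁻¹ := by group
  rw [h2, h1]
  group

/-- a plane datum can be moved to a centric subgroup `Q ≤ P` with `N_P(Q)` Sylow in `N_G(Q)` -/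
theorem exists_centric_plane [Finite G] (P : Sylow p G) {R E : Subgroup G}
    {lam : G → ZMod p × ZMod p} (h : IsPlane p R lam E) :
    ∃ (Q R' : Subgroup G) (lam' : G → ZMod p × ZMod p), Q ≤ (P : Subgroup G) ∧ R' ≤ Q ∧
      PCent p Q ∧
      SylIn p (FusionSystem.normalizerIn (P : Subgroup G) Q) (Subgroup.normalizer (Q : Set G)) ∧
      IsPlane p R' lam' (Subgroup.normalizer (Q : Set G)) := by
  -- first normalize `R`
  obtain ⟨g, hgP, hgS⟩ := exists_cj_sylIn_normalizer P R h.1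
  obtain ⟨lam₁, hpl₁, -⟩ := h.map (MulAut.conj g).toMonoidHom
    (fun r _ hr => (MulAut.conj g).injective (by rw [map_one]; exact hr))
  obtain ⟨R₁, hR₁⟩ : ∃ R₁ : Subgroup G, R₁ = Cfsg.Agent.Helper17.cj g R := ⟨_, rfl⟩
  rw [← hR₁] at hgP hgS
  have hpl₁' : IsPlane p R₁ lam₁ ⊤ := by rw [hR₁]; exact hpl₁.mono le_top
  clear hpl₁ h
  obtain ⟨C, hC⟩ : ∃ C : Subgroup G, C = Subgroup.centralizer (R₁ : Set G) := ⟨_, rfl⟩
  have hCN : C ≤ Subgroup.normalizer (R₁ : Set G) := by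
    rw [hC]; exact Subgroup.centralizer_le_normalizer (R₁ : Set G)
  have hNC : Subgroup.normalizer (R₁ : Set G) ≤ Subgroup.normalizer (C : Set G) := by
    rw [hC]; exact normalizer_le_normalizer_centralizer R₁
  obtain ⟨T₀, hT₀def⟩ : ∃ T₀ : Subgroup G, T₀ = (P : Subgroup G) ⊓ C := ⟨_, rfl⟩
  have hT₀ : SylIn p T₀ C := by
    have h1 := hgS.inf_normal hCN hNC
    have h2 : ((P : Subgroup G) ⊓ Subgroup.normalizer (R₁ : Set G)) ⊓ C = T₀ := by
      rw [hT₀def, inf_assoc, inf_eq_right.mpr hCN]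
    rwa [h2] at h1
  have hT₀P : T₀ ≤ (P : Subgroup G) := by rw [hT₀def]; exact inf_le_left
  obtain ⟨Q₀, hQ₀⟩ : ∃ Q₀ : Subgroup G, Q₀ = R₁ ⊔ T₀ := ⟨_, rfl⟩
  have hQ₀P : Q₀ ≤ (P : Subgroup G) := by rw [hQ₀]; exact sup_le hgP hT₀P
  have hmemC : ∀ x : G, x ∈ C ↔ ∀ r ∈ R₁, r * x = x * r := by
    intro x; rw [hC, Subgroup.mem_centralizer_iff]; rfl
  have hpc : PCent p Q₀ := by
    intro D hD hDc
    have hDC : D ≤ C := by
      rw [hC]
      refine hDc.trans (Subgroup.centralizer_le ?_)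
      rw [hQ₀]
      exact (le_sup_left : R₁ ≤ R₁ ⊔ T₀)
    have hDT : D ≤ Subgroup.normalizer (T₀ : Set G) := by
      refine (hDc.trans (Subgroup.centralizer_le ?_)).trans
        (Subgroup.centralizer_le_normalizer (T₀ : Set G))
      rw [hQ₀]
      exact (le_sup_right : T₀ ≤ R₁ ⊔ T₀)
    have hpg : IsPGroup p (D ⊔ T₀ : Subgroup G) :=
      IsPGroup.to_sup_of_normal_right' hD hT₀.2.1 hDT
    have h1 := hT₀.eq_of_le le_sup_right (sup_le hDC hT₀.1) hpg
    rw [hQ₀]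
    exact (le_sup_left.trans (le_of_eq h1.symm)).trans le_sup_right
  have hplQ₀ : IsPlane p R₁ lam₁ (Subgroup.normalizer (Q₀ : Set G)) := by
    obtain ⟨hp1, hp2, hp3, hp4⟩ := hpl₁'
    refine ⟨hp1, hp2, hp3, fun M => ?_⟩
    obtain ⟨g₁, -, hgR, hgl⟩ := hp4 M
    have hg₁N : g₁ ∈ Subgroup.normalizer (R₁ : Set G) := by
      apply mem_normalizer_of_cj_le
      intro x hx
      obtain ⟨r, hr, rfl⟩ := mem_cj'.mp hx
      exact hgR r hr
    have hD : Cfsg.Agent.Helper17.cj g₁ T₀ ≤ C := by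
      have h1 := cj_mono (g := g₁) hT₀.1
      rwa [cj_eq_self_of_mem_normalizer (hNC hg₁N)] at h1
    obtain ⟨c, hc, hcD⟩ := hT₀.exists_conj_le hD (hT₀.2.1.map _)
    have hcR : ∀ r ∈ R₁, c * r * c⁻¹ = r := by
      intro r hr
      have := (hmemC c).mp hc r hr
      rw [← this]; group
    have hconj : ∀ r ∈ R₁, (c * g₁) * r * (c * g₁)⁻¹ = g₁ * r * g₁⁻¹ := by
      intro r hr
      have e : (c * g₁) * r * (c * g₁)⁻¹ = c * (g₁ * r * g₁⁻¹) * c⁻¹ := by group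
      rw [e, hcR _ (hgR r hr)]
    refine ⟨c * g₁, ?_, fun r hr => ?_, fun r hr => ?_⟩
    · apply mem_normalizer_of_cj_le
      rw [hQ₀, Cfsg.Agent.Helper17.cj, Subgroup.map_sup]
      refine sup_le ?_ ?_
      · rintro _ ⟨r, hr, rfl⟩
        refine (le_sup_left : R₁ ≤ R₁ ⊔ T₀) ?_
        have := hconj r hr
        rw [MulEquiv.coe_toMonoidHom, MulAut.conj_apply, this]
        exact hgR r hr
      · have h1 : Cfsg.Agent.Helper17.cj (c * g₁) T₀ ≤ T₀ := by rw [cj_mul]; exact hcD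
        exact h1.trans le_sup_right
    · rw [hconj r hr]; exact hgR r hr
    · rw [hconj r hr]; exact hgl r hr
  -- now move `Q₀` to a fully normalized conjugate
  obtain ⟨g₂, hg₂P, hg₂S⟩ := exists_cj_sylIn_normalizer P Q₀ (P.2.to_le hQ₀P)
  obtain ⟨lam₂, hpl₂, -⟩ := hplQ₀.map (MulAut.conj g₂).toMonoidHom
    (fun r _ hr => (MulAut.conj g₂).injective (by rw [map_one]; exact hr))
  refine ⟨Cfsg.Agent.Helper17.cj g₂ Q₀, Cfsg.Agent.Helper17.cj g₂ R₁, lam₂, hg₂P, ?_, hpc.conj g₂,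
    hg₂S, ?_⟩
  · rw [hQ₀]; exact cj_mono le_sup_left
  · rw [normalizer_cj]; exact hpl₂

end Cfsg.Agent.Helper5.Plane
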