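import Cfsg.Agent.Helper5.SL2H

/-!
# Conjugate unipotent pairs with trace in the prime field (helper5)

`unip_conj_pair`: in a finite subgroup of `SL₂(F)` (`F` of odd characteristic `p`) containing
two noncommuting unipotent elements `u, v`, one of `u, v` has a conjugate `q'` with
`tr (q q') - 2` a nonzero element of the prime field.
-/

set_option autoImplicit false
namespace Cfsg.Agent.Helper5.SL2
open Matrix
open Cfsg.Agent.Helper27.SL2E

variable {F : Type*} [Field F]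

/-- standard position up to conjugacy, recording the conjugates -/
theorem exists_std' (u v : S2 F) (htu : tr u = 2) (htv : tr v = 2) (hne : u * v ≠ v * u) :
    ∃ (g : S2 F) (μ₀ ν₀ : F), μ₀ ≠ 0 ∧ ν₀ ≠ 0 ∧
      ((g * xm μ₀ * g⁻¹ = u ∧ g * ym ν₀ * g⁻¹ = v) ∨
        (g * xm μ₀ * g⁻¹ = v ∧ g * ym ν₀ * g⁻¹ = u)) := by
  by_cases hu10 : u.1 1 0 = 0
  · have huxm := unip_upper htu hu10
    have hv10 : v.1 1 0 ≠ 0 := by
      intro h0
      have hvxm := unip_upper htv h0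
      apply hne
      rw [huxm, hvxm, xm_add, xm_add, add_comm]
    have hμ0 : u.1 0 1 ≠ 0 := by
      intro h0
      apply hne
      rw [huxm, h0, xm_zero, one_mul, mul_one]
    refine ⟨xm ((v.1 0 0 - 1) / v.1 1 0), u.1 0 1, v.1 1 0, hμ0, hv10, Or.inl ⟨?_, ?_⟩⟩
    · rw [xm_inv, xm_add, xm_add]
      have e : (v.1 0 0 - 1) / v.1 1 0 + u.1 0 1 + -((v.1 0 0 - 1) / v.1 1 0) = u.1 0 1 := by ring
      rw [e, ← huxm]
    · exact unip_conj_ym v htv hv10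
  · have hu' := unip_conj_ym u htu hu10
    obtain ⟨ω, hω⟩ : ∃ ω : F, ω = (u.1 0 0 - 1) / u.1 1 0 := ⟨_, rfl⟩
    rw [← hω] at hu'
    obtain ⟨v', hv'⟩ : ∃ v' : S2 F, v' = (xm ω)⁻¹ * v * xm ω := ⟨_, rfl⟩
    have htv' : tr v' = 2 := by
      have h1 := tr_conj (xm ω)⁻¹ v
      rw [inv_inv] at h1
      rw [hv', h1]
      exact htv
    have hv2 : v = xm ω * v' * (xm ω)⁻¹ := by rw [hv']; group
    have e1 : ∀ a b : S2 F, xm ω * a * (xm ω)⁻¹ * (xm ω * b * (xm ω)⁻¹) =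
        xm ω * (a * b) * (xm ω)⁻¹ := by
      intro a b; group
    have hv'01 : v'.1 0 1 ≠ 0 := by
      intro h0
      have hv'ym := unip_lower htv' h0
      apply hne
      rw [← hu', hv2, hv'ym, e1, e1, ym_add, ym_add, add_comm]
    have hv'' := unip_conj_xm v' htv' hv'01
    obtain ⟨ω', hω'⟩ : ∃ ω' : F, ω' = (v'.1 1 1 - 1) / v'.1 0 1 := ⟨_, rfl⟩
    rw [← hω'] at hv''
    refine ⟨xm ω * ym ω', v'.1 0 1, u.1 1 0, hv'01, hu10, Or.inr ⟨?_, ?_⟩⟩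
    · have e2 : xm ω * ym ω' * xm (v'.1 0 1) * (xm ω * ym ω')⁻¹ =
          xm ω * (ym ω' * xm (v'.1 0 1) * (ym ω')⁻¹) * (xm ω)⁻¹ := by group
      rw [e2, hv'', ← hv2]
    · have e2 : xm ω * ym ω' * ym (u.1 1 0) * (xm ω * ym ω')⁻¹ =
          xm ω * (ym ω' * ym (u.1 1 0) * (ym ω')⁻¹) * (xm ω)⁻¹ := by group
      have e3 : ym ω' * ym (u.1 1 0) * (ym ω')⁻¹ = ym (u.1 1 0) := by
        rw [ym_add, add_comm, ← ym_add, mul_inv_cancel_right]
      rw [e2, e3, hu']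

/-- `goodPair_std`, recording that the pair contains one of the two standard generators -/
theorem goodPair_std' (p : ℕ) [Fact p.Prime] [CharP F p] {G : Subgroup (S2 F)} [Finite G]
    (h2 : (2 : F) ≠ 0) (hneg : (-1 : S2 F) ∈ G) {μ₀ ν₀ : F} (hμ : μ₀ ≠ 0) (hx : xm μ₀ ∈ G)
    (hν : ν₀ ≠ 0) (hy : ym ν₀ ∈ G) :
    ∃ (μ : F) (v : S2 F), xm μ ∈ G ∧ v ∈ G ∧ tr v = 2 ∧ (μ = μ₀ ∨ v = ym ν₀) ∧
      ∃ i : ZMod p, i ≠ 0 ∧ μ * v.1 1 0 = ZMod.castHom (dvd_refl p) F i := by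
  rcases main_std p h2 hneg hμ hx hν hy with h | ⟨h3, hall⟩
  · refine ⟨-(1 / (2 * ν₀)), ym ν₀, h, hy, tr_ym ν₀, Or.inr rfl, -(2 : ZMod p)⁻¹, ?_, ?_⟩
    · apply neg_ne_zero.mpr
      apply inv_ne_zero
      intro h0
      apply h2
      have := congrArg (ZMod.castHom (dvd_refl p) F) h0
      rwa [map_ofNat, map_zero] at this
    · rw [ym_10, map_neg, map_inv₀, map_ofNat]
      field_simp
  · subst h3
    have h3F : (3 : F) = 0 := by exact_mod_cast CharP.cast_eq_zero F 3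
    have hMG : xm μ₀ * ym ν₀ ∈ G := G.mul_mem hx hy
    have htr : tr (xm μ₀ * ym ν₀) = 2 + μ₀ * ν₀ := by
      unfold tr
      rw [mul00, mul11]
      simp
      ring
    have hρ0 : μ₀ * ν₀ ≠ 0 := mul_ne_zero hμ hν
    by_cases hd : disc (xm μ₀ * ym ν₀) = 0
    · have h1 : μ₀ * ν₀ * (μ₀ * ν₀ + 4) = 0 := by
        rw [disc_eq, htr] at hd; linear_combination hd
      have hρ : μ₀ * ν₀ = -1 := by
        rcases mul_eq_zero.mp h1 with h | h
        · exact absurd h hρ0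
        · linear_combination h - h3F
      exact ⟨μ₀, ym ν₀, hx, hy, tr_ym ν₀, Or.inl rfl, -1, neg_ne_zero.mpr one_ne_zero, by
        rw [ym_10, hρ, map_neg, map_one]⟩
    · have hpw : ∀ n : ℕ, Nat.card (cen (⟨xm μ₀ * ym ν₀, hMG⟩ : ↥G)) = n →
          (xm μ₀ * ym ν₀) ^ n = 1 := by
        intro n hn
        have h1 : (⟨⟨xm μ₀ * ym ν₀, hMG⟩, self_mem_cen _⟩ :
            cen (⟨xm μ₀ * ym ν₀, hMG⟩ : ↥G)) ^ Nat.card (cen (⟨xm μ₀ * ym ν₀, hMG⟩ : ↥G)) = 1 :=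
          pow_card_eq_one'
        rw [hn] at h1
        have h2' := congrArg (fun z : cen (⟨xm μ₀ * ym ν₀, hMG⟩ : ↥G) => ((z : ↥G) : S2 F)) h1
        exact h2'
      obtain ⟨v, hvG, hvtr, hv10⟩ := v2_prop hx hy
      rcases hall ⟨xm μ₀ * ym ν₀, hMG⟩ hd with h4 | h10
      · have ht0 := tr_of_pow4 hd (hpw 4 h4)
        have hρ : μ₀ * ν₀ = 1 := by rw [htr] at ht0; linear_combination ht0 - h3F
        exact ⟨μ₀, ym ν₀, hx, hy, tr_ym ν₀, Or.inl rfl, 1, one_ne_zero, by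
          rw [ym_10, hρ, map_one]⟩
      · rcases tr_of_pow10 hd (hpw 10 h10) with h | h
        · rw [htr] at h
          have hρ4 : (μ₀ * ν₀) ^ 4 = -1 := by
            linear_combination ((μ₀ * ν₀) ^ 2 + μ₀ * ν₀ + 2) * h +
              (-2 * (μ₀ * ν₀) ^ 3 - 4 * (μ₀ * ν₀) ^ 2 - 5 * (μ₀ * ν₀) - 3) * h3F
          refine ⟨μ₀, v, hx, hvG, hvtr, Or.inl rfl, 1, one_ne_zero, ?_⟩
          rw [hv10, map_one]
          linear_combination -hρ4
        · rw [htr] at h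
          have hρ4 : (μ₀ * ν₀) ^ 4 = 1 := by
            linear_combination ((μ₀ * ν₀) ^ 2 - 1) * h +
              (-((μ₀ * ν₀) ^ 2 - 1) * (μ₀ * ν₀)) * h3F
          refine ⟨μ₀, v, hx, hvG, hvtr, Or.inl rfl, -1, neg_ne_zero.mpr one_ne_zero, ?_⟩
          rw [hv10, map_neg, map_one]
          linear_combination -hρ4

theorem tr_xm_conj (μ : F) (w : S2 F) :
    tr (xm μ * (w * xm μ * w⁻¹)) = 2 - (μ * w.1 1 0) ^ 2 := by
  have h1 : tr (xm μ * (w * xm μ * w⁻¹)) =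
      tr (w * xm μ * w⁻¹) + μ * (w * xm μ * w⁻¹).1 1 0 := by
    unfold tr
    rw [mul00, mul11]
    simp only [xm_00, xm_01, xm_10, xm_11]
    ring
  rw [h1, tr_conj, tr_xm, conj_xm_10]
  ring

theorem tr_ym_conj (ν μ : F) :
    tr (ym ν * (xm μ * ym ν * (xm μ)⁻¹)) = 2 - (μ * ν) ^ 2 := by
  rw [xm_inv]
  simp only [tr, mul00, mul01, mul10, mul11, xm_00, xm_01, xm_10, xm_11, ym_00, ym_01, ym_10,
    ym_11]
  ring

/-- one of two noncommuting unipotent elements of a finite subgroup of `SL₂(F)` has a conjugate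
such that the trace of the product is `2 + j` with `j` a nonzero element of the prime field -/
theorem unip_conj_pair (p : ℕ) [Fact p.Prime] [CharP F p] (hp2 : p ≠ 2) (G : Subgroup (S2 F))
    [Finite G] (u v : S2 F) (hu : u ∈ G) (hv : v ∈ G) (htu : tr u = 2) (htv : tr v = 2)
    (hne : u * v ≠ v * u) :
    ∃ (q h : S2 F), (q = u ∨ q = v) ∧ h ∈ G ∧ ∃ j : ZMod p, j ≠ 0 ∧
      tr (q * (h * q * h⁻¹)) = 2 + ZMod.castHom (dvd_refl p) F j := by
  have hpp := (Fact.out : p.Prime)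
  have h2 : (2 : F) ≠ 0 := by
    intro h
    have h' : ((2 : ℕ) : F) = 0 := by exact_mod_cast h
    have h3 := (CharP.cast_eq_zero_iff F p 2).mp h'
    exact hp2 ((Nat.prime_dvd_prime_iff_eq hpp Nat.prime_two).mp h3)
  obtain ⟨g, μ₀, ν₀, hμ, hν, hstd⟩ := exists_std' u v htu htv hne
  have hx : g * xm μ₀ * g⁻¹ ∈ Gpm G := by
    rcases hstd with ⟨h1, -⟩ | ⟨h1, -⟩
    · rw [h1]; exact Or.inl hu
    · rw [h1]; exact Or.inl hv
  have hy : g * ym ν₀ * g⁻¹ ∈ Gpm G := by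
    rcases hstd with ⟨-, h1⟩ | ⟨-, h1⟩
    · rw [h1]; exact Or.inl hv
    · rw [h1]; exact Or.inl hu
  haveI : Finite ↥(Gpm G) := finite_Gpm G
  haveI : Finite ↥((Gpm G).comap (MulAut.conj g).toMonoidHom) :=
    Finite.of_injective
      (fun z : ↥((Gpm G).comap (MulAut.conj g).toMonoidHom) =>
        (⟨g * z.1 * g⁻¹, z.2⟩ : ↥(Gpm G))) (by
      intro a b hab
      have h1 : g * a.1 * g⁻¹ = g * b.1 * g⁻¹ := congrArg Subtype.val hab
      apply Subtype.ext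
      exact (MulAut.conj g).injective h1)
  have hneg : (-1 : S2 F) ∈ (Gpm G).comap (MulAut.conj g).toMonoidHom := by
    show g * (-1) * g⁻¹ ∈ Gpm G
    have e : g * (-1) * g⁻¹ = -1 := by rw [mul_neg, mul_one, neg_mul, mul_inv_cancel]
    rw [e]
    exact Or.inr (by rw [neg_neg]; exact G.one_mem)
  obtain ⟨μ, w, hxμ, hw, htr, hor, i, hi, hprod⟩ :=
    goodPair_std' p (G := (Gpm G).comap (MulAut.conj g).toMonoidHom) h2 hneg hμ hx hν hy
  have hxμ' : g * xm μ * g⁻¹ ∈ G :=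
    unip_mem_of_Gpm p hp2 (show g * xm μ * g⁻¹ ∈ Gpm G from hxμ) (by rw [tr_conj, tr_xm])
  have hw' : g * w * g⁻¹ ∈ G :=
    unip_mem_of_Gpm p hp2 (show g * w * g⁻¹ ∈ Gpm G from hw) (by rw [tr_conj]; exact htr)
  have hj : -(i * i) ≠ 0 := neg_ne_zero.mpr (mul_ne_zero hi hi)
  have e0 : ∀ q₀ h₀ : S2 F, (g * q₀ * g⁻¹) * ((g * h₀ * g⁻¹) * (g * q₀ * g⁻¹) * (g * h₀ * g⁻¹)⁻¹) =
      g * (q₀ * (h₀ * q₀ * h₀⁻¹)) * g⁻¹ := by
    intro q₀ h₀; group
  rcases hor with hμμ | hwy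
  · -- the pair contains `xm μ₀`
    refine ⟨g * xm μ₀ * g⁻¹, g * w * g⁻¹, ?_, hw', -(i * i), hj, ?_⟩
    · rcases hstd with ⟨h1, -⟩ | ⟨h1, -⟩
      · exact Or.inl h1
      · exact Or.inr h1
    · rw [e0, tr_conj, ← hμμ, tr_xm_conj, hprod, map_neg, map_mul]
      ring
  · -- the pair contains `ym ν₀`
    refine ⟨g * ym ν₀ * g⁻¹, g * xm μ * g⁻¹, ?_, hxμ', -(i * i), hj, ?_⟩
    · rcases hstd with ⟨-, h1⟩ | ⟨-, h1⟩
      · exact Or.inr h1
      · exact Or.inl h1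
    · have h1 : μ * ν₀ = ZMod.castHom (dvd_refl p) F i := by
        rw [← hprod, hwy, ym_10]
      rw [e0, tr_conj, tr_ym_conj, h1, map_neg, map_mul]
      ring

end Cfsg.Agent.Helper5.SL2
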