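import Mathlib
import Cfsg.Agent.Helper5.RedSL2

/-!
# Reduction to `SL₂`, keeping track of the subquotient (helper5)

`red_SL2'`: as `red_SL2`, with the extra information that the two-dimensional representation
`φ` is a subquotient of `ρ`: if `(φ g₁ - 1)(φ g₂ - 1) + (φ g₂ - 1)(φ g₁ - 1) = l`, then
`(ρ g₁ - 1)(ρ g₂ - 1) + (ρ g₂ - 1)(ρ g₁ - 1) - l` is not injective.
-/

set_option autoImplicit false
namespace Cfsg.Agent.Helper5.SL2
open Polynomial

section red
universe u
variable {K : Type*} [Field K] {p : ℕ} [Fact p.Prime] [CharP K p]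
variable {D : Type*} [Group D] {W : Type u} [AddCommGroup W] [Module K W]

/-- the operator `(f₁ - 1)(f₂ - 1) + (f₂ - 1)(f₁ - 1) - l` -/
def EE (f₁ f₂ : W ≃ₗ[K] W) (l : K) : Module.End K W :=
  ((f₁ : W →ₗ[K] W) - 1) * ((f₂ : W →ₗ[K] W) - 1) +
    ((f₂ : W →ₗ[K] W) - 1) * ((f₁ : W →ₗ[K] W) - 1) - l • 1

theorem EE_apply (f₁ f₂ : W ≃ₗ[K] W) (l : K) (w : W) :
    EE f₁ f₂ l w = f₁ (f₂ w - w) - (f₂ w - w) + (f₂ (f₁ w - w) - (f₁ w - w)) - l • w := by
  simp [EE, Module.End.mul_apply]

/-- `φ` is a subquotient of `ρ`, as far as the operators `EE` see -/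
def Sub2 (ρ : D →* (W ≃ₗ[K] W)) (φ : D →* Matrix.SpecialLinearGroup (Fin 2) K) : Prop :=
  ∀ (g₁ g₂ : D) (l : K),
    ((φ g₁).1 - 1) * ((φ g₂).1 - 1) + ((φ g₂).1 - 1) * ((φ g₁).1 - 1) =
      l • (1 : Matrix (Fin 2) (Fin 2) K) →
    ¬ Function.Injective (EE (ρ g₁) (ρ g₂) l)

theorem EE_res (ρ : D →* (W ≃ₗ[K] W)) (U : Submodule K W)
    (hU : ∀ (g : D) (w : W), ρ g w ∈ U ↔ w ∈ U) (g₁ g₂ : D) (l : K)
    (h : ¬ Function.Injective (EE (resHom ρ U hU g₁) (resHom ρ U hU g₂) l)) :
    ¬ Function.Injective (EE (ρ g₁) (ρ g₂) l) := by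
  intro hinj
  apply h
  intro a b hab
  apply Subtype.ext
  apply hinj
  have h1 : ∀ c : U, ((EE (resHom ρ U hU g₁) (resHom ρ U hU g₂) l c : U) : W) =
      EE (ρ g₁) (ρ g₂) l (c : W) := by
    intro c
    rw [EE_apply, EE_apply]
    simp only [Submodule.coe_sub, Submodule.coe_add, Submodule.coe_smul, resHom_apply]
  rw [← h1, ← h1, hab]

theorem EE_quot [FiniteDimensional K W] (ρ : D →* (W ≃ₗ[K] W)) (U : Submodule K W)
    (hU : ∀ (g : D) (w : W), ρ g w ∈ U ↔ w ∈ U) (g₁ g₂ : D) (l : K)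
    (h : ¬ Function.Injective (EE (quotHom ρ U hU g₁) (quotHom ρ U hU g₂) l)) :
    ¬ Function.Injective (EE (ρ g₁) (ρ g₂) l) := by
  intro hinj
  apply h
  have h1 : ∀ g : D, ∀ w ∈ U, ρ g w ∈ U := fun g w hw => (hU g w).mpr hw
  have hTU : ∀ w ∈ U, EE (ρ g₁) (ρ g₂) l w ∈ U := by
    intro w hw
    rw [EE_apply]
    exact U.sub_mem (U.add_mem
      (U.sub_mem (h1 _ _ (U.sub_mem (h1 _ _ hw) hw)) (U.sub_mem (h1 _ _ hw) hw))
      (U.sub_mem (h1 _ _ (U.sub_mem (h1 _ _ hw) hw)) (U.sub_mem (h1 _ _ hw) hw)))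
      (U.smul_mem _ hw)
  have hmk : ∀ w, EE (quotHom ρ U hU g₁) (quotHom ρ U hU g₂) l (Submodule.Quotient.mk w) =
      Submodule.Quotient.mk (EE (ρ g₁) (ρ g₂) l w) := by
    intro w
    rw [EE_apply, EE_apply]
    simp only [quotHom_apply, ← Submodule.Quotient.mk_sub, ← Submodule.Quotient.mk_add,
      ← Submodule.Quotient.mk_smul]
  have hsurjU : ∀ u ∈ U, ∃ u' ∈ U, EE (ρ g₁) (ρ g₂) l u' = u := by
    have hinjU : Function.Injective ((EE (ρ g₁) (ρ g₂) l).restrict hTU) := by
      intro a b hab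
      apply Subtype.ext
      apply hinj
      exact congrArg Subtype.val hab
    have hsurj := LinearMap.injective_iff_surjective.mp hinjU
    intro u hu
    obtain ⟨u', hu'⟩ := hsurj ⟨u, hu⟩
    exact ⟨u'.1, u'.2, congrArg Subtype.val hu'⟩
  rw [← LinearMap.ker_eq_bot, LinearMap.ker_eq_bot']
  intro q hq
  obtain ⟨w, rfl⟩ := Submodule.Quotient.mk_surjective U q
  rw [hmk, Submodule.Quotient.mk_eq_zero] at hq
  obtain ⟨u', hu'U, hu'⟩ := hsurjU _ hq
  have : u' = w := hinj hu'
  rw [Submodule.Quotient.mk_eq_zero, ← this]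
  exact hu'U

theorem red_SL2_aux' [Fintype K] (x y : D) (hD : Subgroup.closure {x, y} = ⊤)
    (hxy : ∃ e k : ℕ, (x * y) ^ (p ^ e * k) = 1 ∧ k ∣ Fintype.card K - 1) :
    ∀ (n : ℕ) (W : Type u) [AddCommGroup W] [Module K W] [FiniteDimensional K W]
      (ρ : D →* (W ≃ₗ[K] W)), Module.finrank K W = n →
      (∀ w, ρ x (ρ x w - w) = ρ x w - w) → (∀ w, ρ y (ρ y w - w) = ρ y w - w) →
      ¬ IsPGroup p ρ.range →
      ∃ φ : D →* Matrix.SpecialLinearGroup (Fin 2) K, ¬ IsPGroup p φ.range ∧ Sub2 ρ φ := by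
  classical
  intro n
  induction n using Nat.strong_induction_on with
  | _ n ih =>
  intro W _ _ _ ρ hn hqx hqy hnp
  rcases subsingleton_or_nontrivial W with hs | hnt
  · exfalso
    apply hnp
    rintro ⟨g, hg⟩
    refine ⟨0, Subtype.ext ?_⟩
    show g ^ p ^ 0 = 1
    ext w
    exact Subsingleton.elim _ _
  obtain ⟨e, k, hxyk, hk⟩ := hxy
  set c : Module.End K W := LinearEquiv.automorphismGroup.toLinearMapMonoidHom (ρ (x * y)) with hc
  have hcp : c ^ (p ^ e * k) = 1 := by
    rw [hc, ← map_pow, ← map_pow, hxyk, map_one, map_one]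
  obtain ⟨l, v, hv0, hv⟩ := exists_eigen_of_order (p := p) c e k hcp hk
  have hv' : ρ x (ρ y v) = l • v := by
    have : c v = ρ (x * y) v := rfl
    rw [this, map_mul] at hv
    exact hv
  have hl0 : l ≠ 0 := by
    intro h
    rw [h, zero_smul] at hv'
    have h1 : ρ y v = 0 := (LinearEquiv.map_eq_zero_iff _).mp hv'
    exact hv0 ((LinearEquiv.map_eq_zero_iff _).mp h1)
  set vv : Fin 2 → W := ![v, ρ y v] with hvv
  set U : Submodule K W := Submodule.span K (Set.range vv) with hUdef
  have hvU : v ∈ U := Submodule.subset_span ⟨0, rfl⟩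
  have hyvU : ρ y v ∈ U := Submodule.subset_span ⟨1, rfl⟩
  have hfw : ∀ f : W ≃ₗ[K] W, f v ∈ U → f (ρ y v) ∈ U → ∀ w ∈ U, f w ∈ U := by
    intro f h0 h1 w hw
    have : U ≤ U.comap (f : W →ₗ[K] W) := by
      rw [hUdef, Submodule.span_le]
      rintro _ ⟨i, rfl⟩
      fin_cases i
      · exact h0
      · exact h1
    exact this hw
  have hyy : ρ y (ρ y v) = ρ y v + ρ y v - v := by
    have := hqy v
    rw [map_sub] at this
    rw [sub_eq_iff_eq_add] at this
    rw [this]; abel
  have hxv : ρ x v = l⁻¹ • (l • v + l • v - ρ y v) := by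
    have := hqx (ρ y v)
    rw [hv', map_sub, map_smul, hv'] at this
    have h2 : l • ρ x v = l • v + l • v - ρ y v := by
      rw [sub_eq_iff_eq_add] at this
      rw [this]; abel
    rw [← h2, smul_smul, inv_mul_cancel₀ hl0, one_smul]
  have hxU : ∀ w ∈ U, ρ x w ∈ U := by
    apply hfw
    · rw [hxv]
      exact U.smul_mem _ (U.sub_mem (U.add_mem (U.smul_mem _ hvU) (U.smul_mem _ hvU)) hyvU)
    · rw [hv']; exact U.smul_mem _ hvU
  have hyU : ∀ w ∈ U, ρ y w ∈ U := by
    apply hfw
    · exact hyvU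
    · rw [hyy]; exact U.sub_mem (U.add_mem hyvU hyvU) hvU
  have hU := inv_of_gen x y hD ρ U hqx hqy hxU hyU
  set ρU := resHom ρ U hU with hρU
  set ρQ := quotHom ρ U hU with hρQ
  have hqxU : ∀ u, ρU x (ρU x u - u) = ρU x u - u := by
    intro u
    apply Subtype.ext
    rw [resHom_apply, Submodule.coe_sub, resHom_apply]
    exact hqx u
  have hqyU : ∀ u, ρU y (ρU y u - u) = ρU y u - u := by
    intro u
    apply Subtype.ext
    rw [resHom_apply, Submodule.coe_sub, resHom_apply]
    exact hqy u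
  have hqxQ : ∀ q, ρQ x (ρQ x q - q) = ρQ x q - q := by
    intro q
    obtain ⟨w, rfl⟩ := Submodule.Quotient.mk_surjective U q
    rw [quotHom_apply, ← Submodule.Quotient.mk_sub, quotHom_apply, hqx]
  have hqyQ : ∀ q, ρQ y (ρQ y q - q) = ρQ y q - q := by
    intro q
    obtain ⟨w, rfl⟩ := Submodule.Quotient.mk_surjective U q
    rw [quotHom_apply, ← Submodule.Quotient.mk_sub, quotHom_apply, hqy]
  by_cases hQ : IsPGroup p ρQ.range
  swap
  · have hlt : Module.finrank K (W ⧸ U) < n := by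
      have h1 := Submodule.finrank_quotient_add_finrank U
      have h2 : 0 < Module.finrank K U :=
        Module.finrank_pos_iff_exists_ne_zero.mpr ⟨⟨v, hvU⟩, fun h => hv0 (congrArg Subtype.val h)⟩
      omega
    obtain ⟨φ, hφ, hsub⟩ := ih _ hlt (W ⧸ U) ρQ rfl hqxQ hqyQ hQ
    exact ⟨φ, hφ, fun g₁ g₂ l hm => EE_quot ρ U hU g₁ g₂ l (hsub g₁ g₂ l hm)⟩
  have hU' : ¬ IsPGroup p ρU.range := fun h => hnp (isPGroup_of_res_quot ρ U hU h hQ)
  by_cases hli : LinearIndependent K vv
  · let 𝔟 : Module.Basis (Fin 2) K U := Module.Basis.span hli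
    let N : (U ≃ₗ[K] U) →* Matrix (Fin 2) (Fin 2) K :=
      ((LinearMap.toMatrixAlgEquiv 𝔟 : (U →ₗ[K] U) ≃ₐ[K] Matrix (Fin 2) (Fin 2) K) :
        (U →ₗ[K] U) →* Matrix (Fin 2) (Fin 2) K).comp
        LinearEquiv.automorphismGroup.toLinearMapMonoidHom
    have hNinj : Function.Injective N := by
      intro f g hfg
      have h1 : (LinearMap.toMatrixAlgEquiv 𝔟) (f : U →ₗ[K] U) =
          (LinearMap.toMatrixAlgEquiv 𝔟) (g : U →ₗ[K] U) := hfg
      have h2 := (LinearMap.toMatrixAlgEquiv 𝔟).injective h1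
      exact LinearEquiv.toLinearMap_injective h2
    have hdet : ∀ g : D, (N (ρU g)).det = 1 := by
      let Φ : D →* K := (Matrix.detMonoidHom).comp (N.comp ρU)
      have key : ∀ z : D, (∀ u, ρU z (ρU z u - u) = ρU z u - u) → z ∈ Φ.ker := by
        intro z hz
        rw [MonoidHom.mem_ker]
        have h1 : ρU z ^ p = 1 := quad_pow_p' (p := p) (ρU z) hz
        have h2 : Φ z ^ p = 1 := by
          show (Matrix.detMonoidHom (N (ρU z))) ^ p = 1
          rw [← map_pow, ← map_pow, h1, map_one, map_one]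
        exact pow_p_eq_one' (p := p) h2
      have hle : Subgroup.closure {x, y} ≤ Φ.ker := by
        apply (Subgroup.closure_le _).mpr
        intro z hz
        rcases hz with h | h
        · rw [h]; exact key x hqxU
        · rw [Set.mem_singleton_iff] at h; rw [h]; exact key y hqyU
      intro g
      have : g ∈ Φ.ker := hle (by rw [hD]; exact Subgroup.mem_top g)
      exact MonoidHom.mem_ker.mp this
    let φ : D →* Matrix.SpecialLinearGroup (Fin 2) K :=
      { toFun := fun g => ⟨N (ρU g), hdet g⟩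
        map_one' := by
          apply Subtype.ext
          show N (ρU 1) = 1
          rw [map_one, map_one]
        map_mul' := by
          intro a b
          apply Subtype.ext
          show N (ρU (a * b)) = N (ρU a) * N (ρU b)
          rw [map_mul, map_mul] }
    refine ⟨φ, fun h => hU' ?_, ?_⟩
    · rintro ⟨_, g, rfl⟩
      obtain ⟨j, hj⟩ := h ⟨φ g, g, rfl⟩
      refine ⟨j, Subtype.ext ?_⟩
      show ρU g ^ p ^ j = 1
      have h1 : φ g ^ p ^ j = 1 := congrArg Subtype.val hj
      rw [← map_pow] at h1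
      have h2 : N (ρU (g ^ p ^ j)) = 1 := congrArg Subtype.val h1
      rw [← map_one N] at h2
      have h3 := hNinj h2
      rw [← map_pow]; exact h3
    · intro g₁ g₂ l hm
      apply EE_res ρ U hU g₁ g₂ l
      have hz : EE (ρU g₁) (ρU g₂) l = 0 := by
        apply (LinearMap.toMatrixAlgEquiv 𝔟).injective
        rw [map_zero]
        unfold EE
        rw [map_sub, map_add, map_mul, map_mul, map_sub, map_sub, map_one, map_smul, map_one]
        rw [sub_eq_zero]
        exact hm
      intro hinj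
      have h0 : (⟨v, hvU⟩ : U) = 0 := hinj (by rw [hz]; simp)
      exact hv0 (congrArg Subtype.val h0)
  · exfalso
    apply hU'
    rw [hvv, LinearIndependent.pair_iff] at hli
    push Not at hli
    obtain ⟨s, t, hst, hne⟩ := hli
    have ht : t ≠ 0 := by
      intro ht
      rw [ht, zero_smul, add_zero] at hst
      rcases smul_eq_zero.mp hst with h | h
      · exact hne h ht
      · exact hv0 h
    obtain ⟨β, hβ⟩ : ∃ β : K, ρ y v = β • v := by
      refine ⟨-(t⁻¹ * s), ?_⟩
      have h1 : t • ρ y v = -(s • v) := eq_neg_of_add_eq_zero_right hst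
      have h2 : ρ y v = t⁻¹ • (t • ρ y v) := by rw [smul_smul, inv_mul_cancel₀ ht, one_smul]
      rw [h2, h1, smul_neg, smul_smul, neg_smul]
    have hβ1 : β = 1 := by
      have := hqy v
      rw [hβ, map_sub, map_smul, hβ] at this
      have h3 : ((β - 1) * (β - 1)) • v = 0 := by
        have e1 : ((β - 1) * (β - 1)) • v = (β • β • v - β • v) - (β • v - v) := by
          rw [smul_smul]
          module
        rw [e1, this, sub_self]
      rcases smul_eq_zero.mp h3 with h | h
      · have := mul_self_eq_zero.mp h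
        exact sub_eq_zero.mp this
      · exact absurd h hv0
    rw [hβ1, one_smul] at hβ
    have hl1 : l = 1 := by
      have := hqx v
      rw [hβ] at hv'
      rw [hv', map_sub, map_smul, hv'] at this
      have h3 : ((l - 1) * (l - 1)) • v = 0 := by
        have e1 : ((l - 1) * (l - 1)) • v = (l • l • v - l • v) - (l • v - v) := by
          rw [smul_smul]
          module
        rw [e1, this, sub_self]
      rcases smul_eq_zero.mp h3 with h | h
      · have := mul_self_eq_zero.mp h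
        exact sub_eq_zero.mp this
      · exact absurd h hv0
    rw [hβ, hl1, one_smul] at hv'
    -- all of D fixes v
    let S : Subgroup D :=
      { carrier := {g | ρ g v = v}
        mul_mem' := by
          intro a b ha hb
          show ρ (a * b) v = v
          rw [map_mul, LinearEquiv.mul_apply]
          have ha' : ρ a v = v := ha
          have hb' : ρ b v = v := hb
          rw [hb', ha']
        one_mem' := by
          show ρ 1 v = v
          rw [map_one]; rfl
        inv_mem' := by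
          intro a ha
          show ρ a⁻¹ v = v
          have ha' : ρ a v = v := ha
          calc ρ a⁻¹ v = ρ a⁻¹ (ρ a v) := by rw [ha']
            _ = v := by
              rw [← LinearEquiv.mul_apply, ← map_mul, inv_mul_cancel, map_one]; rfl }
    have hle : Subgroup.closure {x, y} ≤ S := by
      apply (Subgroup.closure_le _).mpr
      intro z hz
      rcases hz with h | h
      · rw [h]; exact hv'
      · rw [Set.mem_singleton_iff] at h; rw [h]; exact hβ
    have hfix : ∀ (g : D) (u : W), u ∈ U → ρ g u = u := by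
      intro g u hu
      have hg : ρ g v = v := hle (by rw [hD]; exact Subgroup.mem_top g)
      have : U ≤ LinearMap.ker (((ρ g : W ≃ₗ[K] W) : W →ₗ[K] W) - LinearMap.id) := by
        rw [hUdef, Submodule.span_le]
        rintro _ ⟨i, rfl⟩
        rw [SetLike.mem_coe, LinearMap.mem_ker, LinearMap.sub_apply, sub_eq_zero]
        fin_cases i
        · exact hg
        · show ρ g (ρ y v) = ρ y v
          rw [hβ]; exact hg
      have h2 := this hu
      rw [LinearMap.mem_ker, LinearMap.sub_apply, sub_eq_zero] at h2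
      exact h2
    rintro ⟨_, g, rfl⟩
    refine ⟨0, Subtype.ext ?_⟩
    show ρU g ^ p ^ 0 = 1
    rw [pow_zero, pow_one]
    ext u
    rw [resHom_apply]
    exact hfix g u u.2

/-- **reduction to `SL₂`** with subquotient information -/
theorem red_SL2' [Fintype K] (x y : D) (hD : Subgroup.closure {x, y} = ⊤)
    (hxy : ∃ e k : ℕ, (x * y) ^ (p ^ e * k) = 1 ∧ k ∣ Fintype.card K - 1)
    [FiniteDimensional K W] (ρ : D →* (W ≃ₗ[K] W))
    (hqx : ∀ w, ρ x (ρ x w - w) = ρ x w - w) (hqy : ∀ w, ρ y (ρ y w - w) = ρ y w - w)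
    (hnp : ¬ IsPGroup p ρ.range) :
    ∃ φ : D →* Matrix.SpecialLinearGroup (Fin 2) K, ¬ IsPGroup p φ.range ∧ Sub2 ρ φ :=
  red_SL2_aux' x y hD hxy _ W ρ rfl hqx hqy hnp

end red

end Cfsg.Agent.Helper5.SL2
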