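import Mathlib
import Cfsg.Prelude
import Cfsg.Agent.Helper5.QuadBridge
import Cfsg.Agent.Helper5.QdB

/-!
# The bridge with subquotient information (helper5)

`bridge'`: as `bridge`, recording that whenever two elements `g₁, g₂` satisfy
`(φ g₁ - 1)(φ g₂ - 1) + (φ g₂ - 1)(φ g₁ - 1) = j` in `SL₂` with `j` in the prime field, the
corresponding operator on `V` has `j` as an eigenvalue.
-/

set_option autoImplicit false

namespace Cfsg.Agent.Helper5.SL2

open scoped IsMulCommutative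
open scoped commutatorElement

section bridge

variable {G : Type*} [Group G]

theorem bridge' [Finite G] {p : ℕ} [Fact p.Prime]
    (V : Subgroup G) [IsMulCommutative V] (hVp : ∀ v ∈ V, v ^ p = 1)
    (a b : G) (haV : a ∈ Subgroup.normalizer (V : Set G))
    (hbV : b ∈ Subgroup.normalizer (V : Set G))
    (hle : Subgroup.closure {a, b} ≤ Subgroup.normalizer (V : Set G))
    (hqa : ∀ v ∈ V, ⁅⁅v, a⁆, a⁆ = 1) (hqb : ∀ v ∈ V, ⁅⁅v, b⁆, b⁆ = 1)
    (hnp : ∃ g ∈ Subgroup.closure {a, b}, ∀ k : ℕ,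
      g ^ p ^ k ∉ Subgroup.centralizer (V : Set G)) :
    ∃ (m : ℕ) (φ : ↥(Subgroup.closure {a, b}) →*
        Matrix.SpecialLinearGroup (Fin 2) (GaloisField p m)),
      ¬ IsPGroup p φ.range ∧
      φ ⟨a, Subgroup.subset_closure (by simp)⟩ ^ p = 1 ∧
      φ ⟨b, Subgroup.subset_closure (by simp)⟩ ^ p = 1 ∧
      ∀ (g₁ g₂ : ↥(Subgroup.closure {a, b})) (j : ZMod p),
        ((φ g₁).1 - 1) * ((φ g₂).1 - 1) + ((φ g₂).1 - 1) * ((φ g₁).1 - 1) =
          (ZMod.castHom (dvd_refl p) (GaloisField p m) j) •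
            (1 : Matrix (Fin 2) (Fin 2) (GaloisField p m)) →
        ∃ w : Additive ↥V, w ≠ 0 ∧
          ((Cfsg.Agent.Helper11.conjEnd V (Subgroup.inclusion hle g₁) - 1) *
              (Cfsg.Agent.Helper11.conjEnd V (Subgroup.inclusion hle g₂) - 1) +
            (Cfsg.Agent.Helper11.conjEnd V (Subgroup.inclusion hle g₂) - 1) *
              (Cfsg.Agent.Helper11.conjEnd V (Subgroup.inclusion hle g₁) - 1)) w = j.val • w := by
  classical
  have hpp := (Fact.out : p.Prime)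
  have haI : a ∈ Subgroup.closure {a, b} := Subgroup.subset_closure (by simp)
  have hbI : b ∈ Subgroup.closure {a, b} := Subgroup.subset_closure (by simp)
  set ρ₀ : ↥(Subgroup.closure {a, b}) →* (AddMonoid.End (Additive ↥V))ˣ :=
    ((Cfsg.Agent.Helper11.conjEnd V).toHomUnits).comp (Subgroup.inclusion hle) with hρ₀
  have hρ1 : ∀ g : ↥(Subgroup.closure {a, b}), ρ₀ g = 1 ↔
      (g : G) ∈ Subgroup.centralizer (V : Set G) := by
    intro g
    have h1 := Cfsg.Agent.Helper5.conjEnd_eq_one_iff V (Subgroup.inclusion hle g)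
    have h2 : (ρ₀ g = 1) ↔ Cfsg.Agent.Helper11.conjEnd V (Subgroup.inclusion hle g) = 1 := by
      rw [Units.ext_iff]; rfl
    rw [h2, h1]; rfl
  have hpW : ∀ w : Additive ↥V, p • w = 0 := by
    intro w
    apply Cfsg.Agent.Helper11.additive_subgroup_ext
    show (((Additive.toMul w : V) ^ p : V) : G) = 1
    rw [Subgroup.coe_pow]
    exact hVp _ (Additive.toMul w : V).2
  set x : ↥(Subgroup.closure {a, b}) := ⟨a, haI⟩ with hx
  set y : ↥(Subgroup.closure {a, b}) := ⟨b, hbI⟩ with hy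
  have hqα : ((ρ₀ x : AddMonoid.End (Additive ↥V)) - 1) *
      ((ρ₀ x : AddMonoid.End (Additive ↥V)) - 1) = 0 :=
    Cfsg.Agent.Helper5.conjEnd_quad V ⟨a, haV⟩ hqa
  have hqβ : ((ρ₀ y : AddMonoid.End (Additive ↥V)) - 1) *
      ((ρ₀ y : AddMonoid.End (Additive ↥V)) - 1) = 0 :=
    Cfsg.Agent.Helper5.conjEnd_quad V ⟨b, hbV⟩ hqb
  have hD : Subgroup.closure ({x, y} : Set ↥(Subgroup.closure {a, b})) = ⊤ := by
    rw [← Subgroup.closure_closure_coe_preimage (k := ({a, b} : Set G))]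
    congr 1
    ext z
    simp only [Set.mem_insert_iff, Set.mem_singleton_iff, Set.mem_preimage, Subtype.ext_iff, hx, hy]
  -- the field
  have hord : orderOf (x * y) ≠ 0 := (orderOf_pos _).ne'
  obtain ⟨e, k, hpk, hek⟩ := Nat.exists_eq_pow_mul_and_not_dvd hord p hpp.ne_one
  have hk0 : 0 < k := by
    rcases Nat.eq_zero_or_pos k with h | h
    · subst h; exact absurd (dvd_zero p) hpk
    · exact h
  set m := Nat.totient k with hm
  have hm0 : m ≠ 0 := (Nat.totient_pos.mpr hk0).ne'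
  letI : Fintype (GaloisField p m) := Fintype.ofFinite _
  have hcard : Fintype.card (GaloisField p m) = p ^ m := by
    rw [← Nat.card_eq_fintype_card, GaloisField.card p m hm0]
  have hkd : k ∣ Fintype.card (GaloisField p m) - 1 := by
    rw [hcard]
    have hcop : Nat.Coprime p k := (Nat.Prime.coprime_iff_not_dvd hpp).mpr hpk
    have h1 := Nat.ModEq.pow_totient hcop
    exact (Nat.modEq_iff_dvd' (Nat.one_le_pow _ _ hpp.pos)).mp h1.symm
  obtain ⟨d, Θ, hΘ⟩ := exists_ringHom_end p (Additive ↥V) hpW (GaloisField p m)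
  set ρ : ↥(Subgroup.closure {a, b}) →*
      ((Fin d → GaloisField p m) ≃ₗ[GaloisField p m] (Fin d → GaloisField p m)) :=
    (LinearMap.GeneralLinearGroup.generalLinearEquiv (GaloisField p m)
      (Fin d → GaloisField p m)).toMonoidHom.comp ((Units.map Θ.toMonoidHom).comp ρ₀) with hρ
  have hρa : ∀ (g : ↥(Subgroup.closure {a, b})) (w : Fin d → GaloisField p m),
      ρ g w = Θ (ρ₀ g : AddMonoid.End (Additive ↥V)) w := fun g w => rfl
  have hq : ∀ z : ↥(Subgroup.closure {a, b}),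
      (((ρ₀ z : AddMonoid.End (Additive ↥V)) - 1) * ((ρ₀ z : AddMonoid.End (Additive ↥V)) - 1) = 0) →
      ∀ w, ρ z (ρ z w - w) = ρ z w - w := by
    intro z hz w
    have h1 : (Θ (ρ₀ z : AddMonoid.End (Additive ↥V)) - 1) *
        (Θ (ρ₀ z : AddMonoid.End (Additive ↥V)) - 1) = 0 := by
      rw [← map_one Θ, ← map_sub, ← map_mul, hz, map_zero]
    have h2 := congrArg (fun f => f w) h1
    simp only [Module.End.mul_apply, LinearMap.sub_apply, Module.End.one_apply,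
      LinearMap.zero_apply, map_sub] at h2
    rw [hρa, hρa, map_sub]
    exact sub_eq_zero.mp (by rw [← h2])
  have hqx := hq x hqα
  have hqy := hq y hqβ
  -- pass to the image
  set x₁ : ↥ρ.range := ⟨ρ x, x, rfl⟩ with hx₁
  set y₁ : ↥ρ.range := ⟨ρ y, y, rfl⟩ with hy₁
  have hD₁ : Subgroup.closure ({x₁, y₁} : Set ↥ρ.range) = ⊤ := by
    have h1 : Subgroup.map ρ.rangeRestrict (Subgroup.closure {x, y}) = ⊤ := by
      rw [hD, Subgroup.map_top_of_surjective _ ρ.rangeRestrict_surjective]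
    rw [MonoidHom.map_closure, Set.image_pair] at h1
    exact h1
  have hxy₁ : ∃ e k : ℕ, (x₁ * y₁) ^ (p ^ e * k) = 1 ∧
      k ∣ Fintype.card (GaloisField p m) - 1 := by
    refine ⟨e, k, ?_, hkd⟩
    apply Subtype.ext
    show (ρ x * ρ y) ^ (p ^ e * k) = 1
    rw [← map_mul, ← map_pow, ← hek, pow_orderOf_eq_one, map_one]
  have hnp₁ : ¬ IsPGroup p (ρ.range.subtype).range := by
    rw [Subgroup.range_subtype]
    intro h
    obtain ⟨g, hg, hgk⟩ := hnp
    obtain ⟨j, hj⟩ := h ⟨ρ ⟨g, hg⟩, _, rfl⟩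
    have h1 : ρ (⟨g, hg⟩ ^ p ^ j) = 1 := by
      rw [map_pow]; exact congrArg Subtype.val hj
    have h2 : Θ (ρ₀ (⟨g, hg⟩ ^ p ^ j) : AddMonoid.End (Additive ↥V)) = Θ 1 := by
      rw [map_one]
      refine LinearMap.ext fun w => ?_
      rw [← hρa, h1]
      rfl
    have h3 : ρ₀ (⟨g, hg⟩ ^ p ^ j) = 1 := Units.ext (hΘ h2)
    exact hgk j ((hρ1 _).mp h3)
  obtain ⟨φ₁, hφ₁, hsub⟩ := red_SL2' (p := p) x₁ y₁ hD₁ hxy₁ ρ.range.subtype hqx hqy hnp₁
  refine ⟨m, φ₁.comp ρ.rangeRestrict, ?_, ?_, ?_, ?_⟩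
  · intro h
    apply hφ₁
    rintro ⟨_, ⟨r, rfl⟩⟩
    obtain ⟨g, rfl⟩ := ρ.rangeRestrict_surjective r
    obtain ⟨j, hj⟩ := h ⟨φ₁ (ρ.rangeRestrict g), g, rfl⟩
    have h5 : (φ₁ (ρ.rangeRestrict g)) ^ p ^ j = 1 := by
      have := congrArg Subtype.val hj
      exact this
    exact ⟨j, Subtype.ext h5⟩
  · show φ₁ x₁ ^ p = 1
    rw [← map_pow]
    have : x₁ ^ p = 1 := Subtype.ext (quad_pow_p' (p := p) (ρ x) hqx)
    rw [this, map_one]
  · show φ₁ y₁ ^ p = 1
    rw [← map_pow]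
    have : y₁ ^ p = 1 := Subtype.ext (quad_pow_p' (p := p) (ρ y) hqy)
    rw [this, map_one]
  · intro g₁ g₂ j hm
    have h1 := hsub (ρ.rangeRestrict g₁) (ρ.rangeRestrict g₂) _ hm
    obtain ⟨c₁, hc₁⟩ : ∃ c₁ : AddMonoid.End (Additive ↥V),
        c₁ = Cfsg.Agent.Helper11.conjEnd V (Subgroup.inclusion hle g₁) := ⟨_, rfl⟩
    obtain ⟨c₂, hc₂⟩ : ∃ c₂ : AddMonoid.End (Additive ↥V),
        c₂ = Cfsg.Agent.Helper11.conjEnd V (Subgroup.inclusion hle g₂) := ⟨_, rfl⟩
    rw [← hc₁, ← hc₂]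
    have hρ1' : ((ρ g₁ : (Fin d → GaloisField p m) ≃ₗ[GaloisField p m] (Fin d → GaloisField p m)) :
        (Fin d → GaloisField p m) →ₗ[GaloisField p m] (Fin d → GaloisField p m)) = Θ c₁ := by
      rw [hc₁]; exact LinearMap.ext (hρa g₁)
    have hρ2' : ((ρ g₂ : (Fin d → GaloisField p m) ≃ₗ[GaloisField p m] (Fin d → GaloisField p m)) :
        (Fin d → GaloisField p m) →ₗ[GaloisField p m] (Fin d → GaloisField p m)) = Θ c₂ := by
      rw [hc₂]; exact LinearMap.ext (hρa g₂)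
    have hcast : ((j.val : ℕ) : GaloisField p m) = ZMod.castHom (dvd_refl p) (GaloisField p m) j := by
      rw [ZMod.natCast_val, ZMod.castHom_apply]
    have hEE : EE (ρ g₁) (ρ g₂) (ZMod.castHom (dvd_refl p) (GaloisField p m) j) =
        Θ ((c₁ - 1) * (c₂ - 1) + (c₂ - 1) * (c₁ - 1) - j.val • 1) := by
      unfold EE
      rw [hρ1', hρ2', map_sub, map_add, map_mul, map_mul, map_sub, map_sub, map_one, map_nsmul,
        map_one, ← hcast, Nat.cast_smul_eq_nsmul]
    have h2 : ¬ Function.Injective (Θ ((c₁ - 1) * (c₂ - 1) + (c₂ - 1) * (c₁ - 1) - j.val • 1)) := by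
      rw [← hEE]; exact h1
    have h3 : ¬ Function.Injective ((c₁ - 1) * (c₂ - 1) + (c₂ - 1) * (c₁ - 1) - j.val • 1 :
        AddMonoid.End (Additive ↥V)) := by
      intro hinj
      apply h2
      have hbij : Function.Bijective ((c₁ - 1) * (c₂ - 1) + (c₂ - 1) * (c₁ - 1) - j.val • 1 :
          AddMonoid.End (Additive ↥V)) := Finite.injective_iff_bijective.mp hinj
      obtain ⟨e', he'⟩ : ∃ e' : AddMonoid.End (Additive ↥V),
          e' * ((c₁ - 1) * (c₂ - 1) + (c₂ - 1) * (c₁ - 1) - j.val • 1) = 1 := by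
        refine ⟨((AddEquiv.ofBijective _ hbij).symm : Additive ↥V →+ Additive ↥V), ?_⟩
        refine DFunLike.ext _ _ (fun w => ?_)
        exact (AddEquiv.ofBijective _ hbij).symm_apply_apply w
      intro w w' hww
      have h4 := congrArg (Θ e') hww
      rw [← Module.End.mul_apply, ← Module.End.mul_apply, ← map_mul, he', map_one] at h4
      exact h4
    have h5 : ∃ w w' : Additive ↥V, w ≠ w' ∧
        ((c₁ - 1) * (c₂ - 1) + (c₂ - 1) * (c₁ - 1) - j.val • 1 : AddMonoid.End (Additive ↥V)) w =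
        ((c₁ - 1) * (c₂ - 1) + (c₂ - 1) * (c₁ - 1) - j.val • 1 : AddMonoid.End (Additive ↥V)) w' := by
      by_contra hcon
      apply h3
      intro w w' hww
      by_contra hne
      exact hcon ⟨w, w', hne, hww⟩
    obtain ⟨w, w', hne, hww⟩ := h5
    refine ⟨w - w', sub_ne_zero.mpr hne, ?_⟩
    have h6 : ((c₁ - 1) * (c₂ - 1) + (c₂ - 1) * (c₁ - 1) - j.val • 1 : AddMonoid.End (Additive ↥V))
        (w - w') = 0 := by
      rw [map_sub, hww, sub_self]
    have h7 : ((c₁ - 1) * (c₂ - 1) + (c₂ - 1) * (c₁ - 1) - j.val • 1 : AddMonoid.End (Additive ↥V))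
        (w - w') = ((c₁ - 1) * (c₂ - 1) + (c₂ - 1) * (c₁ - 1) : AddMonoid.End (Additive ↥V)) (w - w') -
          j.val • (w - w') := rfl
    rw [h7] at h6
    exact sub_eq_zero.mp h6

end bridge

end Cfsg.Agent.Helper5.SL2
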