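import Mathlib
import Cfsg.Prelude
import Cfsg.Agent.Helper1.QdSyl
import Cfsg.Agent.Helper13.Glaub

/-!
# A `Qd(p)`-section from a natural `SL₂(p)`-action on a subgroup of order `p²` (helper5)

`qd_section_of_act`: if `ε : 𝔽_p² → G` is an injective homomorphism and every matrix of
`SL₂(p)` is induced on `ε(𝔽_p²)` by conjugation with some element of `G`, then `Qd(p)` is a
section of `G` (`p` odd).
-/

set_option autoImplicit false

namespace Cfsg.Agent.Helper5.Qd

open Cfsg.Agent.Helper1.Qd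

variable {G : Type*} [Group G] {p : ℕ} [Fact p.Prime]

/-- local abbreviation -/
abbrev SL2p (p : ℕ) := Matrix.SpecialLinearGroup (Fin 2) (ZMod p)

/-- matrix action on pairs -/
def act (M : SL2p p) (v : ZMod p × ZMod p) : ZMod p × ZMod p :=
  (M.1 0 0 * v.1 + M.1 0 1 * v.2, M.1 1 0 * v.1 + M.1 1 1 * v.2)

theorem act_one (v : ZMod p × ZMod p) : act 1 v = v := by
  simp [act]

theorem act_mul (M N : SL2p p) (v : ZMod p × ZMod p) : act (M * N) v = act M (act N v) := by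
  simp only [act, Matrix.SpecialLinearGroup.coe_mul, Matrix.mul_apply, Fin.sum_univ_two]
  refine Prod.ext ?_ ?_ <;> simp only <;> ring

theorem act_zero (M : SL2p p) : act M 0 = 0 := by
  simp [act]

theorem act_neg_one (v : ZMod p × ZMod p) : act (-1) v = -v := by
  refine Prod.ext ?_ ?_ <;> simp [act]

theorem act_inj {M N : SL2p p} (h : ∀ v, act M v = act N v) : M = N := by
  apply Matrix.SpecialLinearGroup.ext
  intro i j
  have h1 := h (1, 0)
  have h2 := h (0, 1)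
  simp only [act, mul_one, mul_zero, add_zero, zero_add, Prod.mk.injEq] at h1 h2
  fin_cases i <;> fin_cases j
  · exact h1.1
  · exact h2.1
  · exact h1.2
  · exact h2.2

/-- the element of `Qd(p)` with block `M` and translation `v` -/
def Qm (M : SL2p p) (v : ZMod p × ZMod p) : ↥(Cfsg.qd p) := (qdEquiv p).symm (M, v)

theorem Qm_coe (M : SL2p p) (v : ZMod p × ZMod p) :
    (((Qm M v : ↥(Cfsg.qd p)) : SL3 p) : Matrix (Fin 3) (Fin 3) (ZMod p)) = mk M.1 v := rfl

theorem Qm_mul (M N : SL2p p) (v w : ZMod p × ZMod p) :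
    Qm M v * Qm N w = Qm (M * N) (v + act M w) := by
  apply Subtype.ext
  apply Subtype.ext
  show mk M.1 v * mk N.1 w = mk (M * N).1 (v + act M w)
  ext i j
  fin_cases i <;> fin_cases j <;>
    simp [mk, act, Matrix.mul_apply, Fin.sum_univ_three, Fin.sum_univ_two] <;> ring

theorem Qm_one : Qm (1 : SL2p p) 0 = 1 := by
  apply Subtype.ext
  apply Subtype.ext
  show mk (1 : SL2p p).1 0 = 1
  ext i j
  fin_cases i <;> fin_cases j <;> simp [mk]

theorem Qm_surj (x : ↥(Cfsg.qd p)) : ∃ M v, Qm M v = x :=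
  ⟨((qdEquiv p) x).1, ((qdEquiv p) x).2, (qdEquiv p).symm_apply_apply x⟩

/-- `g` acts on the image of `ε` as the matrix `M` -/
def IsAct (ε : ZMod p × ZMod p → G) (g : G) (M : SL2p p) : Prop :=
  ∀ v, g * ε v * g⁻¹ = ε (act M v)

theorem IsAct.one (ε : ZMod p × ZMod p → G) : IsAct ε 1 1 := by
  intro v
  rw [act_one]; group

theorem IsAct.mul {ε : ZMod p × ZMod p → G} {g g' : G} {M M' : SL2p p} (h : IsAct ε g M)
    (h' : IsAct ε g' M') : IsAct ε (g * g') (M * M') := by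
  intro v
  rw [act_mul, ← h, ← h']; group

theorem IsAct.inv {ε : ZMod p × ZMod p → G} {g : G} {M : SL2p p} (h : IsAct ε g M) :
    IsAct ε g⁻¹ M⁻¹ := by
  intro v
  have h1 := h (act M⁻¹ v)
  rw [← act_mul, mul_inv_cancel, act_one] at h1
  rw [← h1]; group

theorem IsAct.unique {ε : ZMod p × ZMod p → G} (hε : Function.Injective ε) {g : G}
    {M M' : SL2p p} (h : IsAct ε g M) (h' : IsAct ε g M') : M = M' :=
  act_inj (fun v => hε (by rw [← h, ← h']))

/-- the elements inducing an `SL₂(p)`-matrix on the image of `ε` -/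
def N0 (ε : ZMod p × ZMod p → G) : Subgroup G where
  carrier := {g | ∃ M, IsAct ε g M}
  mul_mem' := by
    rintro a b ⟨M, hM⟩ ⟨N, hN⟩
    exact ⟨M * N, hM.mul hN⟩
  one_mem' := ⟨1, IsAct.one ε⟩
  inv_mem' := by
    rintro a ⟨M, hM⟩
    exact ⟨M⁻¹, hM.inv⟩

/-- the matrix induced by an element of `N0` -/
noncomputable def alpha (ε : ZMod p × ZMod p → G) (hε : Function.Injective ε) :
    ↥(N0 ε) →* SL2p p where
  toFun g := Classical.choose g.2
  map_one' := IsAct.unique hε (Classical.choose_spec (1 : ↥(N0 ε)).2) (IsAct.one ε)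
  map_mul' a b := IsAct.unique hε (Classical.choose_spec (a * b).2)
    ((Classical.choose_spec a.2).mul (Classical.choose_spec b.2))

theorem alpha_spec (ε : ZMod p × ZMod p → G) (hε : Function.Injective ε) (g : ↥(N0 ε)) :
    IsAct ε (g : G) (alpha ε hε g) := Classical.choose_spec g.2

theorem alpha_eq (ε : ZMod p × ZMod p → G) (hε : Function.Injective ε) (g : ↥(N0 ε))
    (M : SL2p p) (h : IsAct ε (g : G) M) : alpha ε hε g = M :=
  IsAct.unique hε (alpha_spec ε hε g) h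

/-- the subgroup `{1, -1}` of `SL₂(p)` -/
def pm (p : ℕ) : Subgroup (SL2p p) where
  carrier := {M | M = 1 ∨ M = -1}
  mul_mem' := by
    rintro a b (rfl | rfl) (rfl | rfl)
    · left; rw [mul_one]
    · right; rw [one_mul]
    · right; rw [mul_one]
    · left; rw [neg_mul_neg, mul_one]
  one_mem' := Or.inl rfl
  inv_mem' := by
    rintro a (rfl | rfl)
    · left; rw [inv_one]
    · right
      apply inv_eq_of_mul_eq_one_right
      rw [neg_mul_neg, mul_one]

theorem pm_normal (p : ℕ) : (pm p).Normal := by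
  constructor
  rintro n (rfl | rfl) g
  · left; group
  · right
    rw [mul_neg, mul_one, neg_mul, mul_inv_cancel]

theorem eps_zero {ε : ZMod p × ZMod p → G} (hadd : ∀ v w, ε (v + w) = ε v * ε w) : ε 0 = 1 := by
  have h := hadd 0 0
  rw [add_zero] at h
  have h2 : ε 0 * 1 = ε 0 * ε 0 := by rw [mul_one]; exact h
  exact (mul_left_cancel h2).symm

theorem eps_neg {ε : ZMod p × ZMod p → G} (hadd : ∀ v w, ε (v + w) = ε v * ε w)
    (v : ZMod p × ZMod p) : ε (-v) = (ε v)⁻¹ := by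
  apply eq_inv_of_mul_eq_one_left
  rw [← hadd, neg_add_cancel, eps_zero hadd]

theorem eps_nsmul {ε : ZMod p × ZMod p → G} (hadd : ∀ v w, ε (v + w) = ε v * ε w) (n : ℕ)
    (v : ZMod p × ZMod p) : ε (n • v) = ε v ^ n := by
  induction n with
  | zero => rw [zero_smul, pow_zero, eps_zero hadd]
  | succ n ih => rw [succ_nsmul, hadd, ih, pow_succ]

theorem eps_mem_N0 {ε : ZMod p × ZMod p → G} (hadd : ∀ v w, ε (v + w) = ε v * ε w)
    (w : ZMod p × ZMod p) : ε w ∈ N0 ε :=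
  ⟨1, fun v => by rw [act_one, ← hadd w v, add_comm, hadd v w, mul_inv_cancel_right]⟩

/-- the image of `ε`, inside `N0 ε` -/
def U0 (ε : ZMod p × ZMod p → G) (hadd : ∀ v w, ε (v + w) = ε v * ε w) : Subgroup ↥(N0 ε) where
  carrier := {h | ∃ v, (h : G) = ε v}
  mul_mem' := by
    rintro a b ⟨v, hv⟩ ⟨w, hw⟩
    exact ⟨v + w, by rw [Subgroup.coe_mul, hv, hw, hadd]⟩
  one_mem' := ⟨0, by rw [Subgroup.coe_one, eps_zero hadd]⟩
  inv_mem' := by
    rintro a ⟨v, hv⟩
    exact ⟨-v, by rw [Subgroup.coe_inv, hv, eps_neg hadd]⟩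

/-- **`Qd(p)`-section**: an injective homomorphism `ε : 𝔽_p² → G` on whose image every matrix of
`SL₂(p)` is induced by conjugation gives a `Qd(p)`-section of `G` (`p` odd). -/
theorem qd_section_of_act [Finite G] (hp2 : p ≠ 2) (ε : ZMod p × ZMod p → G)
    (hadd : ∀ v w, ε (v + w) = ε v * ε w) (hinj : Function.Injective ε)
    (hsurj : ∀ M : SL2p p, ∃ g : G, IsAct ε g M) :
    ∃ (K : Subgroup G) (ψ : ↥K →* ↥(Cfsg.qd p)), Function.Surjective ψ := by
  classical
  have hpp := (Fact.out : p.Prime)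
  haveI : Fact (Nat.Prime 2) := Nat.fact_prime_two
  obtain ⟨α, hα⟩ : ∃ α : ↥(N0 ε) →* SL2p p, α = alpha ε hinj := ⟨_, rfl⟩
  have hspec : ∀ g : ↥(N0 ε), IsAct ε (g : G) (α g) := fun g => hα ▸ alpha_spec ε hinj g
  have hαsurj : Function.Surjective α := by
    intro M
    obtain ⟨g, hg⟩ := hsurj M
    exact ⟨⟨g, M, hg⟩, by rw [hα]; exact alpha_eq ε hinj _ M hg⟩
  -- the preimage of `{±1}`
  haveI := pm_normal p
  obtain ⟨Z, hZ⟩ : ∃ Z : Subgroup ↥(N0 ε), Z = (pm p).comap α := ⟨_, rfl⟩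
  haveI hZn : Z.Normal := by rw [hZ]; infer_instance
  obtain ⟨S⟩ : Nonempty (Sylow 2 ↥(N0 ε)) := inferInstance
  obtain ⟨T, hT⟩ : ∃ T : Subgroup ↥(N0 ε), T = (S : Subgroup ↥(N0 ε)) ⊓ Z := ⟨_, rfl⟩
  have hSidx : ¬ 2 ∣ (S : Subgroup ↥(N0 ε)).relIndex ⊤ := by
    rw [Subgroup.relIndex_top_right]; exact S.not_dvd_index
  have hnormZ : (⊤ : Subgroup ↥(N0 ε)) ≤ Subgroup.normalizer (Z : Set ↥(N0 ε)) := by
    rw [Subgroup.normalizer_eq_top]
  have hTidx : ¬ 2 ∣ T.relIndex Z := by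
    rw [hT]
    exact Cfsg.Agent.Helper13.inf_normal_sylow_in ⊤ Z S le_top S.2 hSidx le_top hnormZ
  have hT2 : IsPGroup 2 T := by rw [hT]; exact S.2.to_le inf_le_left
  -- an element of `T` mapping to `-1`
  obtain ⟨t', ht'T, ht'α⟩ : ∃ t' ∈ T, α t' = -1 := by
    obtain ⟨t₀, ht₀⟩ := hαsurj (-1)
    have hord : orderOf t₀ ≠ 0 := (orderOf_pos t₀).ne'
    obtain ⟨k, m, hm, hkm⟩ := Nat.exists_eq_two_pow_mul_odd hord
    have htα : α (t₀ ^ m) = -1 := by rw [map_pow, ht₀, Odd.neg_one_pow hm]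
    have ht2 : (t₀ ^ m) ^ 2 ^ k = 1 := by
      rw [← pow_mul, mul_comm, ← hkm, pow_orderOf_eq_one]
    have hQ2 : IsPGroup 2 (Subgroup.zpowers (t₀ ^ m)) := by
      rintro ⟨g, hg⟩
      obtain ⟨i, rfl⟩ := Subgroup.mem_zpowers_iff.mp hg
      refine ⟨k, Subtype.ext ?_⟩
      show ((t₀ ^ m) ^ i) ^ 2 ^ k = 1
      rw [← zpow_natCast, ← zpow_mul, mul_comm, zpow_mul, zpow_natCast, ht2, one_zpow]
    have hQZ : Subgroup.zpowers (t₀ ^ m) ≤ Z := by
      rw [Subgroup.zpowers_le, hZ, Subgroup.mem_comap, htα]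
      exact Or.inr rfl
    obtain ⟨h, hhZ, hq⟩ := Cfsg.Agent.Helper13.exists_conj_le_of_relIndex Z T
      (Subgroup.zpowers (t₀ ^ m)) hT2 hTidx hQZ hQ2
    refine ⟨h * t₀ ^ m * h⁻¹, hq _ (Subgroup.mem_zpowers _), ?_⟩
    rw [map_mul, map_mul, htα, map_inv, mul_neg, mul_one, neg_mul, mul_inv_cancel]
  -- the normalizer of `T` covers `SL₂(p)`
  have hN₁surj : ∀ M : SL2p p, ∃ n ∈ Subgroup.normalizer (T : Set ↥(N0 ε)), α n = M := by
    intro M
    obtain ⟨x, hx⟩ := hαsurj M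
    obtain ⟨k, hkZ, hkx⟩ := Cfsg.Agent.Helper13.frattini_in ⊤ Z S le_top S.2 hSidx le_top hnormZ
      x (Subgroup.mem_top x)
    rw [← hT] at hkx
    have hk : α k = 1 ∨ α k = -1 := by rw [hZ] at hkZ; exact hkZ
    rcases hk with hk | hk
    · exact ⟨k * x, hkx, by rw [map_mul, hk, hx, one_mul]⟩
    · refine ⟨t' * (k * x), Subgroup.mul_mem _ (Subgroup.le_normalizer ht'T) hkx, ?_⟩
      rw [map_mul, map_mul, ht'α, hk, hx, ← mul_assoc, neg_mul_neg, one_mul, one_mul]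
  -- the image of `ε`
  obtain ⟨U₀, hU₀⟩ : ∃ U₀ : Subgroup ↥(N0 ε), ∀ h : ↥(N0 ε), h ∈ U₀ ↔ ∃ v, (h : G) = ε v :=
    ⟨U0 ε hadd, fun h => Iff.rfl⟩
  haveI hU₀n : U₀.Normal := by
    constructor
    intro u hu g
    obtain ⟨v, hv⟩ := (hU₀ u).mp hu
    exact (hU₀ _).mpr ⟨act (α g) v, by
      rw [Subgroup.coe_mul, Subgroup.coe_mul, Subgroup.coe_inv, hv]; exact hspec g v⟩
  have hdisj : ∀ u ∈ U₀, u ∈ Subgroup.normalizer (T : Set ↥(N0 ε)) → u = 1 := by
    intro u hu hun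
    obtain ⟨v, hv⟩ := (hU₀ u).mp hu
    have h1 : t' * u⁻¹ * t'⁻¹ = u := by
      apply Subtype.ext
      rw [Subgroup.coe_mul, Subgroup.coe_mul, Subgroup.coe_inv, Subgroup.coe_inv, hv,
        ← eps_neg hadd]
      have := hspec t' (-v)
      rw [ht'α, act_neg_one, neg_neg] at this
      exact this
    have h2 : u * u ∈ T := by
      have h3 : u * t' * u⁻¹ ∈ T := (Subgroup.mem_normalizer_iff.mp hun t').mp ht'T
      have h4 : u * u = (u * t' * u⁻¹) * t'⁻¹ := by
        calc u * u = u * (t' * u⁻¹ * t'⁻¹) := by rw [h1]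
          _ = (u * t' * u⁻¹) * t'⁻¹ := by group
      rw [h4]
      exact T.mul_mem h3 (T.inv_mem ht'T)
    obtain ⟨k, hk⟩ := hT2 ⟨u * u, h2⟩
    have hk' : (u * u) ^ 2 ^ k = 1 := congrArg Subtype.val hk
    have hk'' : (ε v * ε v) ^ 2 ^ k = 1 := by
      have := congrArg (fun z : ↥(N0 ε) => (z : G)) hk'
      simp only [Subgroup.coe_pow, Subgroup.coe_mul, Subgroup.coe_one, hv] at this
      exact this
    have h5 : ε ((2 ^ (k + 1)) • v) = 1 := by
      rw [eps_nsmul hadd, pow_succ', pow_mul, pow_two]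
      exact hk''
    have h6 : (2 ^ (k + 1)) • v = 0 := hinj (by rw [h5, eps_zero hadd])
    have hne : ((2 ^ (k + 1) : ℕ) : ZMod p) ≠ 0 := by
      intro h0
      rw [ZMod.natCast_eq_zero_iff] at h0
      have := hpp.dvd_of_dvd_pow h0
      exact hp2 ((Nat.prime_dvd_prime_iff_eq hpp Nat.prime_two).mp this)
    have h7 : v = 0 := by
      have h8 := congrArg Prod.fst h6
      have h9 := congrArg Prod.snd h6
      simp only [Prod.smul_fst, Prod.smul_snd, nsmul_eq_mul, Prod.fst_zero, Prod.snd_zero] at h8 h9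
      exact Prod.ext ((mul_eq_zero.mp h8).resolve_left hne) ((mul_eq_zero.mp h9).resolve_left hne)
    apply Subtype.ext
    rw [hv, h7, eps_zero hadd]; rfl
  -- coordinates on `U₀`
  have hcoord : ∀ u : ↥U₀, ∃ v, ((u : ↥(N0 ε)) : G) = ε v := fun u => (hU₀ u.1).mp u.2
  choose coord hcoordspec using hcoord
  have hcoord_mul : ∀ u u' : ↥U₀, coord (u * u') = coord u + coord u' := by
    intro u u'
    apply hinj
    rw [← hcoordspec, hadd, ← hcoordspec, ← hcoordspec]; rfl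
  have hcoord_one : coord 1 = 0 := by
    apply hinj
    rw [← hcoordspec, eps_zero hadd]; rfl
  let f₁ : ↥U₀ →* ↥(Cfsg.qd p) :=
    { toFun := fun u => Qm 1 (coord u)
      map_one' := by rw [hcoord_one]; exact Qm_one
      map_mul' := fun u u' => by rw [hcoord_mul, Qm_mul, one_mul, act_one] }
  let B : SL2p p →* ↥(Cfsg.qd p) :=
    { toFun := fun M => Qm M 0
      map_one' := Qm_one
      map_mul' := fun M N => by rw [Qm_mul, act_zero, add_zero] }
  obtain ⟨N₁, hN₁⟩ : ∃ N₁ : Subgroup ↥(N0 ε), N₁ = Subgroup.normalizer (T : Set ↥(N0 ε)) :=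
    ⟨_, rfl⟩
  let f₂ : ↥N₁ →* ↥(Cfsg.qd p) := B.comp (α.comp N₁.subtype)
  have hN : N₁ ≤ Subgroup.normalizer (U₀ : Set ↥(N0 ε)) := by
    rw [Subgroup.normalizer_eq_top]; exact le_top
  have hcompat : ∀ n : ↥N₁,
      f₁.comp ((U₀.normalizerMonoidHom.comp (Subgroup.inclusion hN)) n).toMonoidHom =
      (MulAut.conj (f₂ n)).toMonoidHom.comp f₁ := by
    intro n
    refine MonoidHom.ext (fun u => ?_)
    show Qm 1 (coord ((U₀.normalizerMonoidHom.comp (Subgroup.inclusion hN)) n u)) =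
      Qm (α n.1) 0 * Qm 1 (coord u) * (Qm (α n.1) 0)⁻¹
    have hc : coord ((U₀.normalizerMonoidHom.comp (Subgroup.inclusion hN)) n u) =
        act (α n.1) (coord u) := by
      apply hinj
      rw [← hcoordspec, ← hspec, ← hcoordspec]
      rfl
    rw [hc, eq_mul_inv_iff_mul_eq, Qm_mul, Qm_mul, one_mul, mul_one, act_one, zero_add, add_zero]
  have hΦsurj : Function.Surjective (SemidirectProduct.lift f₁ f₂ hcompat) := by
    intro x
    obtain ⟨M, v, rfl⟩ := Qm_surj x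
    obtain ⟨n, hn, hnM⟩ := hN₁surj M
    have hu : (⟨ε v, eps_mem_N0 hadd v⟩ : ↥(N0 ε)) ∈ U₀ := (hU₀ _).mpr ⟨v, rfl⟩
    refine ⟨⟨⟨_, hu⟩, ⟨n, hN₁ ▸ hn⟩⟩, ?_⟩
    show Qm 1 (coord ⟨_, hu⟩) * Qm (α n) 0 = Qm M v
    have hc : coord ⟨_, hu⟩ = v := hinj (by rw [← hcoordspec])
    rw [hc, hnM, Qm_mul, one_mul, act_one, add_zero]
  have hminj : Function.Injective (SemidirectProduct.monoidHomSubgroup hN) := by
    rw [injective_iff_map_eq_one]
    intro x hx
    have h1 : (x.left : ↥(N0 ε)) * (x.right : ↥(N0 ε)) = 1 := hx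
    have h2 : (x.left : ↥(N0 ε)) = (x.right : ↥(N0 ε))⁻¹ := eq_inv_of_mul_eq_one_left h1
    have h3 : (x.left : ↥(N0 ε)) = 1 :=
      hdisj _ x.left.2 (by rw [h2, ← hN₁]; exact N₁.inv_mem x.right.2)
    have h4 : (x.right : ↥(N0 ε)) = 1 := by rw [h3, one_mul] at h1; exact h1
    exact SemidirectProduct.ext (Subtype.ext h3) (Subtype.ext h4)
  refine ⟨(SemidirectProduct.monoidHomSubgroup hN).range.map (N0 ε).subtype,
    ((SemidirectProduct.lift f₁ f₂ hcompat).comp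
      (MonoidHom.ofInjective hminj).symm.toMonoidHom).comp
      ((SemidirectProduct.monoidHomSubgroup hN).range.equivMapOfInjective (N0 ε).subtype
        (N0 ε).subtype_injective).symm.toMonoidHom, ?_⟩
  exact (hΦsurj.comp (MonoidHom.ofInjective hminj).symm.surjective).comp (MulEquiv.surjective _)

end Cfsg.Agent.Helper5.Qd
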