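import Mathlib
import Cfsg.Prelude
import Cfsg.Agent.Helper5.PStabGen
import Cfsg.Agent.Helper5.QdA
import Cfsg.Agent.Helper5.QdC
import Cfsg.Agent.Helper5.QdD
import Cfsg.Agent.Helper5.QuadPair

/-!
# `Qd(p)` sections from quadratic pairs (helper5)

* `qd_of_quad_pair`: a quadratic pair on a normal elementary abelian `p`-subgroup `V` (`p` odd)
  which does not generate a `p`-group modulo `C(V)` involves `Qd(p)`.
* `quad_mem_LL_or_qd`: an element acting quadratically on a normal `p`-subgroup `V` lies in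
  `O_p` modulo `C_G(V)`, or `Qd(p)` is a section of `G`.
-/

set_option autoImplicit false

namespace Cfsg.Agent.Helper5

open scoped IsMulCommutative
open scoped commutatorElement
open Cfsg.Agent.S0653 Cfsg.Agent.Helper5.SL2 Cfsg.Agent.Helper5.Qd Cfsg.Agent.Helper27.SL2E

universe u

/-- `Qd(p)` is a section of `G` (a quotient of a subgroup) -/
def HasQdSec (p : ℕ) (G : Type*) [Group G] : Prop :=
  ∃ (K : Subgroup G) (ψ : ↥K →* ↥(Cfsg.qd p)), Function.Surjective ψ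

theorem hasQdSec_lift {G G' : Type*} [Group G] [Group G'] (p : ℕ) (f : G →* G')
    (hf : Function.Surjective f) (h : HasQdSec p G') : HasQdSec p G := by
  obtain ⟨K, ψ, hψ⟩ := h
  exact ⟨K.comap f, ψ.comp (f.subgroupComap K),
    hψ.comp (f.subgroupComap_surjective_of_surjective K hf)⟩

theorem hasQdSec_of_injective {A B : Type*} [Group A] [Group B] (p : ℕ) (f : A →* B)
    (hf : Function.Injective f) (h : HasQdSec p A) : HasQdSec p B := by
  obtain ⟨K, ψ, hψ⟩ := h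
  exact ⟨K.map f, ψ.comp (K.equivMapOfInjective f hf).symm.toMonoidHom,
    hψ.comp (K.equivMapOfInjective f hf).symm.surjective⟩

section zp

variable {G : Type*} [Group G] {p : ℕ} [Fact p.Prime]

/-- `x ^ a` for `a : ZMod p` -/
def zp (x : G) (a : ZMod p) : G := x ^ a.val

theorem pow_eq_zp {x : G} (hx : x ^ p = 1) (n : ℕ) : x ^ n = zp x (n : ZMod p) := by
  unfold zp
  rw [ZMod.val_natCast, pow_eq_pow_mod n hx]

theorem zp_add {x : G} (hx : x ^ p = 1) (a b : ZMod p) : zp x (a + b) = zp x a * zp x b := by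
  haveI : NeZero p := ⟨(Fact.out : p.Prime).ne_zero⟩
  have h := pow_eq_zp hx (a.val + b.val)
  rw [Nat.cast_add, ZMod.natCast_zmod_val, ZMod.natCast_zmod_val] at h
  rw [← h, pow_add]; rfl

theorem zp_mul {x : G} (hx : x ^ p = 1) (a b : ZMod p) : zp (zp x a) b = zp x (a * b) := by
  haveI : NeZero p := ⟨(Fact.out : p.Prime).ne_zero⟩
  have h := pow_eq_zp hx (a.val * b.val)
  rw [Nat.cast_mul, ZMod.natCast_zmod_val, ZMod.natCast_zmod_val] at h
  rw [← h, pow_mul]; rfl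

theorem conj_zp (g x : G) (a : ZMod p) : g * zp x a * g⁻¹ = zp (g * x * g⁻¹) a := by
  unfold zp; rw [conj_pow]

theorem zp_mul_distrib {x y : G} (h : Commute x y) (a : ZMod p) :
    zp (x * y) a = zp x a * zp y a := h.mul_pow _

end zp

section mat

variable {F : Type*} [Field F]

theorem unip_anticomm (M₁ M₂ : S2 F) (h1 : tr M₁ = 2) (h2 : tr M₂ = 2) :
    (M₁.1 - 1) * (M₂.1 - 1) + (M₂.1 - 1) * (M₁.1 - 1) =
      (tr (M₁ * M₂) - 2) • (1 : Matrix (Fin 2) (Fin 2) F) := by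
  have hd1 : M₁.1 1 1 = 2 - M₁.1 0 0 := by unfold tr at h1; linear_combination h1
  have hd2 : M₂.1 1 1 = 2 - M₂.1 0 0 := by unfold tr at h2; linear_combination h2
  ext i j
  fin_cases i <;> fin_cases j <;>
    simp [Matrix.mul_apply, Fin.sum_univ_two, tr, mul00, mul11, hd1, hd2] <;> ring

theorem closure_Um_Lm' {p : ℕ} [Fact p.Prime] (j : ZMod p) (hj : j ≠ 0) :
    Subgroup.closure {Um j, Lm (1 : ZMod p)} = ⊤ := by
  rw [eq_top_iff, ← closure_eq_top (p := p)]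
  apply (Subgroup.closure_le _).mpr
  intro x hx
  rcases hx with h | h
  · rw [h]
    haveI : NeZero p := ⟨(Fact.out : p.Prime).ne_zero⟩
    have h1 : Um (1 : ZMod p) = Um j ^ (j⁻¹).val := by
      rw [Cfsg.Agent.Helper5.QuadPair.Um_pow, ZMod.natCast_zmod_val, inv_mul_cancel₀ hj]
    rw [h1]
    exact Subgroup.pow_mem _ (Subgroup.subset_closure (by simp)) _
  · rw [Set.mem_singleton_iff] at h
    rw [h]; exact Subgroup.subset_closure (by simp)

end mat

theorem pow_p_closure_pair_of_comm {H : Type*} [Group H] (p : ℕ) (u v : H) (hu : u ^ p = 1)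
    (hv : v ^ p = 1) (hc : u * v = v * u) : ∀ g ∈ Subgroup.closure {u, v}, g ^ p = 1 := by
  have h1 : Subgroup.closure {u, v} ≤ Subgroup.centralizer ({u, v} : Set H) := by
    apply (Subgroup.closure_le _).mpr
    intro z hz
    rw [SetLike.mem_coe, Subgroup.mem_centralizer_iff]
    intro y hy
    rcases hz with rfl | hz
    · rcases hy with rfl | hy
      · rfl
      · rw [Set.mem_singleton_iff] at hy; rw [hy]; exact hc.symm
    · rw [Set.mem_singleton_iff] at hz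
      rcases hy with rfl | hy
      · rw [hz]; exact hc
      · rw [Set.mem_singleton_iff] at hy; rw [hy, hz]
  have h2 : ∀ g ∈ Subgroup.closure {u, v}, ∀ g' ∈ Subgroup.closure {u, v}, g * g' = g' * g := by
    intro g hg g' hg'
    have h3 := Subgroup.closure_le_centralizer_centralizer ({u, v} : Set H) hg
    exact (Subgroup.mem_centralizer_iff.mp h3 g' (h1 hg')).symm
  intro g hg
  induction hg using Subgroup.closure_induction with
  | mem x hx =>
    rcases hx with rfl | hx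
    · exact hu
    · rw [Set.mem_singleton_iff] at hx; rw [hx]; exact hv
  | one => exact one_pow p
  | mul x y hx hy ihx ihy =>
    have hcm : Commute x y := h2 x hx y hy
    rw [hcm.mul_pow, ihx, ihy, one_mul]
  | inv x hx ihx => rw [inv_pow, ihx, inv_one]

/-- two nilpotent-of-order-two endomorphisms whose anticommutator has a nonzero eigenvalue `n`
give a natural two-dimensional piece -/
theorem quad_pair_vectors {A : Type*} [AddCommGroup A] (p : ℕ) [Fact p.Prime]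
    (hpA : ∀ w : A, p • w = 0)
    (Q Q' : AddMonoid.End A) (hQ : Q * Q = 0) (hQ' : Q' * Q' = 0) (n : ℕ) (hn : ¬ p ∣ n)
    (w : A) (hw : w ≠ 0) (hcw : (Q * Q' + Q' * Q) w = n • w) :
    ∃ w₁ w₂ : A, Q w₁ = 0 ∧ Q' w₁ = w₂ ∧ Q w₂ = n • w₁ ∧ Q' w₂ = 0 ∧
      ∀ i k : ℕ, i • w₁ + k • w₂ = 0 → p ∣ i ∧ p ∣ k := by
  have hpp := (Fact.out : p.Prime)
  have hQa : ∀ z, Q (Q z) = 0 := fun z => by
    have := congrArg (fun f : AddMonoid.End A => f z) hQ
    exact this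
  have hQ'a : ∀ z, Q' (Q' z) = 0 := fun z => by
    have := congrArg (fun f : AddMonoid.End A => f z) hQ'
    exact this
  have hca : ∀ z, (Q * Q' + Q' * Q) z = Q (Q' z) + Q' (Q z) := fun z => rfl
  obtain ⟨w₁, hw₁0, hQw₁, hcw₁⟩ : ∃ w₁ : A, w₁ ≠ 0 ∧ Q w₁ = 0 ∧ Q (Q' w₁) = n • w₁ := by
    by_cases h : Q w = 0
    · refine ⟨w, hw, h, ?_⟩
      have := hcw
      rw [hca, h, map_zero, add_zero] at this
      exact this
    · refine ⟨Q w, h, hQa w, ?_⟩
      have := congrArg Q hcw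
      rw [hca, map_add, hQa, zero_add, map_nsmul] at this
      exact this
  refine ⟨w₁, Q' w₁, hQw₁, rfl, hcw₁, hQ'a w₁, ?_⟩
  intro i k hik
  have hord : ∀ m : ℕ, m • w₁ = 0 → p ∣ m := by
    intro m hm
    have h2 : addOrderOf w₁ ∣ p := addOrderOf_dvd_of_nsmul_eq_zero (hpA w₁)
    have h3 : addOrderOf w₁ = p := by
      rcases (Nat.dvd_prime hpp).mp h2 with h | h
      · exact absurd (AddMonoid.addOrderOf_eq_one_iff.mp h) hw₁0
      · exact h
    rw [← h3]; exact addOrderOf_dvd_of_nsmul_eq_zero hm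
  have h1 : (n * k) • w₁ = 0 := by
    have := congrArg Q hik
    rw [map_add, map_nsmul, map_nsmul, hQw₁, smul_zero, zero_add, hcw₁, map_zero,
      ← mul_nsmul] at this
    exact this
  have hk : p ∣ k := (hpp.dvd_mul.mp (hord _ h1)).resolve_left hn
  refine ⟨?_, hk⟩
  obtain ⟨k', rfl⟩ := hk
  have h4 : (p * k') • Q' w₁ = 0 := by rw [mul_nsmul, hpA, smul_zero]
  rw [h4, add_zero] at hik
  exact hord i hik

variable {G : Type u} [Group G]

/-- a subgroup of order `p²` on which two elements act as `[[1, j], [0, 1]]` and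
`[[1, 0], [1, 1]]` gives a `Qd(p)`-section -/
theorem qd_of_vectors [Finite G] {p : ℕ} [Fact p.Prime] (hp2 : p ≠ 2) (e₁ e₂ A₁ A₂ : G)
    (j : ZMod p) (hj : j ≠ 0)
    (h1 : e₁ ^ p = 1) (h2 : e₂ ^ p = 1) (hc : e₁ * e₂ = e₂ * e₁)
    (hind : ∀ i k : ℕ, e₁ ^ i * e₂ ^ k = 1 → p ∣ i ∧ p ∣ k)
    (hA11 : A₁ * e₁ * A₁⁻¹ = e₁) (hA12 : A₁ * e₂ * A₁⁻¹ = e₂ * e₁ ^ j.val)
    (hA21 : A₂ * e₁ * A₂⁻¹ = e₁ * e₂) (hA22 : A₂ * e₂ * A₂⁻¹ = e₂) : HasQdSec p G := by
  haveI : NeZero p := ⟨(Fact.out : p.Prime).ne_zero⟩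
  have hcc : Commute e₁ e₂ := hc
  obtain ⟨ε, hε⟩ : ∃ ε : ZMod p × ZMod p → G, ∀ v, ε v = zp e₁ v.1 * zp e₂ v.2 := ⟨_, fun v => rfl⟩
  have hadd : ∀ v w, ε (v + w) = ε v * ε w := by
    intro v w
    rw [hε, hε, hε, Prod.fst_add, Prod.snd_add, zp_add h1, zp_add h2]
    have hcm : Commute (zp e₂ v.2) (zp e₁ w.1) := hcc.symm.pow_pow _ _
    calc zp e₁ v.1 * zp e₁ w.1 * (zp e₂ v.2 * zp e₂ w.2)
        = zp e₁ v.1 * (zp e₁ w.1 * zp e₂ v.2) * zp e₂ w.2 := by group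
      _ = zp e₁ v.1 * (zp e₂ v.2 * zp e₁ w.1) * zp e₂ w.2 := by rw [hcm.eq]
      _ = zp e₁ v.1 * zp e₂ v.2 * (zp e₁ w.1 * zp e₂ w.2) := by group
  have hinj : Function.Injective ε := by
    intro v w hvw
    have h3 : ε (v - w) = 1 := by
      have h4 := hadd (v - w) w
      rw [sub_add_cancel, hvw] at h4
      have h5 : 1 * ε w = ε (v - w) * ε w := by rw [one_mul]; exact h4
      exact (mul_right_cancel h5).symm
    rw [hε] at h3
    obtain ⟨d1, d2⟩ := hind _ _ h3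
    have e1 : (v - w).1 = 0 := by
      rw [← ZMod.natCast_zmod_val (v - w).1]
      exact (ZMod.natCast_eq_zero_iff _ _).mpr d1
    have e2 : (v - w).2 = 0 := by
      rw [← ZMod.natCast_zmod_val (v - w).2]
      exact (ZMod.natCast_eq_zero_iff _ _).mpr d2
    exact sub_eq_zero.mp (Prod.ext e1 e2)
  have hact1 : IsAct ε A₁ (Um j) := by
    intro v
    have hav : act (Um j) v = (v.1 + j * v.2, v.2) := by simp [act, Um_coe]
    rw [hav, hε, hε]
    have e : A₁ * (zp e₁ v.1 * zp e₂ v.2) * A₁⁻¹ =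
        (A₁ * zp e₁ v.1 * A₁⁻¹) * (A₁ * zp e₂ v.2 * A₁⁻¹) := by group
    have hcm2 : Commute e₂ (e₁ ^ j.val) := hcc.symm.pow_right _
    have hcm3 : Commute (zp e₂ v.2) (zp e₁ (j * v.2)) := hcc.symm.pow_pow _ _
    have hz : e₁ ^ j.val = zp e₁ j := rfl
    rw [e, conj_zp, conj_zp, hA11, hA12, zp_mul_distrib hcm2, hz, zp_mul h1, zp_add h1,
      mul_assoc, hcm3.eq]
  have hact2 : IsAct ε A₂ (Lm 1) := by
    intro v
    have hav : act (Lm (1 : ZMod p)) v = (v.1, v.1 + v.2) := by simp [act, Lm_coe]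
    rw [hav, hε, hε]
    have e : A₂ * (zp e₁ v.1 * zp e₂ v.2) * A₂⁻¹ =
        (A₂ * zp e₁ v.1 * A₂⁻¹) * (A₂ * zp e₂ v.2 * A₂⁻¹) := by group
    rw [e, conj_zp, conj_zp, hA21, hA22, zp_mul_distrib hcc, zp_add h2, mul_assoc]
  have hsurj : ∀ M : SL2p p, ∃ g : G, IsAct ε g M := by
    intro M
    have hM : M ∈ Subgroup.closure {Um j, Lm (1 : ZMod p)} := by
      rw [closure_Um_Lm' j hj]; exact Subgroup.mem_top M
    induction hM using Subgroup.closure_induction with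
    | mem x hx =>
      rcases hx with rfl | hx
      · exact ⟨A₁, hact1⟩
      · rw [Set.mem_singleton_iff] at hx; rw [hx]; exact ⟨A₂, hact2⟩
    | one => exact ⟨1, IsAct.one ε⟩
    | mul x y _ _ hx hy =>
      obtain ⟨g, hg⟩ := hx
      obtain ⟨g', hg'⟩ := hy
      exact ⟨g * g', hg.mul hg'⟩
    | inv x _ hx =>
      obtain ⟨g, hg⟩ := hx
      exact ⟨g⁻¹, hg.inv⟩
  exact qd_section_of_act hp2 ε hadd hinj hsurj

/-- a quadratic pair on a normal elementary abelian `p`-subgroup which is not a `p`-group modulo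
the centralizer gives a `Qd(p)`-section (`p` odd) -/
theorem qd_of_quad_pair [Finite G] {p : ℕ} [Fact p.Prime] (hp2 : p ≠ 2)
    (V : Subgroup G) [hVn : V.Normal] [IsMulCommutative V] (hVe : ∀ v ∈ V, v ^ p = 1)
    (a b : G) (hqa : ∀ v ∈ V, ⁅⁅v, a⁆, a⁆ = 1) (hqb : ∀ v ∈ V, ⁅⁅v, b⁆, b⁆ = 1)
    (hnp : ∃ g ∈ Subgroup.closure {a, b}, ∀ k : ℕ,
      g ^ p ^ k ∉ Subgroup.centralizer (V : Set G)) : HasQdSec p G := by
  have hnorm : ∀ g : G, g ∈ Subgroup.normalizer (V : Set G) := by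
    intro g; rw [Subgroup.normalizer_eq_top]; exact Subgroup.mem_top g
  have hle : Subgroup.closure {a, b} ≤ Subgroup.normalizer (V : Set G) := fun g _ => hnorm g
  obtain ⟨m, φ, hφ, hφa, hφb, hsub⟩ := bridge' V hVe a b (hnorm a) (hnorm b) hle hqa hqb hnp
  letI : Fintype (GaloisField p m) := Fintype.ofFinite _
  obtain ⟨x, hx⟩ : ∃ x : ↥(Subgroup.closure {a, b}), x = ⟨a, Subgroup.subset_closure (by simp)⟩ :=
    ⟨_, rfl⟩
  obtain ⟨y, hy⟩ : ∃ y : ↥(Subgroup.closure {a, b}), y = ⟨b, Subgroup.subset_closure (by simp)⟩ :=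
    ⟨_, rfl⟩
  rw [← hx] at hφa
  rw [← hy] at hφb
  have hxa : (x : G) = a := by rw [hx]
  have hyb : (y : G) = b := by rw [hy]
  have hD : Subgroup.closure ({x, y} : Set ↥(Subgroup.closure {a, b})) = ⊤ := by
    rw [← Subgroup.closure_closure_coe_preimage (k := ({a, b} : Set G))]
    congr 1
    ext z
    simp only [Set.mem_insert_iff, Set.mem_singleton_iff, Set.mem_preimage, Subtype.ext_iff, hx, hy]
  have hrange : φ.range = Subgroup.closure {φ x, φ y} := by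
    rw [MonoidHom.range_eq_map, ← hD, MonoidHom.map_closure, Set.image_pair]
  have htu : tr (φ x) = 2 := tr_of_pow_eq_one p (φ x) 1 (by rw [pow_one]; exact hφa)
  have htv : tr (φ y) = 2 := tr_of_pow_eq_one p (φ y) 1 (by rw [pow_one]; exact hφb)
  have hne : φ x * φ y ≠ φ y * φ x := by
    intro hcomm
    apply hφ
    rintro ⟨g, hg⟩
    have hg' : g ∈ Subgroup.closure {φ x, φ y} := hrange ▸ hg
    refine ⟨1, Subtype.ext ?_⟩
    show g ^ p ^ 1 = 1
    rw [pow_one]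
    exact pow_p_closure_pair_of_comm p _ _ hφa hφb hcomm g hg'
  obtain ⟨q, h, hq, hh, j, hj, htr⟩ :=
    unip_conj_pair p hp2 φ.range (φ x) (φ y) ⟨x, rfl⟩ ⟨y, rfl⟩ htu htv hne
  obtain ⟨ht, rfl⟩ := hh
  obtain ⟨g₁, hg₁φ, hg₁q⟩ : ∃ g₁ : ↥(Subgroup.closure {a, b}), φ g₁ = q ∧
      ∀ v ∈ V, ⁅⁅v, (g₁ : G)⁆, (g₁ : G)⁆ = 1 := by
    rcases hq with rfl | rfl
    · exact ⟨x, rfl, by rw [hxa]; exact hqa⟩
    · exact ⟨y, rfl, by rw [hyb]; exact hqb⟩
  subst hg₁φ
  obtain ⟨g₂, hg₂⟩ : ∃ g₂ : ↥(Subgroup.closure {a, b}), g₂ = ht * g₁ * ht⁻¹ := ⟨_, rfl⟩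
  have hg₂q : ∀ v ∈ V, ⁅⁅v, (g₂ : G)⁆, (g₂ : G)⁆ = 1 := by
    have h1 : (g₂ : G) = (ht : G) * (g₁ : G) * (ht : G)⁻¹ := by rw [hg₂]; rfl
    rw [h1]
    exact quad_conj V (g₁ : G) (ht : G) (hnorm _) hg₁q
  have hφg₂ : φ g₂ = φ ht * φ g₁ * (φ ht)⁻¹ := by rw [hg₂, map_mul, map_mul, map_inv]
  have htg₁ : tr (φ g₁) = 2 := by
    rcases hq with h | h
    · rw [h]; exact htu
    · rw [h]; exact htv
  have htg₂ : tr (φ g₂) = 2 := by rw [hφg₂, tr_conj]; exact htg₁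
  have hm := unip_anticomm (φ g₁) (φ g₂) htg₁ htg₂
  have hl : tr (φ g₁ * φ g₂) - 2 = ZMod.castHom (dvd_refl p) (GaloisField p m) j := by
    rw [hφg₂, htr]; ring
  rw [hl] at hm
  obtain ⟨w, hw0, hw⟩ := hsub g₁ g₂ j hm
  have hpA : ∀ z : Additive ↥V, p • z = 0 := by
    intro z
    apply Cfsg.Agent.Helper11.additive_subgroup_ext
    show (((Additive.toMul z : V) ^ p : V) : G) = 1
    rw [Subgroup.coe_pow]
    exact hVe _ (Additive.toMul z : V).2
  have hQ := conjEnd_quad V (Subgroup.inclusion hle g₁) hg₁q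
  have hQ' := conjEnd_quad V (Subgroup.inclusion hle g₂) hg₂q
  haveI : NeZero p := ⟨(Fact.out : p.Prime).ne_zero⟩
  have hjn : ¬ p ∣ j.val := by
    intro hd
    apply hj
    rw [← ZMod.natCast_zmod_val j]
    exact (ZMod.natCast_eq_zero_iff _ _).mpr hd
  obtain ⟨w₁, w₂, hQw₁, hQ'w₁, hQw₂, hQ'w₂, hind⟩ :=
    quad_pair_vectors p hpA _ _ hQ hQ' j.val hjn w hw0 hw
  have hc1 : ∀ (g : ↥(Subgroup.normalizer (V : Set G))) (z z' : Additive ↥V),
      (Cfsg.Agent.Helper11.conjEnd V g - 1) z = z' →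
      (g : G) * ((Additive.toMul z : V) : G) * (g : G)⁻¹ =
        ((Additive.toMul z : V) : G) * ((Additive.toMul z' : V) : G) := by
    intro g z z' hz
    have h1 : Cfsg.Agent.Helper11.conjEnd V g z = z + z' := by
      have h2 : (Cfsg.Agent.Helper11.conjEnd V g - 1) z =
          Cfsg.Agent.Helper11.conjEnd V g z - z := rfl
      rw [h2] at hz
      rw [← hz]; abel
    have h3 := congrArg (fun t : Additive ↥V => ((Additive.toMul t : V) : G)) h1
    exact h3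
  refine qd_of_vectors hp2 ((Additive.toMul w₁ : V) : G) ((Additive.toMul w₂ : V) : G)
    (g₁ : G) (g₂ : G) j hj ?_ ?_ ?_ ?_ ?_ ?_ ?_ ?_
  · exact hVe _ (Additive.toMul w₁ : V).2
  · exact hVe _ (Additive.toMul w₂ : V).2
  · exact congrArg Subtype.val (mul_comm (Additive.toMul w₁ : V) (Additive.toMul w₂ : V))
  · intro i k hik
    apply hind
    apply Cfsg.Agent.Helper11.additive_subgroup_ext
    show ((((Additive.toMul w₁ : V) ^ i * (Additive.toMul w₂ : V) ^ k : V)) : G) = 1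
    rw [Subgroup.coe_mul, Subgroup.coe_pow, Subgroup.coe_pow]
    exact hik
  · have h1 : (g₁ : G) * ((Additive.toMul w₁ : V) : G) * (g₁ : G)⁻¹ =
        ((Additive.toMul w₁ : V) : G) * ((Additive.toMul (0 : Additive ↥V) : V) : G) :=
      hc1 (Subgroup.inclusion hle g₁) w₁ 0 hQw₁
    rw [h1]
    show ((Additive.toMul w₁ : V) : G) * ((1 : V) : G) = _
    rw [Subgroup.coe_one, mul_one]
  · have h1 : (g₁ : G) * ((Additive.toMul w₂ : V) : G) * (g₁ : G)⁻¹ =
        ((Additive.toMul w₂ : V) : G) * ((Additive.toMul (j.val • w₁) : V) : G) :=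
      hc1 (Subgroup.inclusion hle g₁) w₂ (j.val • w₁) hQw₂
    rw [h1]
    show ((Additive.toMul w₂ : V) : G) * (((Additive.toMul w₁ : V) ^ j.val : V) : G) = _
    rw [Subgroup.coe_pow]
  · exact hc1 (Subgroup.inclusion hle g₂) w₁ w₂ hQ'w₁
  · have h1 : (g₂ : G) * ((Additive.toMul w₂ : V) : G) * (g₂ : G)⁻¹ =
        ((Additive.toMul w₂ : V) : G) * ((Additive.toMul (0 : Additive ↥V) : V) : G) :=
      hc1 (Subgroup.inclusion hle g₂) w₂ 0 hQ'w₂
    rw [h1]
    show ((Additive.toMul w₂ : V) : G) * ((1 : V) : G) = _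
    rw [Subgroup.coe_one, mul_one]

/-- minimal case: quadratic elements centralize, or `Qd(p)` is a section -/
theorem min_case_qd [Finite G] {p : ℕ} [Fact p.Prime] (hp2 : p ≠ 2) (V : Subgroup G)
    [hVn : V.Normal] (hVp : IsPGroup p V) (hV1 : V ≠ ⊥)
    (hmin : ∀ U : Subgroup G, U.Normal → U ≤ V → U = ⊥ ∨ U = V)
    (hVc : ∀ s ∈ V, ∀ t ∈ V, s * t = t * s) (hVe : ∀ v ∈ V, v ^ p = 1)
    (a : G) (hq : ⁅⁅V, Subgroup.zpowers a⁆, Subgroup.zpowers a⁆ = ⊥) :
    a ∈ Subgroup.centralizer (V : Set G) ∨ HasQdSec p G := by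
  haveI : IsMulCommutative V := ⟨⟨fun x y => Subtype.ext (hVc x.1 x.2 y.1 y.2)⟩⟩
  by_cases haC : a ∈ Subgroup.centralizer (V : Set G)
  · exact Or.inl haC
  right
  obtain ⟨x, hnp⟩ := min_case_pair V hVp hV1 hmin a haC
  have hnorm : ∀ g : G, g ∈ Subgroup.normalizer (V : Set G) := by
    intro g; rw [Subgroup.normalizer_eq_top]; exact Subgroup.mem_top g
  have hqa := quad_elem V a hq
  exact qd_of_quad_pair hp2 V hVe a (x * a * x⁻¹) hqa (quad_conj V a x (hnorm x) hqa) hnp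

/-- an element acting quadratically on a normal `p`-subgroup lies in `O_p` modulo the
centralizer, or `Qd(p)` is a section (`p` odd) -/
theorem quad_mem_LL_or_qd [Finite G] {p : ℕ} [Fact p.Prime] (hp2 : p ≠ 2)
    (V : Subgroup G) [V.Normal] (hV : IsPGroup p V) (a : G)
    (hq : ⁅⁅V, Subgroup.zpowers a⁆, Subgroup.zpowers a⁆ = ⊥) :
    a ∈ LL p V ∨ HasQdSec p G := by
  have hminc : ∀ (V₁ : Subgroup G) [V₁.Normal] (Vb : Subgroup (G ⧸ V₁)) [Vb.Normal],
      IsPGroup p Vb → Vb ≠ ⊥ →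
      (∀ U : Subgroup (G ⧸ V₁), U.Normal → U ≤ Vb → U = ⊥ ∨ U = Vb) →
      (∀ s ∈ Vb, ∀ t ∈ Vb, s * t = t * s) → (∀ v ∈ Vb, v ^ p = 1) →
      ∀ ab : G ⧸ V₁, ⁅⁅Vb, Subgroup.zpowers ab⁆, Subgroup.zpowers ab⁆ = ⊥ →
      ab ∈ Subgroup.centralizer (Vb : Set (G ⧸ V₁)) ∨ HasQdSec p G := by
    intro V₁ _ Vb _ hVbp hVb1 hmin hVbc hVbe ab hqb
    rcases min_case_qd hp2 Vb hVbp hVb1 hmin hVbc hVbe ab hqb with h | h
    · exact Or.inl h
    · exact Or.inr (hasQdSec_lift p (QuotientGroup.mk' V₁) (QuotientGroup.mk'_surjective V₁) h)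
  exact pstable_gen_aux (HasQdSec p G) hminc _ V hV rfl a hq

end Cfsg.Agent.Helper5
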