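import Mathlib
import Cfsg.Agent.Helper5.S4016E

/-!
For S4016: when a Sylow 2-subgroup lies in a group `L` of order 4 covered by three conjugates
of a subgroup `L0 ≤ D`, every involution is conjugate into `D`.
-/

set_option autoImplicit false

namespace Cfsg.Agent.S4016P

theorem invol_conj_into {G ι : Type*} [Group G] [Finite G] [Finite ι] (L L0 D : Subgroup G)
    (hL : Nat.card L = 4) (hL0 : Nat.card L0 = 2) (hL0D : L0 ≤ D) (Q : Sylow 2 G)
    (hQL : (Q : Subgroup G) ≤ L) (A : ι → Subgroup G) (hι : 3 ≤ Nat.card ι)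
    (hAL : ∀ i, A i ≤ L) (hA : ∀ i, Nat.card (A i) = 2)
    (hdisj : ∀ i j, i ≠ j → A i ⊓ A j = ⊥)
    (hconj : ∀ i, ∃ v : G, ∀ x ∈ A i, v * x * v⁻¹ ∈ L0) :
    ∀ x : G, orderOf x = 2 → ∃ g : G, g * x * g⁻¹ ∈ D := by
  haveI : Nonempty ι := by
    by_contra h
    rw [not_nonempty_iff] at h
    have h0 : Nat.card ι = 0 := Nat.card_of_isEmpty
    omega
  obtain ⟨hcnt, hcov⟩ := eg_count_le L A hAL 2 hA hdisj
  have hcov' := hcov (by omega)
  intro x hx
  haveI : Fact (Nat.Prime 2) := ⟨Nat.prime_two⟩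
  have hpg : IsPGroup 2 (Subgroup.zpowers x) := by
    apply IsPGroup.of_card (n := 1)
    rw [Nat.card_zpowers, hx, pow_one]
  obtain ⟨Q', hQ'⟩ := hpg.exists_le_sylow
  obtain ⟨g, hg⟩ := MulAction.exists_smul_eq G Q' Q
  have hxQ' : x ∈ (Q' : Subgroup G) := hQ' (Subgroup.mem_zpowers x)
  have hgx : g * x * g⁻¹ ∈ (Q : Subgroup G) := by
    rw [← hg, Sylow.coe_subgroup_smul]
    exact Subgroup.smul_mem_pointwise_smul x (MulAut.conj g) _ hxQ'
  obtain ⟨i, hi⟩ := hcov' _ (hQL hgx)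
  obtain ⟨v, hv⟩ := hconj i
  refine ⟨v * g, hL0D ?_⟩
  have h1 := hv _ hi
  have h2 : v * g * x * (v * g)⁻¹ = v * (g * x * g⁻¹) * v⁻¹ := by group
  rw [h2]
  exact h1

end Cfsg.Agent.S4016P
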