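import Mathlib
import Cfsg.Prelude.Def_Transfer
import Cfsg.Agent.Lead.S4016D

/-!
For the reduction of S4016 to the simple case: the hypotheses pass to subgroups, and a proper
nontrivial normal subgroup satisfying the conclusion yields a nontrivial normal subgroup of the
whole group that is a `p`-group or of order prime to `p`.
-/

set_option autoImplicit false

namespace Cfsg.Agent.S4016P

universe u

theorem h5_red_sub {G : Type u} [Group G] [Finite G] {p : ℕ} [Fact p.Prime] (P : Sylow p G)
    (hcyc : IsCyclic P) (hab : ∀ H : Subgroup G, ¬ p ∣ Nat.card H → IsMulCommutative H)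
    (H : Subgroup G) :
    (∀ P1 : Sylow p H, IsCyclic P1) ∧
      (∀ H1 : Subgroup H, ¬ p ∣ Nat.card H1 → IsMulCommutative H1) := by
  constructor
  · intro P1
    have hpg : IsPGroup p ((P1 : Subgroup H).map H.subtype) := P1.isPGroup'.map H.subtype
    obtain ⟨Q, hQ⟩ := hpg.exists_le_sylow
    obtain ⟨g, hg⟩ := MulAction.exists_smul_eq G P Q
    haveI : IsCyclic (P : Subgroup G) := hcyc
    haveI hQc : IsCyclic (Q : Subgroup G) := by
      rw [← hg]
      exact isCyclic_of_surjective (P.equivSMul g) (P.equivSMul g).surjective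
    let f : (P1 : Subgroup H) →* (Q : Subgroup G) :=
      { toFun := fun x => ⟨((x : H) : G), hQ (Subgroup.mem_map_of_mem _ x.2)⟩
        map_one' := rfl
        map_mul' := fun _ _ => rfl }
    have hf : Function.Injective f := by
      intro x y hxy
      apply Subtype.ext
      apply Subtype.ext
      have h := congrArg Subtype.val hxy
      exact h
    exact isCyclic_of_injective f hf
  · intro H1 hH1
    have h1 : ¬ p ∣ Nat.card (H1.map H.subtype) := by
      rwa [Subgroup.card_map_of_injective H.subtype_injective]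
    have h2 := hab _ h1
    refine ⟨⟨fun a b => ?_⟩⟩
    have h3 := h2.is_comm.comm ⟨((a : H) : G), Subgroup.mem_map_of_mem _ a.2⟩
      ⟨((b : H) : G), Subgroup.mem_map_of_mem _ b.2⟩
    apply Subtype.ext
    apply Subtype.ext
    have h4 := congrArg Subtype.val h3
    exact h4

theorem h5_red_nonsimple {G : Type u} [Group G] [Finite G] {p : ℕ} [Fact p.Prime]
    (P : Sylow p G) (hcyc : IsCyclic P)
    (hab : ∀ H : Subgroup G, ¬ p ∣ Nat.card H → IsMulCommutative H)
    (K : Subgroup G) [K.Normal] (hK1 : K ≠ ⊥) (hK2 : K ≠ ⊤)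
    (ihK : ∀ P1 : Sylow p K, IsCyclic P1 →
      (∀ H : Subgroup K, ¬ p ∣ Nat.card H → IsMulCommutative H) →
      Cfsg.HasNormalPComplement p K ∨ (P1 : Subgroup K).Normal) :
    (∃ M : Subgroup G, M.Normal ∧ M ≠ ⊥ ∧ ¬ p ∣ Nat.card M) ∨
      (∃ U : Subgroup G, U.Normal ∧ U ≠ ⊥ ∧ IsPGroup p U) := by
  have hp : p.Prime := Fact.out
  obtain ⟨hsubc, hsubab⟩ := h5_red_sub P hcyc hab K
  obtain ⟨P1⟩ := (inferInstance : Nonempty (Sylow p K))
  rcases ihK P1 (hsubc P1) hsubab with hnpc | hnorm
  · obtain ⟨K', hK'n, hK'c, hK'all⟩ := lead_npc_data hnpc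
    have hMn : (K'.map K.subtype).Normal := by
      constructor
      intro n hn g
      obtain ⟨x, hx, rfl⟩ := Subgroup.mem_map.mp hn
      refine Subgroup.mem_map.mpr ⟨MulAut.conjNormal g x, ?_, MulAut.conjNormal_apply g x⟩
      apply hK'all
      have h1 : orderOf (MulAut.conjNormal g x) = orderOf x :=
        orderOf_injective (MulAut.conjNormal g : MulAut K).toMonoidHom
          (MulAut.conjNormal g : MulAut K).injective x
      rw [h1]
      have h2 : orderOf x ∣ Nat.card K' := by
        have h3 := orderOf_dvd_natCard (⟨x, hx⟩ : K')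
        rwa [Subgroup.orderOf_mk] at h3
      exact Nat.Coprime.coprime_dvd_left h2 hK'c
    by_cases hM : K'.map K.subtype = ⊥
    · right
      refine ⟨K, inferInstance, hK1, ?_⟩
      have hK'bot : K' = ⊥ := (Subgroup.map_eq_bot_iff_of_injective K' K.subtype_injective).mp hM
      intro g
      obtain ⟨e, m, hm, hgm⟩ :=
        Nat.exists_eq_pow_mul_and_not_dvd (orderOf_pos g).ne' p hp.ne_one
      refine ⟨e, ?_⟩
      have h1 : (orderOf (g ^ p ^ e)).Coprime p := by
        rw [orderOf_pow_of_dvd (pow_ne_zero e hp.ne_zero) (hgm ▸ dvd_mul_right _ _), hgm,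
          Nat.mul_div_cancel_left m (pow_pos hp.pos e)]
        exact ((Nat.Prime.coprime_iff_not_dvd hp).mpr hm).symm
      have h2 := hK'all _ h1
      rwa [hK'bot, Subgroup.mem_bot] at h2
    · left
      refine ⟨K'.map K.subtype, hMn, hM, ?_⟩
      rw [Subgroup.card_map_of_injective K.subtype_injective]
      exact (Nat.Prime.coprime_iff_not_dvd hp).mp hK'c.symm
  · have hchar : (P1 : Subgroup K).Characteristic := P1.characteristic_of_normal hnorm
    have hUn : ((P1 : Subgroup K).map K.subtype).Normal := by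
      constructor
      intro n hn g
      obtain ⟨x, hx, rfl⟩ := Subgroup.mem_map.mp hn
      refine Subgroup.mem_map.mpr ⟨MulAut.conjNormal g x, ?_, MulAut.conjNormal_apply g x⟩
      have h1 := Subgroup.characteristic_iff_map_eq.mp hchar (MulAut.conjNormal g)
      rw [← h1]
      exact Subgroup.mem_map_of_mem _ hx
    by_cases hU : (P1 : Subgroup K).map K.subtype = ⊥
    · left
      refine ⟨K, inferInstance, hK1, ?_⟩
      intro hdvd
      have hP1bot : (P1 : Subgroup K) = ⊥ :=
        (Subgroup.map_eq_bot_iff_of_injective _ K.subtype_injective).mp hU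
      exact P1.ne_bot_of_dvd_card hdvd hP1bot
    · right
      exact ⟨_, hUn, hU, P1.isPGroup'.map K.subtype⟩

end Cfsg.Agent.S4016P
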