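import Mathlib

/-!
For S4016: the transfer lemma.  In a finite nonabelian simple group, an element of an abelian
Sylow subgroup `Q` that commutes with the normaliser of `Q` is trivial.
-/

set_option autoImplicit false

namespace Cfsg.Agent.S4016P

open scoped IsMulCommutative in
theorem h5_hT {G : Type*} [Group G] [Finite G] [IsSimpleGroup G]
    (hna : ∃ a b : G, a * b ≠ b * a) :
    ∀ (q : ℕ) [Fact q.Prime] (Q : Sylow q G), IsMulCommutative Q → ∀ y ∈ Q,
      (∀ n ∈ Subgroup.normalizer ((Q : Subgroup G) : Set G), n * y = y * n) → y = 1 := by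
  intro q _ Q hQ y hy hc
  haveI : IsMulCommutative Q := hQ
  haveI : IsMulCommutative (Q : Subgroup G) := hQ
  have hyQ : y ∈ (Q : Subgroup G) := hy
  have key : ∀ (k : ℕ) (g₀ : G), g₀⁻¹ * y ^ k * g₀ ∈ (Q : Subgroup G) →
      g₀⁻¹ * y ^ k * g₀ = y ^ k := by
    intro k g₀ h
    obtain ⟨n, hn, h'⟩ := Q.conj_eq_normalizer_conj_of_mem (y ^ k) g₀
      ((Q : Subgroup G).pow_mem hyQ k) h
    rw [h']
    have hcomm : n * y ^ k = y ^ k * n := ((show Commute n y from hc n hn).pow_right k).eq
    rw [mul_assoc, ← hcomm, inv_mul_cancel_left]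
  let φ : G →* (Q : Subgroup G) := MonoidHom.transfer (MonoidHom.id (Q : Subgroup G))
  have hφ := MonoidHom.transfer_eq_pow (MonoidHom.id (Q : Subgroup G)) y key
  have hker : φ.ker = ⊤ := by
    rcases (MonoidHom.normal_ker φ).eq_bot_or_eq_top with h | h
    · exfalso
      obtain ⟨a, b, hab⟩ := hna
      apply hab
      have hinj : Function.Injective φ := (MonoidHom.ker_eq_bot_iff φ).mp h
      apply hinj
      rw [map_mul, map_mul, mul_comm]
    · exact h
  have h1 : φ y = 1 := by
    rw [← MonoidHom.mem_ker, hker]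
    exact Subgroup.mem_top y
  have h2 : y ^ (Q : Subgroup G).index = 1 := by
    have h := congrArg Subtype.val (hφ.symm.trans h1)
    exact h
  have h3 : y ^ Nat.card (Q : Subgroup G) = 1 := by
    have h := pow_card_eq_one' (G := (Q : Subgroup G)) (x := ⟨y, hyQ⟩)
    exact congrArg Subtype.val h
  have hcop : (Nat.card (Q : Subgroup G)).Coprime (Q : Subgroup G).index := Q.card_coprime_index
  have h4 : orderOf y ∣ 1 := by
    have h5 := Nat.dvd_gcd (orderOf_dvd_of_pow_eq_one h3) (orderOf_dvd_of_pow_eq_one h2)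
    rwa [Nat.Coprime.gcd_eq_one hcop] at h5
  exact orderOf_eq_one_iff.mp (Nat.dvd_one.mp h4)

end Cfsg.Agent.S4016P
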