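import Mathlib
set_option autoImplicit false
namespace Cfsg.Agent.Helper5.SL2
open Matrix

abbrev S2 (F : Type*) [Field F] := Matrix.SpecialLinearGroup (Fin 2) F

variable {F : Type*} [Field F]

theorem det_eq (g : S2 F) : g.1 0 0 * g.1 1 1 - g.1 0 1 * g.1 1 0 = 1 := by
  have := g.det_coe
  rwa [Matrix.det_fin_two] at this

theorem mul00 (g h : S2 F) : (g * h).1 0 0 = g.1 0 0 * h.1 0 0 + g.1 0 1 * h.1 1 0 := by
  show (g.1 * h.1) 0 0 = _
  simp [Matrix.mul_apply, Fin.sum_univ_two]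
theorem mul01 (g h : S2 F) : (g * h).1 0 1 = g.1 0 0 * h.1 0 1 + g.1 0 1 * h.1 1 1 := by
  show (g.1 * h.1) 0 1 = _
  simp [Matrix.mul_apply, Fin.sum_univ_two]
theorem mul10 (g h : S2 F) : (g * h).1 1 0 = g.1 1 0 * h.1 0 0 + g.1 1 1 * h.1 1 0 := by
  show (g.1 * h.1) 1 0 = _
  simp [Matrix.mul_apply, Fin.sum_univ_two]
theorem mul11 (g h : S2 F) : (g * h).1 1 1 = g.1 1 0 * h.1 0 1 + g.1 1 1 * h.1 1 1 := by
  show (g.1 * h.1) 1 1 = _
  simp [Matrix.mul_apply, Fin.sum_univ_two]

theorem inv00 (g : S2 F) : (g⁻¹).1 0 0 = g.1 1 1 := by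
  rw [Matrix.SpecialLinearGroup.SL2_inv_expl]; simp
theorem inv01 (g : S2 F) : (g⁻¹).1 0 1 = - g.1 0 1 := by
  rw [Matrix.SpecialLinearGroup.SL2_inv_expl]; simp
theorem inv10 (g : S2 F) : (g⁻¹).1 1 0 = - g.1 1 0 := by
  rw [Matrix.SpecialLinearGroup.SL2_inv_expl]; simp
theorem inv11 (g : S2 F) : (g⁻¹).1 1 1 = g.1 0 0 := by
  rw [Matrix.SpecialLinearGroup.SL2_inv_expl]; simp

theorem one00 : (1 : S2 F).1 0 0 = 1 := by simp
theorem one01 : (1 : S2 F).1 0 1 = 0 := by simp
theorem one10 : (1 : S2 F).1 1 0 = 0 := by simp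
theorem one11 : (1 : S2 F).1 1 1 = 1 := by simp

theorem ext2 {g h : S2 F} (h00 : g.1 0 0 = h.1 0 0) (h01 : g.1 0 1 = h.1 0 1)
    (h10 : g.1 1 0 = h.1 1 0) (h11 : g.1 1 1 = h.1 1 1) : g = h := by
  apply Matrix.SpecialLinearGroup.ext
  intro i j
  fin_cases i <;> fin_cases j <;> assumption

def mk2 (a b c d : F) (h : a * d - b * c = 1) : S2 F :=
  ⟨!![a, b; c, d], by rw [Matrix.det_fin_two_of]; exact h⟩

@[simp] theorem mk2_00 (a b c d : F) (h : a * d - b * c = 1) : (mk2 a b c d h).1 0 0 = a := rfl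
@[simp] theorem mk2_01 (a b c d : F) (h : a * d - b * c = 1) : (mk2 a b c d h).1 0 1 = b := rfl
@[simp] theorem mk2_10 (a b c d : F) (h : a * d - b * c = 1) : (mk2 a b c d h).1 1 0 = c := rfl
@[simp] theorem mk2_11 (a b c d : F) (h : a * d - b * c = 1) : (mk2 a b c d h).1 1 1 = d := rfl

/-- upper unitriangular -/
def xm (μ : F) : S2 F := mk2 1 μ 0 1 (by ring)
/-- lower unitriangular -/
def ym (ν : F) : S2 F := mk2 1 0 ν 1 (by ring)

@[simp] theorem xm_00 (μ : F) : (xm μ).1 0 0 = 1 := rfl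
@[simp] theorem xm_01 (μ : F) : (xm μ).1 0 1 = μ := rfl
@[simp] theorem xm_10 (μ : F) : (xm μ).1 1 0 = 0 := rfl
@[simp] theorem xm_11 (μ : F) : (xm μ).1 1 1 = 1 := rfl
@[simp] theorem ym_00 (μ : F) : (ym μ).1 0 0 = 1 := rfl
@[simp] theorem ym_01 (μ : F) : (ym μ).1 0 1 = 0 := rfl
@[simp] theorem ym_10 (μ : F) : (ym μ).1 1 0 = μ := rfl
@[simp] theorem ym_11 (μ : F) : (ym μ).1 1 1 = 1 := rfl

theorem neg00 (g : S2 F) : (-g).1 0 0 = - g.1 0 0 := by simp
theorem neg01 (g : S2 F) : (-g).1 0 1 = - g.1 0 1 := by simp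
theorem neg10 (g : S2 F) : (-g).1 1 0 = - g.1 1 0 := by simp
theorem neg11 (g : S2 F) : (-g).1 1 1 = - g.1 1 1 := by simp

/-- trace -/
def tr (g : S2 F) : F := g.1 0 0 + g.1 1 1

theorem comm_iff (g h : S2 F) : g * h = h * g ↔
    (g.1 0 1 * h.1 1 0 = h.1 0 1 * g.1 1 0 ∧
     (g.1 0 0 - g.1 1 1) * h.1 0 1 = (h.1 0 0 - h.1 1 1) * g.1 0 1 ∧
     (g.1 0 0 - g.1 1 1) * h.1 1 0 = (h.1 0 0 - h.1 1 1) * g.1 1 0) := by
  constructor
  · intro e
    have e00 := congrArg (fun m : S2 F => m.1 0 0) e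
    have e01 := congrArg (fun m : S2 F => m.1 0 1) e
    have e10 := congrArg (fun m : S2 F => m.1 1 0) e
    simp only [mul00, mul01, mul10] at e00 e01 e10
    refine ⟨by linear_combination e00, by linear_combination e01, by linear_combination -e10⟩
  · rintro ⟨h1, h2, h3⟩
    apply ext2
    · rw [mul00, mul00]; linear_combination h1
    · rw [mul01, mul01]; linear_combination h2
    · rw [mul10, mul10]; linear_combination -h3
    · rw [mul11, mul11]; linear_combination -h1


/-- scalar matrices (`±1`) -/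
def IsScal (g : S2 F) : Prop := g.1 0 1 = 0 ∧ g.1 1 0 = 0 ∧ g.1 0 0 = g.1 1 1

theorem isScal_one : IsScal (1 : S2 F) := ⟨by simp, by simp, by simp⟩

theorem isScal_neg_one : IsScal (-1 : S2 F) := ⟨by simp, by simp, by simp⟩

theorem isScal_sq {g : S2 F} (h : IsScal g) : g.1 0 0 * g.1 0 0 = 1 := by
  have := det_eq g
  rw [h.1, ← h.2.2] at this
  linear_combination this

theorem isScal_eq {g : S2 F} (h : IsScal g) : g = 1 ∨ g = -1 := by
  have h2 := isScal_sq h
  have h3 : (g.1 0 0 - 1) * (g.1 0 0 + 1) = 0 := by linear_combination h2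
  rcases mul_eq_zero.mp h3 with h4 | h4
  · left
    have ha : g.1 0 0 = 1 := by linear_combination h4
    apply ext2
    · rw [ha, one00]
    · rw [h.1, one01]
    · rw [h.2.1, one10]
    · rw [← h.2.2, ha, one11]
  · right
    have ha : g.1 0 0 = -1 := by linear_combination h4
    apply ext2
    · rw [ha, neg00, one00]
    · rw [h.1, neg01, one01, neg_zero]
    · rw [h.2.1, neg10, one10, neg_zero]
    · rw [← h.2.2, ha, neg11, one11]

theorem isScal_comm {g : S2 F} (h : IsScal g) (x : S2 F) : x * g = g * x := by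
  rw [comm_iff]
  refine ⟨?_, ?_, ?_⟩
  · rw [h.1, h.2.1]; ring
  · rw [h.1, h.2.2]; ring
  · rw [h.2.1, h.2.2]; ring

theorem isScal_mul {g h : S2 F} (hg : IsScal g) (hh : IsScal h) : IsScal (g * h) := by
  refine ⟨?_, ?_, ?_⟩
  · rw [mul01, hg.1, hh.1]; ring
  · rw [mul10, hg.2.1, hh.2.1]; ring
  · rw [mul00, mul11, hg.1, hg.2.1, hh.2.2, hg.2.2]; ring

theorem isScal_inv {g : S2 F} (hg : IsScal g) : IsScal g⁻¹ := by
  refine ⟨?_, ?_, ?_⟩
  · rw [inv01, hg.1]; ring
  · rw [inv10, hg.2.1]; ring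
  · rw [inv00, inv11, hg.2.2]

/-- the subgroup of scalar matrices -/
def Zs (F : Type*) [Field F] : Subgroup (S2 F) where
  carrier := {g | IsScal g}
  mul_mem' := fun hg hh => isScal_mul hg hh
  one_mem' := isScal_one
  inv_mem' := fun hg => isScal_inv hg

theorem mem_Zs {g : S2 F} : g ∈ Zs F ↔ IsScal g := Iff.rfl

/-- a matrix commuting with a non-scalar matrix is "parallel" to it -/
theorem par {g x : S2 F} (hg : ¬ IsScal g) (hc : g * x = x * g) :
    ∃ l : F, x.1 0 1 = l * g.1 0 1 ∧ x.1 1 0 = l * g.1 1 0 ∧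
      x.1 0 0 - x.1 1 1 = l * (g.1 0 0 - g.1 1 1) := by
  obtain ⟨h1, h2, h3⟩ := (comm_iff g x).mp hc
  by_cases hb : g.1 0 1 = 0
  · by_cases hc' : g.1 1 0 = 0
    · have hd : g.1 0 0 - g.1 1 1 ≠ 0 := by
        intro h
        exact hg ⟨hb, hc', by linear_combination h⟩
      refine ⟨(x.1 0 0 - x.1 1 1) / (g.1 0 0 - g.1 1 1), ?_, ?_, ?_⟩
      · rw [hb, mul_zero]
        rw [hb, mul_zero] at h2
        rcases mul_eq_zero.mp h2 with h | h
        · exact absurd h hd
        · exact h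
      · rw [hc', mul_zero]
        rw [hc', mul_zero] at h3
        rcases mul_eq_zero.mp h3 with h | h
        · exact absurd h hd
        · exact h
      · field_simp
    · refine ⟨x.1 1 0 / g.1 1 0, ?_, ?_, ?_⟩
      · rw [hb, mul_zero]
        rw [hb, zero_mul] at h1
        rcases mul_eq_zero.mp h1.symm with h | h
        · exact h
        · exact absurd h hc'
      · field_simp
      · field_simp
        linear_combination -h3
  · refine ⟨x.1 0 1 / g.1 0 1, ?_, ?_, ?_⟩
    · field_simp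
    · field_simp
      linear_combination h1
    · field_simp
      linear_combination -h2

theorem comm_trans {g x y : S2 F} (hg : ¬ IsScal g) (hx : g * x = x * g) (hy : g * y = y * g) :
    x * y = y * x := by
  obtain ⟨l, a1, a2, a3⟩ := par hg hx
  obtain ⟨m, b1, b2, b3⟩ := par hg hy
  rw [comm_iff]
  refine ⟨?_, ?_, ?_⟩
  · rw [a1, a2, b1, b2]; ring
  · rw [a1, a3, b1, b3]; ring
  · rw [a2, a3, b2, b3]; ring

/-- discriminant of the characteristic polynomial -/
def disc (g : S2 F) : F := (g.1 0 0 - g.1 1 1) ^ 2 + 4 * g.1 0 1 * g.1 1 0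

theorem disc_eq (g : S2 F) : disc g = (tr g) ^ 2 - 4 := by
  unfold disc tr
  linear_combination (-4 : F) * det_eq g

theorem disc_par {g x : S2 F} {l : F} (a1 : x.1 0 1 = l * g.1 0 1) (a2 : x.1 1 0 = l * g.1 1 0)
    (a3 : x.1 0 0 - x.1 1 1 = l * (g.1 0 0 - g.1 1 1)) : disc x = l ^ 2 * disc g := by
  unfold disc
  rw [a1, a2, a3]; ring

theorem disc_scal {g : S2 F} (h : IsScal g) : disc g = 0 := by
  unfold disc
  rw [h.1, h.2.1, h.2.2]; ring

theorem tr_mul_comm (g h : S2 F) : tr (g * h) = tr (h * g) := by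
  unfold tr
  rw [mul00, mul11, mul00, mul11]; ring

theorem tr_conj (g x : S2 F) : tr (g * x * g⁻¹) = tr x := by
  rw [tr_mul_comm, ← mul_assoc, inv_mul_cancel, one_mul]

theorem disc_conj (g x : S2 F) : disc (g * x * g⁻¹) = disc x := by
  rw [disc_eq, disc_eq, tr_conj]

theorem tr_inv (g : S2 F) : tr g⁻¹ = tr g := by
  unfold tr
  rw [inv00, inv11]; ring

theorem tr_one : tr (1 : S2 F) = 2 := by
  unfold tr
  rw [one00, one11]; norm_num

/-- powers of a unipotent matrix -/
theorem pow_unip (g : S2 F) (h : tr g = 2) (n : ℕ) :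
    (g ^ n).1 0 0 = 1 + n * (g.1 0 0 - 1) ∧ (g ^ n).1 0 1 = n * g.1 0 1 ∧
    (g ^ n).1 1 0 = n * g.1 1 0 ∧ (g ^ n).1 1 1 = 1 + n * (g.1 1 1 - 1) := by
  unfold tr at h
  have hd := det_eq g
  induction n with
  | zero => simp
  | succ n ih =>
    obtain ⟨i1, i2, i3, i4⟩ := ih
    rw [pow_succ]
    refine ⟨?_, ?_, ?_, ?_⟩
    · rw [mul00, i1, i2]; push_cast
      linear_combination (-(n : F)) * hd + (n : F) * g.1 0 0 * h
    · rw [mul01, i1, i2]; push_cast
      linear_combination (n : F) * g.1 0 1 * h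
    · rw [mul10, i3, i4]; push_cast
      linear_combination (n : F) * g.1 1 0 * h
    · rw [mul11, i3, i4]; push_cast
      linear_combination (-(n : F)) * hd + (n : F) * g.1 1 1 * h

theorem pow_p_unip (p : ℕ) [CharP F p] (g : S2 F) (h : tr g = 2) : g ^ p = 1 := by
  obtain ⟨i1, i2, i3, i4⟩ := pow_unip g h p
  have hp : ((p : ℕ) : F) = 0 := CharP.cast_eq_zero F p
  apply ext2
  · rw [i1, hp, one00]; ring
  · rw [i2, hp, one01]; ring
  · rw [i3, hp, one10]; ring
  · rw [i4, hp, one11]; ring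

theorem tr_neg (g : S2 F) : tr (-g) = - tr g := by
  unfold tr
  rw [neg00, neg11]; ring

theorem neg_eq_mul (g : S2 F) : -g = (-1 : S2 F) * g := by
  apply ext2
  · rw [neg00, mul00, neg00, neg01, one00, one01]; ring
  · rw [neg01, mul01, neg00, neg01, one00, one01]; ring
  · rw [neg10, mul10, neg10, neg11, one10, one11]; ring
  · rw [neg11, mul11, neg10, neg11, one10, one11]; ring

theorem neg_one_sq : (-1 : S2 F) * (-1 : S2 F) = 1 := by
  apply ext2
  · rw [mul00, neg00, neg01, neg10, one00, one01, one10]; ring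
  · rw [mul01, neg00, neg01, neg11, one00, one01, one11]; ring
  · rw [mul10, neg00, neg10, neg11, one00, one10, one11]; ring
  · rw [mul11, neg01, neg10, neg11, one01, one10, one11]; ring

/-- a matrix of `p`-power order in characteristic `p` has trace 2 -/
theorem tr_of_pow_eq_one (p : ℕ) [Fact p.Prime] [CharP F p] (g : S2 F) (k : ℕ)
    (h : g ^ (p ^ k) = 1) : tr g = 2 := by
  have h1 : (g.1 - 1) ^ (p ^ k) = 0 := by
    have hc : Commute g.1 (1 : Matrix (Fin 2) (Fin 2) F) := Commute.one_right _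
    rw [sub_pow_char_pow_of_commute _ _ hc]
    have h2 : g.1 ^ (p ^ k) = 1 := by
      have := congrArg (fun m : S2 F => m.1) h
      simpa using this
    rw [h2, one_pow, sub_self]
  have h3 : IsNilpotent (g.1 - 1) := ⟨p ^ k, h1⟩
  have h4 := Matrix.isNilpotent_trace_of_isNilpotent h3
  have h5 : Matrix.trace (g.1 - 1) = 0 := IsNilpotent.eq_zero h4
  rw [Matrix.trace_sub, Matrix.trace_fin_two, Matrix.trace_one] at h5
  unfold tr
  simp at h5
  linear_combination h5

/-- a conjugate of a semisimple `g` commuting with `g` is `g` or `g⁻¹` -/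
theorem conj_eq_or_inv (h2 : (2 : F) ≠ 0) {g h : S2 F} (hd : disc g ≠ 0) (hc : g * h = h * g)
    (ht : tr h = tr g) : h = g ∨ h = g⁻¹ := by
  have hns : ¬ IsScal g := fun hs => hd (disc_scal hs)
  obtain ⟨l, a1, a2, a3⟩ := par hns hc
  have e1 := disc_par a1 a2 a3
  rw [disc_eq h, ht, ← disc_eq g] at e1
  have e2 : (l - 1) * (l + 1) = 0 := by
    have : (l ^ 2 - 1) * disc g = 0 := by linear_combination -e1
    rcases mul_eq_zero.mp this with h' | h'
    · linear_combination h'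
    · exact absurd h' hd
  unfold tr at ht
  rcases mul_eq_zero.mp e2 with h' | h'
  · left
    have hl : l = 1 := by linear_combination h'
    rw [hl, one_mul] at a1 a2 a3
    have e00 : h.1 0 0 = g.1 0 0 := by
      have : (2 : F) * (h.1 0 0 - g.1 0 0) = 0 := by linear_combination ht + a3
      rcases mul_eq_zero.mp this with h'' | h''
      · exact absurd h'' h2
      · linear_combination h''
    apply ext2 e00 a1 a2
    linear_combination ht - e00
  · right
    have hl : l = -1 := by linear_combination h'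
    rw [hl] at a1 a2 a3
    have e00 : h.1 0 0 = g.1 1 1 := by
      have : (2 : F) * (h.1 0 0 - g.1 1 1) = 0 := by linear_combination ht + a3
      rcases mul_eq_zero.mp this with h'' | h''
      · exact absurd h'' h2
      · linear_combination h''
    apply ext2
    · rw [inv00]; exact e00
    · rw [inv01]; linear_combination a1
    · rw [inv10]; linear_combination a2
    · rw [inv11]; linear_combination ht - e00

end Cfsg.Agent.Helper5.SL2
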