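import Mathlib
set_option autoImplicit false
namespace Cfsg.Agent.Helper5.SL2

/-- centralizer of an element, with a convenient membership predicate -/
def cen {Γ : Type*} [Group Γ] (x : Γ) : Subgroup Γ where
  carrier := {t | t * x = x * t}
  mul_mem' := by
    intro a b ha hb
    show a * b * x = x * (a * b)
    have ha' : a * x = x * a := ha
    have hb' : b * x = x * b := hb
    rw [mul_assoc, hb', ← mul_assoc, ha', mul_assoc]
  one_mem' := by show (1 : Γ) * x = x * 1; rw [one_mul, mul_one]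
  inv_mem' := by
    intro a ha
    show a⁻¹ * x = x * a⁻¹
    have ha' : a * x = x * a := ha
    calc a⁻¹ * x = a⁻¹ * (x * a) * a⁻¹ := by group
      _ = a⁻¹ * (a * x) * a⁻¹ := by rw [ha']
      _ = x * a⁻¹ := by group

theorem card_eq_ncard {Γ : Type*} [Group Γ] (H : Subgroup Γ) : Nat.card H = (H : Set Γ).ncard :=
  Nat.card_coe_set_eq (H : Set Γ)

theorem mem_cen {Γ : Type*} [Group Γ] {x t : Γ} : t ∈ cen x ↔ t * x = x * t := Iff.rfl

theorem self_mem_cen {Γ : Type*} [Group Γ] (x : Γ) : x ∈ cen x := rfl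

theorem mem_cen_conj {Γ : Type*} [Group Γ] (g x t : Γ) :
    t ∈ cen (g * x * g⁻¹) ↔ g⁻¹ * t * g ∈ cen x := by
  rw [mem_cen, mem_cen]
  constructor
  · intro h
    calc g⁻¹ * t * g * x = g⁻¹ * (t * (g * x * g⁻¹)) * g := by group
      _ = g⁻¹ * ((g * x * g⁻¹) * t) * g := by rw [h]
      _ = x * (g⁻¹ * t * g) := by group
  · intro h
    calc t * (g * x * g⁻¹) = g * (g⁻¹ * t * g * x) * g⁻¹ := by group
      _ = g * (x * (g⁻¹ * t * g)) * g⁻¹ := by rw [h]
      _ = g * x * g⁻¹ * t := by group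

theorem cen_conj_eq_map {Γ : Type*} [Group Γ] (g x : Γ) :
    cen (g * x * g⁻¹) = (cen x).map (MulAut.conj g).toMonoidHom := by
  ext t
  rw [mem_cen_conj, Subgroup.mem_map]
  constructor
  · intro h
    refine ⟨g⁻¹ * t * g, h, ?_⟩
    simp [MulAut.conj_apply]
    group
  · rintro ⟨s, hs, rfl⟩
    simp only [MulEquiv.coe_toMonoidHom, MulAut.conj_apply]
    have : g⁻¹ * (g * s * g⁻¹) * g = s := by group
    rw [this]; exact hs

theorem card_cen_conj {Γ : Type*} [Group Γ] (g x : Γ) :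
    Nat.card (cen (g * x * g⁻¹)) = Nat.card (cen x) := by
  rw [cen_conj_eq_map]
  exact Subgroup.card_map_of_injective (MulAut.conj g).injective

/-- the class of `x`: noncentral elements whose centralizer is conjugate to that of `x` -/
def Scl {Γ : Type*} [Group Γ] (Z : Subgroup Γ) (x : Γ) : Set Γ :=
  {y | y ∉ Z ∧ ∃ g : Γ, cen y = cen (g * x * g⁻¹)}

theorem self_mem_Scl {Γ : Type*} [Group Γ] (Z : Subgroup Γ) {x : Γ} (hx : x ∉ Z) :
    x ∈ Scl Z x := ⟨hx, 1, by simp⟩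

theorem Scl_subset {Γ : Type*} [Group Γ] (Z : Subgroup Γ) (x : Γ) :
    Scl Z x ⊆ {y | y ∉ Z} := fun _ hy => hy.1

theorem cen_conj_congr {Γ : Type*} [Group Γ] {x y : Γ} (g : Γ) (h : cen x = cen y) :
    cen (g * x * g⁻¹) = cen (g * y * g⁻¹) := by
  rw [cen_conj_eq_map, cen_conj_eq_map, h]

theorem Scl_disjoint {Γ : Type*} [Group Γ] (Z : Subgroup Γ) {x y : Γ} (hy : y ∉ Z)
    (hyx : y ∉ Scl Z x) : Disjoint (Scl Z y) (Scl Z x) := by
  rw [Set.disjoint_left]
  rintro w ⟨_, g, hg⟩ ⟨_, g', hg'⟩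
  apply hyx
  refine ⟨hy, g⁻¹ * g', ?_⟩
  have h1 : cen (g * y * g⁻¹) = cen (g' * x * g'⁻¹) := by rw [← hg, hg']
  have h2 := cen_conj_congr g⁻¹ h1
  have e1 : g⁻¹ * (g * y * g⁻¹) * g⁻¹⁻¹ = y := by group
  have e2 : g⁻¹ * (g' * x * g'⁻¹) * g⁻¹⁻¹ = g⁻¹ * g' * x * (g⁻¹ * g')⁻¹ := by group
  rw [e1, e2] at h2
  exact h2

theorem card_cen_of_mem_Scl {Γ : Type*} [Group Γ] (Z : Subgroup Γ) {x y : Γ} (hy : y ∈ Scl Z x) :
    Nat.card (cen y) = Nat.card (cen x) := by
  obtain ⟨_, g, hg⟩ := hy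
  rw [hg, card_cen_conj]

theorem sum_ite_eq_ncard {Γ : Type*} [Fintype Γ] (P : Γ → Prop) [DecidablePred P] :
    (∑ y : Γ, (if P y then 1 else 0)) = Set.ncard {y | P y} := by
  rw [Finset.sum_boole]
  rw [Set.ncard_eq_toFinset_card']
  simp

/-- the class equation for a class of centralizers -/
theorem class_count {Γ : Type*} [Group Γ] [Finite Γ] (Z : Subgroup Γ)
    (hZ : ∀ z ∈ Z, ∀ g : Γ, g * z = z * g)
    (hCT : ∀ x : Γ, x ∉ Z → ∀ y : Γ, y * x = x * y → y ∉ Z → cen y = cen x)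
    (x : Γ) (hx : x ∉ Z) :
    (Scl Z x).ncard * Nat.card (Subgroup.normalizer ((cen x : Subgroup Γ) : Set Γ)) =
      Nat.card Γ * (Nat.card (cen x) - Nat.card Z) := by
  classical
  haveI := Fintype.ofFinite Γ
  have hZn : ∀ g : Γ, g * x * g⁻¹ ∉ Z := by
    intro g hg
    apply hx
    have h2 := hZ _ hg g
    have h3 : x = g * x * g⁻¹ := by
      calc x = g⁻¹ * ((g * x * g⁻¹) * g) := by group
        _ = g⁻¹ * (g * (g * x * g⁻¹)) := by rw [h2]
        _ = g * x * g⁻¹ := by group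
    rw [h3]; exact hg
  have hZle : ∀ y : Γ, (Z : Set Γ) ⊆ (cen y : Set Γ) := by
    intro y z hz
    exact (hZ z hz y).symm
  -- inner sum over y
  have L : ∀ g : Γ, (∑ y : Γ, (if (y ∉ Z ∧ cen y = cen (g * x * g⁻¹)) then 1 else 0)) =
      Nat.card (cen x) - Nat.card Z := by
    intro g
    rw [sum_ite_eq_ncard]
    have hset : {y : Γ | y ∉ Z ∧ cen y = cen (g * x * g⁻¹)} =
        (cen (g * x * g⁻¹) : Set Γ) \ (Z : Set Γ) := by
      ext y
      simp only [Set.mem_ofPred_eq, Set.mem_sdiff, SetLike.mem_coe]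
      constructor
      · rintro ⟨h1, h2⟩
        exact ⟨h2 ▸ self_mem_cen y, h1⟩
      · rintro ⟨h1, h2⟩
        exact ⟨h2, hCT _ (hZn g) y h1 h2⟩
    rw [hset, Set.ncard_sdiff (hZle _) (Set.toFinite _)]
    rw [← Nat.card_coe_set_eq, ← Nat.card_coe_set_eq]
    congr 1
    exact card_cen_conj g x
  -- inner sum over g
  have R : ∀ y : Γ, (∑ g : Γ, (if (y ∉ Z ∧ cen y = cen (g * x * g⁻¹)) then 1 else 0)) =
      if y ∈ Scl Z x then Nat.card (Subgroup.normalizer ((cen x : Subgroup Γ) : Set Γ)) else 0 := by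
    intro y
    by_cases hy : y ∈ Scl Z x
    · rw [if_pos hy, sum_ite_eq_ncard]
      obtain ⟨hyZ, g₀, hg₀⟩ := hy
      have hset : {g : Γ | y ∉ Z ∧ cen y = cen (g * x * g⁻¹)} =
          (fun n => g₀ * n) '' ((Subgroup.normalizer ((cen x : Subgroup Γ) : Set Γ) : Subgroup Γ) : Set Γ) := by
        ext g
        simp only [Set.mem_ofPred_eq, Set.mem_image, SetLike.mem_coe]
        constructor
        · rintro ⟨_, h2⟩
          refine ⟨g₀⁻¹ * g, ?_, by group⟩
          rw [Subgroup.mem_normalizer_iff]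
          intro t
          have h3 : cen (g₀ * x * g₀⁻¹) = cen (g * x * g⁻¹) := by rw [← hg₀, h2]
          have h4 := SetLike.ext_iff.mp h3 (g * t * g⁻¹)
          rw [mem_cen_conj, mem_cen_conj] at h4
          have e1 : g⁻¹ * (g * t * g⁻¹) * g = t := by group
          have e2 : g₀⁻¹ * (g * t * g⁻¹) * g₀ = g₀⁻¹ * g * t * (g₀⁻¹ * g)⁻¹ := by group
          rw [e1, e2] at h4
          exact h4.symm
        · rintro ⟨n, hn, rfl⟩
          refine ⟨hyZ, ?_⟩
          rw [hg₀]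
          ext t
          rw [mem_cen_conj, mem_cen_conj]
          rw [Subgroup.mem_normalizer_iff] at hn
          have h5 := hn ((g₀ * n)⁻¹ * t * (g₀ * n))
          have e3 : n * ((g₀ * n)⁻¹ * t * (g₀ * n)) * n⁻¹ = g₀⁻¹ * t * g₀ := by group
          rw [e3] at h5
          exact h5.symm
      rw [hset, Set.ncard_image_of_injective _ (mul_right_injective g₀), ← Nat.card_coe_set_eq]
      rfl
    · rw [if_neg hy]
      apply Finset.sum_eq_zero
      intro g _
      rw [if_neg]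
      rintro ⟨h1, h2⟩
      exact hy ⟨h1, g, h2⟩
  have key := Finset.sum_comm (s := (Finset.univ : Finset Γ)) (t := (Finset.univ : Finset Γ))
    (f := fun g y => (if (y ∉ Z ∧ cen y = cen (g * x * g⁻¹)) then 1 else 0 : ℕ))
  simp only [L, R] at key
  rw [Finset.sum_const, Finset.card_univ, smul_eq_mul, ← Finset.sum_filter, Finset.sum_const,
    smul_eq_mul] at key
  rw [Nat.card_eq_fintype_card (α := Γ), key]
  congr 1
  rw [Set.ncard_eq_toFinset_card']
  congr 1
  ext y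
  simp

end Cfsg.Agent.Helper5.SL2
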