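import Cfsg.Agent.Helper5.SL2A
import Cfsg.Agent.Helper5.SL2B
set_option autoImplicit false
namespace Cfsg.Agent.Helper5.SL2
open Matrix

variable {F : Type*} [Field F]

/-- upper triangular matrices -/
def BT (F : Type*) [Field F] : Subgroup (S2 F) where
  carrier := {g | g.1 1 0 = 0}
  mul_mem' := by
    intro g h hg hh
    show (g * h).1 1 0 = 0
    have hg' : g.1 1 0 = 0 := hg
    have hh' : h.1 1 0 = 0 := hh
    rw [mul10, hg', hh']; ring
  one_mem' := one10
  inv_mem' := by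
    intro g hg
    show (g⁻¹).1 1 0 = 0
    have hg' : g.1 1 0 = 0 := hg
    rw [inv10, hg']; ring

theorem mem_BT {g : S2 F} : g ∈ BT F ↔ g.1 1 0 = 0 := Iff.rfl

theorem diag_of_BT {g : S2 F} (hg : g.1 1 0 = 0) : g.1 0 0 * g.1 1 1 = 1 := by
  have := det_eq g
  rw [hg] at this
  linear_combination this

/-- upper unitriangular matrices -/
def UT (F : Type*) [Field F] : Subgroup (S2 F) where
  carrier := {g | g.1 1 0 = 0 ∧ g.1 0 0 = 1}
  mul_mem' := by
    rintro g h ⟨hg1, hg2⟩ ⟨hh1, hh2⟩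
    refine ⟨?_, ?_⟩
    · rw [mul10, hg1, hh1]; ring
    · rw [mul00, hg2, hh1, hh2]; ring
  one_mem' := ⟨one10, one00⟩
  inv_mem' := by
    rintro g ⟨hg1, hg2⟩
    refine ⟨?_, ?_⟩
    · rw [inv10, hg1]; ring
    · rw [inv00]
      have := diag_of_BT hg1
      rw [hg2, one_mul] at this
      exact this

theorem mem_UT {g : S2 F} : g ∈ UT F ↔ g.1 1 0 = 0 ∧ g.1 0 0 = 1 := Iff.rfl

theorem UT_11 {g : S2 F} (hg : g ∈ UT F) : g.1 1 1 = 1 := by
  have := diag_of_BT hg.1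
  rw [hg.2, one_mul] at this
  exact this

theorem UT_eq_xm {g : S2 F} (hg : g ∈ UT F) : g = xm (g.1 0 1) := by
  apply ext2
  · rw [hg.2]; rfl
  · rfl
  · rw [hg.1]; rfl
  · rw [UT_11 hg]; rfl

theorem xm_mem_UT (μ : F) : xm μ ∈ UT F := ⟨rfl, rfl⟩

theorem tr_xm (μ : F) : tr (xm μ) = 2 := by
  unfold tr; rw [xm_00, xm_11]; norm_num

theorem tr_ym (μ : F) : tr (ym μ) = 2 := by
  unfold tr; rw [ym_00, ym_11]; norm_num

theorem tr_of_UT {g : S2 F} (hg : g ∈ UT F) : tr g = 2 := by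
  unfold tr; rw [hg.2, UT_11 hg]; norm_num

theorem xm_add (μ ν : F) : xm μ * xm ν = xm (μ + ν) := by
  apply ext2
  · rw [mul00]; simp
  · rw [mul01]; simp [add_comm]
  · rw [mul10]; simp
  · rw [mul11]; simp

theorem xm_zero : xm (0 : F) = 1 := by
  apply ext2
  · rw [one00]; rfl
  · rw [one01]; rfl
  · rw [one10]; rfl
  · rw [one11]; rfl

theorem xm_inv (μ : F) : (xm μ)⁻¹ = xm (-μ) := by
  rw [inv_eq_iff_mul_eq_one, xm_add, add_neg_cancel, xm_zero]

theorem xm_inj {μ ν : F} (h : xm μ = xm ν) : μ = ν := by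
  have := congrArg (fun g : S2 F => g.1 0 1) h
  simpa using this

theorem ym_add (μ ν : F) : ym μ * ym ν = ym (μ + ν) := by
  apply ext2
  · rw [mul00]; simp
  · rw [mul01]; simp
  · rw [mul10]; simp
  · rw [mul11]; simp

/-- `± UT`: the centralizer of a nontrivial upper unitriangular matrix -/
def PUT (F : Type*) [Field F] : Subgroup (S2 F) where
  carrier := {g | g.1 1 0 = 0 ∧ g.1 0 0 = g.1 1 1}
  mul_mem' := by
    rintro g h ⟨hg1, hg2⟩ ⟨hh1, hh2⟩
    refine ⟨?_, ?_⟩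
    · rw [mul10, hg1, hh1]; ring
    · rw [mul00, mul11, hg1, hh1, hg2, hh2]; ring
  one_mem' := ⟨one10, by rw [one00, one11]⟩
  inv_mem' := by
    rintro g ⟨hg1, hg2⟩
    refine ⟨?_, ?_⟩
    · rw [inv10, hg1]; ring
    · rw [inv00, inv11, hg2]

theorem mem_PUT {g : S2 F} : g ∈ PUT F ↔ g.1 1 0 = 0 ∧ g.1 0 0 = g.1 1 1 := Iff.rfl

theorem comm_xm_iff {μ : F} (hμ : μ ≠ 0) (g : S2 F) : g * xm μ = xm μ * g ↔ g ∈ PUT F := by
  rw [comm_iff, mem_PUT]
  simp only [xm_00, xm_01, xm_10, xm_11]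
  constructor
  · rintro ⟨h1, h2, _⟩
    have e1 : g.1 1 0 = 0 := by
      have : μ * g.1 1 0 = 0 := by linear_combination -h1
      rcases mul_eq_zero.mp this with h | h
      · exact absurd h hμ
      · exact h
    refine ⟨e1, ?_⟩
    have : (g.1 0 0 - g.1 1 1) * μ = 0 := by linear_combination h2
    rcases mul_eq_zero.mp this with h | h
    · linear_combination h
    · exact absurd h hμ
  · rintro ⟨h1, h2⟩
    refine ⟨?_, ?_, ?_⟩
    · rw [h1]; ring
    · rw [h2]; ring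
    · rw [h1]; ring

theorem not_isScal_xm {μ : F} (hμ : μ ≠ 0) : ¬ IsScal (xm μ) := fun h => hμ h.1

theorem not_isScal_of_disc {g : S2 F} (h : disc g ≠ 0) : ¬ IsScal g := fun hs => h (disc_scal hs)

theorem disc_of_PUT {g : S2 F} (h : g ∈ PUT F) : disc g = 0 := by
  unfold disc
  rw [h.1, h.2]; ring

/-- the lower-left entry of a conjugate of `xm μ` -/
theorem conj_xm_10 (g : S2 F) (μ : F) : (g * xm μ * g⁻¹).1 1 0 = - μ * g.1 1 0 ^ 2 := by
  rw [mul10, mul10, mul11, inv00, inv10]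
  simp only [xm_00, xm_01, xm_10, xm_11]
  ring

theorem conj_BT_xm {g : S2 F} (hg : g.1 1 0 = 0) (μ : F) :
    g * xm μ * g⁻¹ = xm (g.1 0 0 ^ 2 * μ) := by
  have hd := diag_of_BT hg
  apply ext2
  · rw [mul00, mul00, mul01, inv00, inv10, hg]
    simp only [xm_00, xm_01, xm_10, xm_11]
    linear_combination hd
  · rw [mul01, mul00, mul01, inv01, inv11]
    simp only [xm_00, xm_01, xm_10, xm_11]
    ring
  · rw [mul10, mul10, mul11, inv00, inv10, hg]
    simp only [xm_00, xm_01, xm_10, xm_11]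
    ring
  · rw [mul11, mul10, mul11, inv01, inv11, hg]
    simp only [xm_00, xm_01, xm_10, xm_11]
    linear_combination hd

/-- `BT` normalizes `PUT` -/
theorem conj_BT_PUT {g t : S2 F} (hg : g ∈ BT F) (ht : t ∈ PUT F) : g * t * g⁻¹ ∈ PUT F := by
  have hg' : g.1 1 0 = 0 := hg
  have hd := diag_of_BT hg'
  obtain ⟨t1, t2⟩ := ht
  refine ⟨?_, ?_⟩
  · rw [mul10, mul10, mul11, inv00, inv10, hg', t1]; ring
  · rw [mul00, mul00, mul01, inv00, inv10, mul11, mul10, mul11, inv01, inv11, hg', t1, t2]; ring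


section std

variable (G : Subgroup (S2 F))

/-- scalars in `G` -/
def ZG : Subgroup ↥G := (Zs F).subgroupOf G
/-- upper triangular elements of `G` -/
def BTG : Subgroup ↥G := (BT F).subgroupOf G
/-- upper unitriangular elements of `G` -/
def UTG : Subgroup ↥G := (UT F).subgroupOf G
/-- `±` upper unitriangular elements of `G` -/
def PUTG : Subgroup ↥G := (PUT F).subgroupOf G

variable {G}

theorem mem_ZG {g : ↥G} : g ∈ ZG G ↔ IsScal g.1 := Iff.rfl
theorem mem_BTG {g : ↥G} : g ∈ BTG G ↔ g.1.1 1 0 = 0 := Iff.rfl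
theorem mem_UTG {g : ↥G} : g ∈ UTG G ↔ g.1.1 1 0 = 0 ∧ g.1.1 0 0 = 1 := Iff.rfl
theorem mem_PUTG {g : ↥G} : g ∈ PUTG G ↔ g.1.1 1 0 = 0 ∧ g.1.1 0 0 = g.1.1 1 1 := Iff.rfl

theorem coe_comm (x t : ↥G) : t * x = x * t ↔ t.1 * x.1 = x.1 * t.1 := by
  rw [Subtype.ext_iff]; rfl

theorem hZ_G : ∀ z ∈ ZG G, ∀ g : ↥G, g * z = z * g := by
  intro z hz g
  rw [coe_comm]
  exact isScal_comm hz g.1

theorem hCT_G : ∀ x : ↥G, x ∉ ZG G → ∀ y : ↥G, y * x = x * y → y ∉ ZG G → cen y = cen x := by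
  intro x hx y hyx hy
  have hx' : ¬ IsScal x.1 := hx
  have hy' : ¬ IsScal y.1 := hy
  have hyx' : y.1 * x.1 = x.1 * y.1 := (coe_comm x y).mp hyx
  ext t
  rw [mem_cen, mem_cen, coe_comm, coe_comm]
  constructor
  · intro h
    exact comm_trans hy' h.symm hyx'
  · intro h
    exact comm_trans hx' h.symm hyx'.symm

theorem one_ne_neg_one (h2 : (2 : F) ≠ 0) : (1 : S2 F) ≠ -1 := by
  intro h
  have := congrArg (fun g : S2 F => g.1 0 0) h
  simp only [one00, neg00] at this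
  apply h2
  linear_combination this

theorem card_ZG (h2 : (2 : F) ≠ 0) (hneg : (-1 : S2 F) ∈ G) : Nat.card (ZG G) = 2 := by
  rw [card_eq_ncard]
  have hset : ((ZG G : Subgroup ↥G) : Set ↥G) = {(1 : ↥G), ⟨-1, hneg⟩} := by
    ext g
    simp only [SetLike.mem_coe, Set.mem_insert_iff, Set.mem_singleton_iff]
    constructor
    · intro hg
      rcases isScal_eq (mem_ZG.mp hg) with h | h
      · left; exact Subtype.ext h
      · right; exact Subtype.ext h
    · rintro (h | h)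
      · rw [h]; exact Subgroup.one_mem _
      · rw [h]; exact isScal_neg_one
  rw [hset, Set.ncard_pair]
  intro h
  exact one_ne_neg_one h2 (congrArg Subtype.val h)

theorem cen_xmG {μ : F} (hμ : μ ≠ 0) (hx : xm μ ∈ G) : cen (⟨xm μ, hx⟩ : ↥G) = PUTG G := by
  ext t
  rw [mem_cen, coe_comm]
  exact comm_xm_iff hμ t.1

theorem normalizer_PUTG {μ : F} (hμ : μ ≠ 0) (hx : xm μ ∈ G) :
    Subgroup.normalizer ((PUTG G : Subgroup ↥G) : Set ↥G) = BTG G := by
  ext g
  rw [Subgroup.mem_normalizer_iff]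
  constructor
  · intro h
    have h1 : (⟨xm μ, hx⟩ : ↥G) ∈ PUTG G := ⟨rfl, rfl⟩
    have h2 := (h _).mp h1
    have h3 : (g.1 * xm μ * g.1⁻¹).1 1 0 = 0 := h2.1
    rw [conj_xm_10] at h3
    rw [mem_BTG]
    have : μ * g.1.1 1 0 ^ 2 = 0 := by linear_combination -h3
    rcases mul_eq_zero.mp this with h' | h'
    · exact absurd h' hμ
    · exact pow_eq_zero_iff (two_ne_zero) |>.mp h'
  · intro hg t
    constructor
    · intro ht
      exact conj_BT_PUT hg ht
    · intro ht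
      have h1 : g⁻¹ ∈ BTG G := (BTG G).inv_mem hg
      have h2 : (g⁻¹ * (g * t * g⁻¹) * g⁻¹⁻¹ : ↥G) ∈ PUTG G := conj_BT_PUT h1 ht
      have e : g⁻¹ * (g * t * g⁻¹) * g⁻¹⁻¹ = t := by group
      rw [e] at h2
      exact h2

theorem UTG_le_PUTG : UTG G ≤ PUTG G := by
  intro g hg
  obtain ⟨h1, h2⟩ := mem_UTG.mp hg
  exact mem_PUTG.mpr ⟨h1, by rw [h2, UT_11 (⟨h1, h2⟩ : g.1 ∈ UT F)]⟩

theorem card_PUTG [Finite G] (h2 : (2 : F) ≠ 0) (hneg : (-1 : S2 F) ∈ G) :
    Nat.card (PUTG G) = 2 * Nat.card (UTG G) := by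
  rw [card_eq_ncard, card_eq_ncard]
  set ng : ↥G := ⟨-1, hneg⟩ with hng
  have hset : ((PUTG G : Subgroup ↥G) : Set ↥G) =
      ((UTG G : Subgroup ↥G) : Set ↥G) ∪ (fun g => ng * g) '' ((UTG G : Subgroup ↥G) : Set ↥G) := by
    ext g
    simp only [SetLike.mem_coe, Set.mem_union, Set.mem_image]
    constructor
    · intro hg
      obtain ⟨hg1, hg2⟩ := mem_PUTG.mp hg
      have hd := diag_of_BT hg1
      rw [← hg2] at hd
      have h3 : (g.1.1 0 0 - 1) * (g.1.1 0 0 + 1) = 0 := by linear_combination hd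
      rcases mul_eq_zero.mp h3 with h4 | h4
      · left
        exact mem_UTG.mpr ⟨hg1, by linear_combination h4⟩
      · right
        refine ⟨ng * g, mem_UTG.mpr ⟨?_, ?_⟩, ?_⟩
        · show ((-1 : S2 F) * g.1).1 1 0 = 0
          rw [← neg_eq_mul, neg10, hg1]; ring
        · show ((-1 : S2 F) * g.1).1 0 0 = 1
          rw [← neg_eq_mul, neg00]; linear_combination -h4
        · rw [← mul_assoc]
          have : ng * ng = 1 := Subtype.ext neg_one_sq
          rw [this, one_mul]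
    · rintro (hg | ⟨h, hh, rfl⟩)
      · exact UTG_le_PUTG hg
      · obtain ⟨hh1, hh2⟩ := mem_UTG.mp hh
        refine mem_PUTG.mpr ⟨?_, ?_⟩
        · show ((-1 : S2 F) * h.1).1 1 0 = 0
          rw [← neg_eq_mul, neg10, hh1]; ring
        · show ((-1 : S2 F) * h.1).1 0 0 = ((-1 : S2 F) * h.1).1 1 1
          rw [← neg_eq_mul, neg00, neg11, hh2, UT_11 (⟨hh1, hh2⟩ : h.1 ∈ UT F)]
  have hdis : Disjoint ((UTG G : Subgroup ↥G) : Set ↥G)
      ((fun g => ng * g) '' ((UTG G : Subgroup ↥G) : Set ↥G)) := by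
    rw [Set.disjoint_left]
    rintro g hg ⟨h, hh, rfl⟩
    obtain ⟨hh1, hh2⟩ := mem_UTG.mp hh
    have e1 : ((-1 : S2 F) * h.1).1 0 0 = 1 := (mem_UTG.mp hg).2
    rw [← neg_eq_mul, neg00, hh2] at e1
    apply h2
    linear_combination -e1
  rw [hset, Set.ncard_union_eq hdis (Set.toFinite _) (Set.toFinite _),
    Set.ncard_image_of_injective _ (mul_right_injective ng)]
  ring

end std


/-- the diagonal character of the upper triangular group -/
def chi (F : Type*) [Field F] : ↥(BT F) →* Fˣ where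
  toFun g := Units.mk0 (g.1.1 0 0) (by
    intro h
    have := diag_of_BT (mem_BT.mp g.2)
    rw [h, zero_mul] at this
    exact zero_ne_one this)
  map_one' := by
    apply Units.ext
    show (1 : S2 F).1 0 0 = 1
    exact one00
  map_mul' := by
    intro g h
    apply Units.ext
    show (g.1 * h.1).1 0 0 = g.1.1 0 0 * h.1.1 0 0
    rw [mul00, mem_BT.mp h.2]; ring

section std2

variable (G : Subgroup (S2 F))

/-- the diagonal character on `BTG` -/
def chiG : ↥(BTG G) →* Fˣ := (chi F).comp (G.subtype.subgroupComap (BT F))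

/-- the group of diagonal entries of upper triangular elements of `G` -/
def T0 : Subgroup Fˣ := (chiG G).range

/-- parameters of the upper unitriangular elements of `G` -/
def Uset : Set F := {μ | xm μ ∈ G}

variable {G}

theorem finite_T0 [Finite G] : Finite ↥(T0 G) := by
  have : ((T0 G : Subgroup Fˣ) : Set Fˣ).Finite := by
    unfold T0
    rw [MonoidHom.coe_range]
    exact Set.finite_range _
  exact Set.finite_coe_iff.mpr this

theorem chiG_apply (b : ↥(BTG G)) : ((chiG G b : Fˣ) : F) = b.1.1.1 0 0 := rfl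

theorem UTG_le_BTG : UTG G ≤ BTG G := fun _ hg => mem_BTG.mpr (mem_UTG.mp hg).1

theorem ker_chiG : (chiG G).ker = (UTG G).subgroupOf (BTG G) := by
  ext b
  rw [MonoidHom.mem_ker, Subgroup.mem_subgroupOf, mem_UTG]
  constructor
  · intro h
    refine ⟨mem_BTG.mp b.2, ?_⟩
    rw [← chiG_apply, h]; rfl
  · rintro ⟨_, h⟩
    apply Units.ext
    rw [chiG_apply, h]; rfl

theorem card_BTG [Finite G] : Nat.card (BTG G) = Nat.card (UTG G) * Nat.card (T0 G) := by
  rw [← Subgroup.card_mul_index (chiG G).ker, Subgroup.index_ker, ker_chiG]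
  congr 1
  exact Nat.card_congr (Subgroup.subgroupOfEquivOfLe UTG_le_BTG).toEquiv

theorem ncard_Uset [Finite G] : (Uset G).ncard = Nat.card (UTG G) := by
  rw [card_eq_ncard]
  have hset : Uset G = (fun g : ↥G => g.1.1 0 1) '' ((UTG G : Subgroup ↥G) : Set ↥G) := by
    ext μ
    simp only [Uset, Set.mem_ofPred_eq, Set.mem_image, SetLike.mem_coe]
    constructor
    · intro h
      exact ⟨⟨xm μ, h⟩, mem_UTG.mpr ⟨rfl, rfl⟩, rfl⟩
    · rintro ⟨g, hg, rfl⟩
      have : g.1 = xm (g.1.1 0 1) := UT_eq_xm (mem_UTG.mp hg)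
      show xm (g.1.1 0 1) ∈ G
      rw [← this]; exact g.2
  rw [hset]
  apply Set.InjOn.ncard_image
  intro g hg h hh e
  simp only at e
  have e1 : g.1 = xm (g.1.1 0 1) := UT_eq_xm (mem_UTG.mp hg)
  have e2 : h.1 = xm (h.1.1 0 1) := UT_eq_xm (mem_UTG.mp hh)
  apply Subtype.ext
  rw [e1, e2]
  exact congrArg xm e

theorem Uset_finite [Finite G] : (Uset G).Finite := by
  have hset : Uset G ⊆ (fun g : ↥G => g.1.1 0 1) '' (Set.univ : Set ↥G) := by
    intro μ h
    exact ⟨⟨xm μ, h⟩, Set.mem_univ _, rfl⟩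
  exact (Set.toFinite _).subset hset

theorem Uset_add {μ ν : F} (h1 : μ ∈ Uset G) (h2 : ν ∈ Uset G) : μ + ν ∈ Uset G := by
  show xm (μ + ν) ∈ G
  rw [← xm_add]; exact G.mul_mem h1 h2

theorem Uset_neg {μ : F} (h1 : μ ∈ Uset G) : -μ ∈ Uset G := by
  show xm (-μ) ∈ G
  rw [← xm_inv]; exact G.inv_mem h1

theorem Uset_zero : (0 : F) ∈ Uset G := by
  show xm 0 ∈ G
  rw [xm_zero]; exact G.one_mem

/-- the torus acts on the unipotent radical: `|T0| ≤ 2 (|U| - 1)` -/
theorem card_T0_le [Finite G] {μ₀ : F} (hμ : μ₀ ≠ 0) (hx : xm μ₀ ∈ G) :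
    Nat.card (T0 G) ≤ 2 * (Nat.card (UTG G) - 1) := by
  classical
  haveI : Finite ↥(T0 G) := finite_T0
  haveI := Fintype.ofFinite ↥(T0 G)
  rw [← ncard_Uset]
  have hfin : (Uset G \ {0}).Finite := Uset_finite.subset Set.sdiff_subset
  have hcard : (Uset G \ {0}).ncard = (Uset G).ncard - 1 := by
    rw [Set.ncard_sdiff (by simpa using Uset_zero) (Set.finite_singleton _), Set.ncard_singleton]
  rw [← hcard, Set.ncard_eq_toFinset_card _ hfin, Nat.card_eq_fintype_card, ← Finset.card_univ]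
  apply Finset.card_le_mul_card_image_of_maps_to (f := fun τ : ↥(T0 G) => ((τ.1 : Fˣ) : F) ^ 2 * μ₀)
  · intro τ _
    rw [Set.Finite.mem_toFinset]
    obtain ⟨b, hb⟩ := τ.2
    refine ⟨?_, ?_⟩
    · show xm (((τ.1 : Fˣ) : F) ^ 2 * μ₀) ∈ G
      have h1 : b.1.1 * xm μ₀ * b.1.1⁻¹ ∈ G := G.mul_mem (G.mul_mem b.1.2 hx) (G.inv_mem b.1.2)
      rw [conj_BT_xm (mem_BTG.mp b.2), ← chiG_apply, hb] at h1
      exact h1
    · simp only [Set.mem_singleton_iff]
      exact mul_ne_zero (pow_ne_zero _ (Units.ne_zero _)) hμ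
  · intro c _
    by_cases hne : (Finset.univ.filter fun τ : ↥(T0 G) => ((τ.1 : Fˣ) : F) ^ 2 * μ₀ = c).Nonempty
    · obtain ⟨τ₁, h₁⟩ := hne
      rw [Finset.mem_filter] at h₁
      have hsub : ∀ τ ∈ (Finset.univ.filter fun τ : ↥(T0 G) => ((τ.1 : Fˣ) : F) ^ 2 * μ₀ = c),
          ((τ.1 : Fˣ) : F) ∈ ({((τ₁.1 : Fˣ) : F), -((τ₁.1 : Fˣ) : F)} : Finset F) := by
        intro τ hτ
        rw [Finset.mem_filter] at hτ
        have e : ((τ.1 : Fˣ) : F) ^ 2 = ((τ₁.1 : Fˣ) : F) ^ 2 := by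
          have := hτ.2.trans h₁.2.symm
          exact mul_right_cancel₀ hμ this
        rw [Finset.mem_insert, Finset.mem_singleton]
        have e2 : (((τ.1 : Fˣ) : F) - ((τ₁.1 : Fˣ) : F)) * (((τ.1 : Fˣ) : F) + ((τ₁.1 : Fˣ) : F)) = 0 := by
          linear_combination e
        rcases mul_eq_zero.mp e2 with h | h
        · left; linear_combination h
        · right; linear_combination h
      refine (Finset.card_le_card_of_injOn (fun τ : ↥(T0 G) => ((τ.1 : Fˣ) : F)) hsub ?_).trans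
        Finset.card_le_two
      intro a _ b _ hab
      exact Subtype.ext (Units.ext hab)
    · rw [Finset.not_nonempty_iff_eq_empty] at hne
      rw [hne]; simp

theorem two_dvd_card_T0 [Finite G] (h2 : (2 : F) ≠ 0) (hneg : (-1 : S2 F) ∈ G) :
    2 ∣ Nat.card (T0 G) := by
  haveI : Finite ↥(T0 G) := finite_T0
  have hb : (⟨-1, hneg⟩ : ↥G) ∈ BTG G := by
    rw [mem_BTG]; show (-1 : S2 F).1 1 0 = 0
    rw [neg10, one10, neg_zero]
  set x : ↥(T0 G) := ⟨chiG G ⟨⟨-1, hneg⟩, hb⟩, ⟨_, rfl⟩⟩ with hx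
  have hval : ((x.1 : Fˣ) : F) = -1 := by
    show (-1 : S2 F).1 0 0 = -1
    rw [neg00, one00]
  have h1 : x ^ 2 = 1 := by
    apply Subtype.ext
    apply Units.ext
    show ((x.1 : Fˣ) : F) ^ 2 = 1
    rw [hval]; ring
  have h3 : x ≠ 1 := by
    intro h
    have : ((x.1 : Fˣ) : F) = 1 := by rw [h]; rfl
    rw [hval] at this
    apply h2
    linear_combination -this
  have := orderOf_eq_prime h1 h3
  rw [← this]
  exact orderOf_dvd_natCard x

end std2

end Cfsg.Agent.Helper5.SL2
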