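import Cfsg.Agent.Helper5.SL2C
set_option autoImplicit false
namespace Cfsg.Agent.Helper5.SL2
open Matrix

variable {F : Type*} [Field F] {G : Subgroup (S2 F)}

/-- the torus class: a semisimple element whose centralizer has the order of `T0` -/
theorem exists_T_elt [Finite G] (h4 : 4 ≤ Nat.card (T0 G)) :
    ∃ b : ↥G, disc b.1 ≠ 0 ∧ Nat.card (cen b) = Nat.card (T0 G) := by
  haveI : Finite ↥(T0 G) := finite_T0
  obtain ⟨τ, hτ⟩ := IsCyclic.exists_generator (α := ↥(T0 G))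
  have hord : orderOf τ = Nat.card (T0 G) := orderOf_eq_card_of_forall_mem_zpowers hτ
  obtain ⟨b, hb⟩ := τ.2
  have hb10 : b.1.1.1 1 0 = 0 := mem_BTG.mp b.2
  have hd := diag_of_BT hb10
  set t : F := b.1.1.1 0 0 with ht
  set d : F := b.1.1.1 1 1 with hd'
  have htτ : ((τ.1 : Fˣ) : F) = t := by rw [← hb]; rfl
  have ht2 : t ^ 2 ≠ 1 := by
    intro h
    have h1 : τ ^ 2 = 1 := by
      apply Subtype.ext
      apply Units.ext
      show ((τ.1 : Fˣ) : F) ^ 2 = 1
      rw [htτ]; exact h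
    have := orderOf_le_of_pow_eq_one (by norm_num) h1
    omega
  have htd : t - d ≠ 0 := by
    intro h
    apply ht2
    have : t = d := by linear_combination h
    rw [pow_two]
    nth_rewrite 2 [this]
    exact hd
  have hdisc : disc b.1.1 ≠ 0 := by
    unfold disc
    rw [hb10, mul_zero, add_zero]
    exact pow_ne_zero _ htd
  refine ⟨b.1, hdisc, ?_⟩
  have hns : ¬ IsScal b.1.1 := not_isScal_of_disc hdisc
  -- elements of the centralizer are upper triangular
  have hBT : ∀ y : ↥(cen b.1), y.1 ∈ BTG G := by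
    intro y
    have hy : y.1.1 * b.1.1 = b.1.1 * y.1.1 := (coe_comm b.1 y.1).mp (mem_cen.mp y.2)
    obtain ⟨l, _, a2, _⟩ := par hns hy.symm
    rw [mem_BTG, a2, hb10, mul_zero]
  apply le_antisymm
  · apply Nat.card_le_card_of_injective
      (fun y : ↥(cen b.1) => (⟨chiG G ⟨y.1, hBT y⟩, ⟨_, rfl⟩⟩ : ↥(T0 G)))
    intro y y' hyy'
    have e0 : y.1.1.1 0 0 = y'.1.1.1 0 0 := by
      have := congrArg (fun z : ↥(T0 G) => ((z.1 : Fˣ) : F)) hyy'
      exact this
    have hy : y.1.1 * b.1.1 = b.1.1 * y.1.1 := (coe_comm b.1 y.1).mp (mem_cen.mp y.2)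
    have hy' : y'.1.1 * b.1.1 = b.1.1 * y'.1.1 := (coe_comm b.1 y'.1).mp (mem_cen.mp y'.2)
    obtain ⟨l, a1, a2, a3⟩ := par hns hy.symm
    obtain ⟨l', a1', a2', a3'⟩ := par hns hy'.symm
    have c1 : y.1.1.1 1 0 = 0 := mem_BTG.mp (hBT y)
    have c2 : y'.1.1.1 1 0 = 0 := mem_BTG.mp (hBT y')
    have d1 := diag_of_BT c1
    have d2 := diag_of_BT c2
    have hne : y.1.1.1 0 0 ≠ 0 := by
      intro h; rw [h, zero_mul] at d1; exact zero_ne_one d1
    have e1 : y.1.1.1 1 1 = y'.1.1.1 1 1 := by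
      have : y.1.1.1 0 0 * (y.1.1.1 1 1 - y'.1.1.1 1 1) = 0 := by
        rw [e0] at d1 ⊢
        linear_combination d1 - d2
      rcases mul_eq_zero.mp this with h | h
      · exact absurd h hne
      · linear_combination h
    have el : l = l' := by
      have : (l - l') * (t - d) = 0 := by
        linear_combination -a3 + a3' + e0 - e1
      rcases mul_eq_zero.mp this with h | h
      · linear_combination h
      · exact absurd h htd
    apply Subtype.ext
    apply Subtype.ext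
    apply ext2 e0 _ (by rw [c1, c2]) e1
    rw [a1, a1', el]
  · apply Nat.le_of_dvd Nat.card_pos
    rw [← hord]
    have h1 : orderOf (chiG G b) ∣ orderOf b := orderOf_map_dvd _ _
    have h2 : orderOf b = orderOf b.1 := (Subgroup.orderOf_coe b).symm
    have h3 : orderOf (⟨b.1, self_mem_cen b.1⟩ : ↥(cen b.1)) = orderOf b.1 :=
      (Subgroup.orderOf_coe (⟨b.1, self_mem_cen b.1⟩ : ↥(cen b.1))).symm
    have h4' : orderOf τ = orderOf (chiG G b) := by
      rw [← Subgroup.orderOf_coe τ, hb]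
    rw [h4']
    refine h1.trans ?_
    rw [h2, ← h3]
    exact orderOf_dvd_natCard _


theorem ss_not_mem_ZG {y : ↥G} (hd : disc y.1 ≠ 0) : y ∉ ZG G := fun h => hd (disc_scal h)

theorem ZG_le_cen (y : ↥G) : ZG G ≤ cen y := fun z hz => (hZ_G z hz y).symm

theorem ss_card_cen [Finite G] (h2 : (2 : F) ≠ 0) (hneg : (-1 : S2 F) ∈ G) {y : ↥G}
    (hd : disc y.1 ≠ 0) : 2 ∣ Nat.card (cen y) ∧ 4 ≤ Nat.card (cen y) := by
  have h1 : 2 ∣ Nat.card (cen y) := by
    have := Subgroup.card_dvd_of_le (ZG_le_cen y)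
    rw [card_ZG h2 hneg] at this
    exact this
  refine ⟨h1, ?_⟩
  have h3 : Nat.card (ZG G) < Nat.card (cen y) := by
    rw [card_eq_ncard, card_eq_ncard]
    apply Set.ncard_lt_ncard _ (Set.toFinite _)
    refine ⟨ZG_le_cen y, ?_⟩
    intro h
    exact ss_not_mem_ZG hd (h (self_mem_cen y))
  rw [card_ZG h2 hneg] at h3
  omega

theorem ss_conj {y t : ↥G} (h2 : (2 : F) ≠ 0) (hd : disc y.1 ≠ 0)
    (ht : t ∈ Subgroup.normalizer ((cen y : Subgroup ↥G) : Set ↥G)) :
    t * y * t⁻¹ = y ∨ t * y * t⁻¹ = y⁻¹ := by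
  have h1 : t * y * t⁻¹ ∈ cen y := (Subgroup.mem_normalizer_iff.mp ht y).mp (self_mem_cen y)
  have h3 : y.1 * (t.1 * y.1 * t.1⁻¹) = (t.1 * y.1 * t.1⁻¹) * y.1 :=
    ((coe_comm y (t * y * t⁻¹)).mp (mem_cen.mp h1)).symm
  rcases conj_eq_or_inv h2 hd h3 (tr_conj t.1 y.1) with h | h
  · left; exact Subtype.ext h
  · right; exact Subtype.ext h

theorem ss_card_normalizer [Finite G] (h2 : (2 : F) ≠ 0) {y : ↥G} (hd : disc y.1 ≠ 0) :
    Nat.card (Subgroup.normalizer ((cen y : Subgroup ↥G) : Set ↥G)) = Nat.card (cen y) ∨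
    Nat.card (Subgroup.normalizer ((cen y : Subgroup ↥G) : Set ↥G)) = 2 * Nat.card (cen y) := by
  set N := Subgroup.normalizer ((cen y : Subgroup ↥G) : Set ↥G) with hN
  have hCN : cen y ≤ N := Subgroup.le_normalizer
  have hdvd : Nat.card (cen y) ∣ Nat.card N := Subgroup.card_dvd_of_le hCN
  have hle : Nat.card N ≤ 2 * Nat.card (cen y) := by
    by_cases h : ∃ t₀ ∈ N, t₀ ∉ cen y
    · obtain ⟨t₀, ht₀, ht₀'⟩ := h
      have e0 : t₀ * y * t₀⁻¹ = y⁻¹ := by
        rcases ss_conj h2 hd ht₀ with h | h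
        · exfalso
          apply ht₀'
          rw [mem_cen]
          calc t₀ * y = t₀ * y * t₀⁻¹ * t₀ := by group
            _ = y * t₀ := by rw [h]
        · exact h
      have hsub : (N : Set ↥G) ⊆ ((cen y : Subgroup ↥G) : Set ↥G) ∪
          (fun c => t₀ * c) '' ((cen y : Subgroup ↥G) : Set ↥G) := by
        intro t ht
        rcases ss_conj h2 hd ht with h | h
        · left
          show t * y = y * t
          calc t * y = t * y * t⁻¹ * t := by group
            _ = y * t := by rw [h]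
        · right
          refine ⟨t₀⁻¹ * t, ?_, by group⟩
          show t₀⁻¹ * t * y = y * (t₀⁻¹ * t)
          have e1 : t * y = y⁻¹ * t := by
            calc t * y = t * y * t⁻¹ * t := by group
              _ = y⁻¹ * t := by rw [h]
          have e2 : t₀⁻¹ * y⁻¹ = y * t₀⁻¹ := by
            calc t₀⁻¹ * y⁻¹ = t₀⁻¹ * (t₀ * y * t₀⁻¹) := by rw [e0]
              _ = y * t₀⁻¹ := by group
          calc t₀⁻¹ * t * y = t₀⁻¹ * (t * y) := by group
            _ = t₀⁻¹ * (y⁻¹ * t) := by rw [e1]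
            _ = (t₀⁻¹ * y⁻¹) * t := by group
            _ = y * t₀⁻¹ * t := by rw [e2]
            _ = y * (t₀⁻¹ * t) := by group
      rw [card_eq_ncard, card_eq_ncard]
      calc (N : Set ↥G).ncard ≤ (((cen y : Subgroup ↥G) : Set ↥G) ∪
          (fun c => t₀ * c) '' ((cen y : Subgroup ↥G) : Set ↥G)).ncard :=
            Set.ncard_le_ncard hsub (Set.toFinite _)
        _ ≤ ((cen y : Subgroup ↥G) : Set ↥G).ncard +
            ((fun c => t₀ * c) '' ((cen y : Subgroup ↥G) : Set ↥G)).ncard := Set.ncard_union_le _ _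
        _ = 2 * ((cen y : Subgroup ↥G) : Set ↥G).ncard := by
          rw [Set.ncard_image_of_injective _ (mul_right_injective t₀)]; ring
    · push Not at h
      have : Nat.card N ≤ Nat.card (cen y) := Subgroup.card_le_of_le (fun t ht => h t ht)
      omega
  obtain ⟨c, hc⟩ := hdvd
  have hpos : 0 < Nat.card N := Nat.card_pos
  have hγ : 0 < Nat.card (cen y) := Nat.card_pos
  rw [hc] at hle hpos ⊢
  have hc1 : 1 ≤ c := by
    rcases Nat.eq_zero_or_pos c with h | h
    · rw [h, mul_zero] at hpos; omega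
    · exact h
  have hc2 : c ≤ 2 := by
    by_contra hcon
    push Not at hcon
    have : Nat.card (cen y) * 3 ≤ Nat.card (cen y) * c := Nat.mul_le_mul_left _ hcon
    omega
  interval_cases c
  · left; ring
  · right; ring


section sylow

open scoped Pointwise

variable {p : ℕ} [Fact p.Prime] [CharP F p]

omit [Fact (Nat.Prime p)] in
theorem pow_p_of_tr {y : ↥G} (hy : tr y.1 = 2) : y ^ p = 1 := by
  apply Subtype.ext
  rw [Subgroup.coe_pow, Subgroup.coe_one]
  exact pow_p_unip p _ hy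

omit [Fact (Nat.Prime p)] in
theorem isPGroup_UTG : IsPGroup p (UTG G) := by
  intro g
  refine ⟨1, ?_⟩
  rw [pow_one]
  apply Subtype.ext
  rw [Subgroup.coe_pow, Subgroup.coe_one]
  exact pow_p_of_tr (tr_of_UT (mem_UTG.mp g.2))

theorem tr_of_pElt {y : ↥G} {k : ℕ} (hy : y ^ (p ^ k) = 1) : tr y.1 = 2 := by
  apply tr_of_pow_eq_one p y.1 k
  have := congrArg Subtype.val hy
  rw [Subgroup.coe_pow, Subgroup.coe_one] at this
  exact this

theorem UTG_sylow [Finite G] (h2 : (2 : F) ≠ 0) {μ₀ : F} (hμ : μ₀ ≠ 0) (hx : xm μ₀ ∈ G) :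
    ∃ Q : Sylow p ↥G, (Q : Subgroup ↥G) = UTG G := by
  obtain ⟨Q, hQ⟩ := (isPGroup_UTG (p := p) (G := G)).exists_le_sylow
  refine ⟨Q, le_antisymm ?_ hQ⟩
  set u₀ : ↥G := ⟨xm μ₀, hx⟩ with hu₀
  have hu₀U : u₀ ∈ UTG G := mem_UTG.mpr ⟨rfl, rfl⟩
  have hu₀Q : u₀ ∈ (Q : Subgroup ↥G) := hQ hu₀U
  have hu₀1 : u₀ ≠ 1 := by
    intro h
    have := congrArg (fun g : ↥G => g.1.1 0 1) h
    simp only [hu₀, xm_01] at this
    exact hμ (this.trans one01)
  haveI : Nontrivial ↥(Q : Subgroup ↥G) :=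
    ⟨⟨⟨u₀, hu₀Q⟩, 1, fun h => hu₀1 (congrArg Subtype.val h)⟩⟩
  have hQp : IsPGroup p ↥(Q : Subgroup ↥G) := Q.isPGroup'
  haveI := hQp.center_nontrivial
  obtain ⟨z₀, hz₀⟩ := exists_ne (1 : ↥(Subgroup.center ↥(Q : Subgroup ↥G)))
  have hzc : ∀ q : ↥(Q : Subgroup ↥G), q * z₀.1 = z₀.1 * q := Subgroup.mem_center_iff.mp z₀.2
  set z : ↥G := z₀.1.1 with hz
  have hz1 : z ≠ 1 := by
    intro h
    apply hz₀
    apply Subtype.ext
    apply Subtype.ext
    exact h
  -- z is a p-element commuting with u₀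
  have hzu : z.1 * xm μ₀ = xm μ₀ * z.1 := by
    have := hzc ⟨u₀, hu₀Q⟩
    have h3 := congrArg (fun q : ↥(Q : Subgroup ↥G) => q.1.1) this
    exact h3.symm
  have hzP : z.1 ∈ PUT F := (comm_xm_iff hμ z.1).mp hzu
  have hztr : tr z.1 = 2 := by
    obtain ⟨k, hk⟩ := hQp z₀.1
    apply tr_of_pElt (k := k)
    have := congrArg Subtype.val hk
    rw [Subgroup.coe_pow, Subgroup.coe_one] at this
    exact this
  have hz00 : z.1.1 0 0 = 1 := by
    unfold tr at hztr
    rw [← hzP.2] at hztr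
    have : (2 : F) * (z.1.1 0 0 - 1) = 0 := by linear_combination hztr
    rcases mul_eq_zero.mp this with h | h
    · exact absurd h h2
    · linear_combination h
  have hzU : z.1 ∈ UT F := ⟨hzP.1, hz00⟩
  have hzx : z.1 = xm (z.1.1 0 1) := UT_eq_xm hzU
  have hμ₁ : z.1.1 0 1 ≠ 0 := by
    intro h
    apply hz1
    apply Subtype.ext
    rw [hzx, h, xm_zero]; rfl
  intro y hy
  have hyz : y.1 * z.1 = z.1 * y.1 := by
    have := hzc ⟨y, hy⟩
    exact congrArg (fun q : ↥(Q : Subgroup ↥G) => q.1.1) this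
  rw [hzx] at hyz
  have hyP : y.1 ∈ PUT F := (comm_xm_iff hμ₁ y.1).mp hyz
  have hytr : tr y.1 = 2 := by
    obtain ⟨k, hk⟩ := hQp ⟨y, hy⟩
    apply tr_of_pElt (k := k)
    have := congrArg Subtype.val hk
    rw [Subgroup.coe_pow, Subgroup.coe_one] at this
    exact this
  rw [mem_UTG]
  refine ⟨hyP.1, ?_⟩
  unfold tr at hytr
  rw [← hyP.2] at hytr
  have : (2 : F) * (y.1.1 0 0 - 1) = 0 := by linear_combination hytr
  rcases mul_eq_zero.mp this with h | h
  · exact absurd h h2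
  · linear_combination h

theorem unip_conj (p : ℕ) [Fact p.Prime] [CharP F p] [Finite G] (h2 : (2 : F) ≠ 0) {μ₀ : F} (hμ : μ₀ ≠ 0) (hx : xm μ₀ ∈ G)
    {y : ↥G} (hy : tr y.1 = 2) (hy1 : y ≠ 1) : ∃ g : ↥G, g * y * g⁻¹ ∈ UTG G := by
  obtain ⟨Q₀, hQ₀⟩ := UTG_sylow (p := p) h2 hμ hx
  have hord : orderOf y = p := orderOf_eq_prime (pow_p_of_tr hy) hy1
  have hpg : IsPGroup p (Subgroup.zpowers y) := by
    apply IsPGroup.of_card (n := 1)
    rw [Nat.card_zpowers, hord, pow_one]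
  obtain ⟨Q', hQ'⟩ := hpg.exists_le_sylow
  obtain ⟨g, hg⟩ := MulAction.exists_smul_eq ↥G Q' Q₀
  refine ⟨g, ?_⟩
  have h1 : MulAut.conj g • y ∈ MulAut.conj g • (Q' : Subgroup ↥G) :=
    Subgroup.smul_mem_pointwise_smul _ _ _ (hQ' (Subgroup.mem_zpowers y))
  rw [← Sylow.coe_subgroup_smul, hg, hQ₀] at h1
  exact h1

theorem Scl_unip (p : ℕ) [Fact p.Prime] [CharP F p] [Finite G] (h2 : (2 : F) ≠ 0)
    (hneg : (-1 : S2 F) ∈ G) {μ₀ : F} (hμ : μ₀ ≠ 0) (hx : xm μ₀ ∈ G) :
    Scl (ZG G) (⟨xm μ₀, hx⟩ : ↥G) = {y | y ∉ ZG G ∧ disc y.1 = 0} := by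
  ext y
  constructor
  · rintro ⟨hyZ, g, hg⟩
    refine ⟨hyZ, ?_⟩
    have h1 : y ∈ cen (g * (⟨xm μ₀, hx⟩ : ↥G) * g⁻¹) := hg ▸ self_mem_cen y
    rw [mem_cen_conj, cen_xmG hμ hx] at h1
    have h3 := disc_of_PUT h1
    have h4 : disc (g⁻¹.1 * y.1 * g⁻¹.1⁻¹) = disc y.1 := disc_conj _ _
    rw [← h4]
    have e : g⁻¹.1 * y.1 * g⁻¹.1⁻¹ = (g⁻¹ * y * g).1 := by
      show g⁻¹.1 * y.1 * g⁻¹.1⁻¹ = g⁻¹.1 * y.1 * g.1
      congr 1
      show ((g⁻¹ : ↥G) : S2 F)⁻¹ = g.1
      rw [Subgroup.coe_inv, inv_inv]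
    rw [e]; exact h3
  · rintro ⟨hyZ, hd⟩
    refine ⟨hyZ, ?_⟩
    -- reduce to trace 2
    have key : ∀ y' : ↥G, tr y'.1 = 2 → y' ≠ 1 → ∃ g : ↥G, cen y' = cen (g * (⟨xm μ₀, hx⟩ : ↥G) * g⁻¹) := by
      intro y' hy' hy'1
      obtain ⟨g, hg⟩ := unip_conj p h2 hμ hx hy' hy'1
      have hgx : (g * y' * g⁻¹).1 = xm ((g * y' * g⁻¹).1.1 0 1) := UT_eq_xm (mem_UTG.mp hg)
      set μ₁ := (g * y' * g⁻¹).1.1 0 1 with hμ₁
      have hμ₁0 : μ₁ ≠ 0 := by
        intro h
        apply hy'1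
        have e1 : g * y' * g⁻¹ = 1 := by
          apply Subtype.ext
          rw [hgx, h, xm_zero]; rfl
        calc y' = g⁻¹ * (g * y' * g⁻¹) * g := by group
          _ = 1 := by rw [e1]; group
      have hx₁ : xm μ₁ ∈ G := by rw [← hgx]; exact (g * y' * g⁻¹).2
      have e2 : g * y' * g⁻¹ = (⟨xm μ₁, hx₁⟩ : ↥G) := Subtype.ext hgx
      have e3 : cen (g * y' * g⁻¹) = cen (⟨xm μ₀, hx⟩ : ↥G) := by
        rw [e2, cen_xmG hμ₁0 hx₁, cen_xmG hμ hx]
      refine ⟨g⁻¹, ?_⟩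
      have e4 := cen_conj_congr g⁻¹ e3
      have e5 : g⁻¹ * (g * y' * g⁻¹) * g⁻¹⁻¹ = y' := by group
      rw [e5] at e4
      exact e4
    have htr : (tr y.1 - 2) * (tr y.1 + 2) = 0 := by
      have := disc_eq y.1
      rw [hd] at this
      linear_combination -this
    rcases mul_eq_zero.mp htr with h | h
    · apply key y (by linear_combination h)
      intro h1
      apply hyZ
      rw [h1]; exact Subgroup.one_mem _
    · set ng : ↥G := ⟨-1, hneg⟩ with hng
      have hngZ : ng ∈ ZG G := isScal_neg_one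
      have h1 : tr (ng * y).1 = 2 := by
        show tr ((-1 : S2 F) * y.1) = 2
        rw [← neg_eq_mul, tr_neg]
        linear_combination -h
      have h3 : ng * y ≠ 1 := by
        intro h'
        apply hyZ
        have : y = ng⁻¹ := by
          calc y = ng⁻¹ * (ng * y) := by group
            _ = ng⁻¹ := by rw [h', mul_one]
        rw [this]
        exact (ZG G).inv_mem hngZ
      obtain ⟨g, hg⟩ := key (ng * y) h1 h3
      refine ⟨g, ?_⟩
      rw [← hg]
      ext t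
      rw [mem_cen, mem_cen]
      have hc := hZ_G ng hngZ t
      constructor
      · intro h'
        calc t * (ng * y) = (t * ng) * y := by group
          _ = (ng * t) * y := by rw [hc]
          _ = ng * (t * y) := by group
          _ = ng * (y * t) := by rw [h']
          _ = ng * y * t := by group
      · intro h'
        have h'' : ng * (t * y) = ng * (y * t) := by
          calc ng * (t * y) = (ng * t) * y := by group
            _ = (t * ng) * y := by rw [hc]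
            _ = t * (ng * y) := by group
            _ = ng * y * t := h'
            _ = ng * (y * t) := by group
        exact mul_left_cancel h''

end sylow

end Cfsg.Agent.Helper5.SL2
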