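import Cfsg.Agent.Helper5.SL2D
set_option autoImplicit false
namespace Cfsg.Agent.Helper5.SL2
open Matrix

variable {F : Type*} [Field F]

/-- the images of the point at infinity under elements of `G` not fixing it -/
def Wset (G : Subgroup (S2 F)) : Set F :=
  {ω | ∃ g : ↥G, g.1.1 1 0 ≠ 0 ∧ ω = g.1.1 0 0 / g.1.1 1 0}

/-- the additive group of parameters of upper unitriangular elements -/
def Uadd (G : Subgroup (S2 F)) : AddSubgroup F where
  carrier := Uset G
  add_mem' := fun h1 h2 => Uset_add h1 h2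
  zero_mem' := Uset_zero
  neg_mem' := fun h1 => Uset_neg h1

variable {G : Subgroup (S2 F)}

theorem Wset_finite [Finite G] : (Wset G).Finite := by
  have hset : Wset G ⊆ (fun g : ↥G => g.1.1 0 0 / g.1.1 1 0) '' (Set.univ : Set ↥G) := by
    rintro ω ⟨g, _, rfl⟩
    exact ⟨g, Set.mem_univ _, rfl⟩
  exact (Set.toFinite _).subset hset

theorem Wset_add {μ ω : F} (hμ : μ ∈ Uset G) (hω : ω ∈ Wset G) : ω + μ ∈ Wset G := by
  obtain ⟨g, hg, rfl⟩ := hω
  refine ⟨⟨xm μ, hμ⟩ * g, ?_, ?_⟩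
  · show (xm μ * g.1).1 1 0 ≠ 0
    rw [mul10]; simpa using hg
  · show _ = (xm μ * g.1).1 0 0 / (xm μ * g.1).1 1 0
    rw [mul10, mul00, div_add' _ _ _ hg]
    simp only [xm_00, xm_01, xm_10, xm_11]
    congr 1 <;> ring

theorem inv_mem_Wset {ν : F} (hν : ν ≠ 0) (hy : ym ν ∈ G) : 1 / ν ∈ Wset G :=
  ⟨⟨ym ν, hy⟩, hν, rfl⟩

theorem card_G_eq [Finite G] :
    Nat.card G = ((Wset G).ncard + 1) * Nat.card (BTG G) := by
  classical
  haveI := Fintype.ofFinite ↥G
  set D : Finset ↥G := Finset.univ.filter (fun g : ↥G => g.1.1 1 0 ≠ 0) with hD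
  have hB : Nat.card (BTG G) = (Finset.univ.filter (fun g : ↥G => g.1.1 1 0 = 0)).card := by
    rw [card_eq_ncard, Set.ncard_eq_toFinset_card']
    congr 1
    ext g
    simp [mem_BTG]
  have hsum : D.card + Nat.card (BTG G) = Nat.card G := by
    rw [hB, Nat.card_eq_fintype_card, ← Finset.card_univ, add_comm, hD]
    exact Finset.card_filter_add_card_filter_not (fun g : ↥G => g.1.1 1 0 = 0)
  have hfib : D.card = (Wset G).ncard * Nat.card (BTG G) := by
    rw [Set.ncard_eq_toFinset_card _ Wset_finite]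
    have hmaps : ∀ g ∈ D, (fun g : ↥G => g.1.1 0 0 / g.1.1 1 0) g ∈
        (Wset_finite (G := G)).toFinset := by
      intro g hg
      rw [Set.Finite.mem_toFinset]
      rw [hD, Finset.mem_filter] at hg
      exact ⟨g, hg.2, rfl⟩
    rw [Finset.card_eq_sum_card_fiberwise hmaps]
    rw [Finset.sum_const_nat (m := Nat.card (BTG G))]
    intro ω hω
    rw [Set.Finite.mem_toFinset] at hω
    obtain ⟨g₀, hg₀, rfl⟩ := hω
    rw [card_eq_ncard, ← Set.ncard_image_of_injective _ (mul_right_injective g₀),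
      Set.ncard_eq_toFinset_card']
    congr 1
    ext g
    simp only [hD, Finset.mem_filter, Finset.mem_univ, true_and, Set.mem_toFinset, Set.mem_image,
      SetLike.mem_coe]
    constructor
    · rintro ⟨hg, he⟩
      refine ⟨g₀⁻¹ * g, ?_, by group⟩
      rw [mem_BTG]
      show (g₀.1⁻¹ * g.1).1 1 0 = 0
      rw [mul10, inv10, inv11]
      field_simp at he
      linear_combination -he
    · rintro ⟨b, hb, rfl⟩
      have hb' : b.1.1 1 0 = 0 := mem_BTG.mp hb
      have hd := diag_of_BT hb'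
      have hb0 : b.1.1 0 0 ≠ 0 := by
        intro h; rw [h, zero_mul] at hd; exact zero_ne_one hd
      have e1 : (g₀ * b).1.1 1 0 = g₀.1.1 1 0 * b.1.1 0 0 := by
        show (g₀.1 * b.1).1 1 0 = _
        rw [mul10, hb']; ring
      have e0 : (g₀ * b).1.1 0 0 = g₀.1.1 0 0 * b.1.1 0 0 := by
        show (g₀.1 * b.1).1 0 0 = _
        rw [mul00, hb']; ring
      refine ⟨?_, ?_⟩
      · rw [e1]; exact mul_ne_zero hg₀ hb0
      · rw [e1, e0]
        field_simp
  rw [← hsum, hfib]; ring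

theorem ncard_Uadd [Finite G] : ((Uadd G : AddSubgroup F) : Set F).ncard = Nat.card (UTG G) :=
  ncard_Uset

theorem UTG_dvd_Wset [Finite G] : Nat.card (UTG G) ∣ (Wset G).ncard := by
  classical
  rw [Set.ncard_eq_toFinset_card _ Wset_finite]
  set f : F → F ⧸ Uadd G := fun ω => (QuotientAddGroup.mk ω : F ⧸ Uadd G) with hf
  have hmaps : ∀ ω ∈ (Wset_finite (G := G)).toFinset, f ω ∈ (Wset_finite (G := G)).toFinset.image f :=
    fun ω hω => Finset.mem_image_of_mem f hω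
  rw [Finset.card_eq_sum_card_fiberwise hmaps, Finset.sum_const_nat (m := Nat.card (UTG G))]
  · exact Dvd.intro_left _ rfl
  intro c hc
  rw [Finset.mem_image] at hc
  obtain ⟨ω₁, hω₁, rfl⟩ := hc
  rw [Set.Finite.mem_toFinset] at hω₁
  rw [← ncard_Uset, ← Set.ncard_image_of_injective _ (add_right_injective ω₁),
    Set.ncard_eq_toFinset_card _ ((Uset_finite (G := G)).image _)]
  congr 1
  ext ω
  simp only [Finset.mem_filter, Set.Finite.mem_toFinset, Set.mem_image]
  constructor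
  · rintro ⟨hω, he⟩
    refine ⟨-ω₁ + ω, ?_, by ring⟩
    exact QuotientAddGroup.eq.mp he.symm
  · rintro ⟨μ, hμ, rfl⟩
    refine ⟨Wset_add hμ hω₁, ?_⟩
    apply QuotientAddGroup.eq.mpr
    have : -(ω₁ + μ) + ω₁ = -μ := by ring
    rw [this]
    exact (Uadd G).neg_mem hμ

theorem Wset_single [Finite G] (h : (Wset G).ncard = Nat.card (UTG G)) {ω₁ ω₂ : F}
    (h1 : ω₁ ∈ Wset G) (h2 : ω₂ ∈ Wset G) : ω₂ - ω₁ ∈ Uset G := by
  have hsub : (fun μ => ω₁ + μ) '' (Uset G) ⊆ Wset G := by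
    rintro _ ⟨μ, hμ, rfl⟩
    exact Wset_add hμ h1
  have hcard : (Wset G).ncard ≤ ((fun μ => ω₁ + μ) '' (Uset G)).ncard := by
    rw [Set.ncard_image_of_injective _ (add_right_injective ω₁), ncard_Uset, h]
  have heq := Set.eq_of_subset_of_ncard_le hsub hcard Wset_finite
  rw [← heq] at h2
  obtain ⟨μ, hμ, rfl⟩ := h2
  simpa using hμ

/-- the index of the Borel subgroup and the two-transitive case -/
theorem W_main [Finite G] (h2 : (2 : F) ≠ 0) {ν₀ : F} (hν : ν₀ ≠ 0) (hy : ym ν₀ ∈ G) :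
    ∃ k : ℕ, 1 ≤ k ∧ Nat.card G = (1 + k * Nat.card (UTG G)) * Nat.card (BTG G) ∧
      (k = 1 → xm (-(1 / (2 * ν₀))) ∈ G) := by
  obtain ⟨k, hk⟩ := UTG_dvd_Wset (G := G)
  have hW1 : 1 / ν₀ ∈ Wset G := inv_mem_Wset hν hy
  have hWpos : 0 < (Wset G).ncard := by
    rw [Set.ncard_pos Wset_finite]
    exact ⟨_, hW1⟩
  refine ⟨k, ?_, ?_, ?_⟩
  · rcases Nat.eq_zero_or_pos k with h | h
    · rw [h, mul_zero] at hk; omega
    · exact h
  · rw [card_G_eq, hk]; ring
  · intro hk1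
    rw [hk1, mul_one] at hk
    have hy2 : ym (2 * ν₀) ∈ G := by
      have : ym (2 * ν₀) = ym ν₀ * ym ν₀ := by rw [ym_add]; congr 1; ring
      rw [this]; exact G.mul_mem hy hy
    have hW2 : 1 / (2 * ν₀) ∈ Wset G := inv_mem_Wset (mul_ne_zero h2 hν) hy2
    have := Wset_single hk hW1 hW2
    have e : 1 / (2 * ν₀) - 1 / ν₀ = -(1 / (2 * ν₀)) := by
      field_simp
      ring
    rw [e] at this
    exact this

end Cfsg.Agent.Helper5.SL2
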