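import Cfsg.Agent.Helper5.SL2E
set_option autoImplicit false
namespace Cfsg.Agent.Helper5.SL2
open Matrix

theorem ar_class (g γ ν m : ℕ) (h : m * ν = g * (γ - 2)) (hγ : 4 ≤ γ)
    (hν : ν = γ ∨ ν = 2 * γ) : g ≤ 4 * m ∧ (ν = γ → g ≤ 2 * m) := by
  obtain ⟨c, rfl⟩ : ∃ c, γ = c + 4 := ⟨γ - 4, by omega⟩
  have e : c + 4 - 2 = c + 2 := by omega
  rw [e] at h
  constructor
  · rcases hν with h1 | h1
    · rw [h1] at h
      by_contra hcon
      push Not at hcon
      nlinarith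
    · rw [h1] at h
      by_contra hcon
      push Not at hcon
      nlinarith
  · intro h1
    rw [h1] at h
    by_contra hcon
    push Not at hcon
    nlinarith

theorem ar_L1 (n q γ : ℕ) (hn : 2 ≤ n) (hγ : 4 ≤ γ) (h2 : 2 ∣ γ)
    (h : (2 * n - 2) * (2 * γ) = 2 * n * (q + 3) * (γ - 2)) : q = 0 ∧ n = 4 := by
  obtain ⟨c', rfl⟩ := h2
  obtain ⟨c, rfl⟩ : ∃ c, c' = c + 2 := ⟨c' - 2, by omega⟩
  obtain ⟨m, rfl⟩ : ∃ m, n = m + 2 := ⟨n - 2, by omega⟩
  have e1 : 2 * (m + 2) - 2 = 2 * m + 2 := by omega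
  have e2 : 2 * (c + 2) - 2 = 2 * c + 2 := by omega
  rw [e1, e2] at h
  have hc : c = 0 := by
    by_contra hcon
    have : 1 ≤ c := Nat.one_le_iff_ne_zero.mpr hcon
    nlinarith [Nat.zero_le (m * c), Nat.zero_le (m * q), Nat.zero_le (q * c), Nat.zero_le (m * q * c)]
  subst hc
  have hq : q = 0 := by
    by_contra hcon
    have : 1 ≤ q := Nat.one_le_iff_ne_zero.mpr hcon
    nlinarith [Nat.zero_le (m * q)]
  subst hq
  refine ⟨rfl, ?_⟩
  nlinarith

theorem ar_L2 (q e k a : ℕ) (he : 2 ≤ e) (heq : e ≤ q + 2) (hk : 1 ≤ k)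
    (h : a * (1 + k * (q + 1)) = e * (1 + k * (q + 3))) :
    k = 1 ∨ (k = 3 ∧ q = 0 ∧ e = 2 ∧ a = 5) := by
  have h1 : (1 + k * (q + 1)) ∣ e * (1 + k * (q + 1)) + 2 * e * k := by
    refine ⟨a, ?_⟩
    rw [mul_comm _ a, h]; ring
  have h2 : (1 + k * (q + 1)) ∣ 2 * e * k := (Nat.dvd_add_right (dvd_mul_left _ _)).mp h1
  have hcop : Nat.Coprime (1 + k * (q + 1)) k := by
    rw [Nat.coprime_add_mul_left_left]
    exact Nat.coprime_one_left k
  have h3 : (1 + k * (q + 1)) ∣ 2 * e := hcop.dvd_of_dvd_mul_right h2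
  have h4 : 1 + k * (q + 1) ≤ 2 * e := Nat.le_of_dvd (by omega) h3
  by_cases hk1 : k = 1
  · left; exact hk1
  · right
    have hk2 : 2 ≤ k := by omega
    by_cases hk3 : k = 2
    · exfalso
      subst hk3
      have hcop2 : Nat.Coprime (1 + 2 * (q + 1)) 2 := by
        rw [Nat.coprime_add_mul_left_left]
        exact Nat.coprime_one_left 2
      have h5 : (1 + 2 * (q + 1)) ∣ e := by
        rw [mul_comm 2 e] at h3
        exact hcop2.dvd_of_dvd_mul_right h3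
      have h6 := Nat.le_of_dvd (by omega) h5
      omega
    · have hk3' : 3 ≤ k := by omega
      have hq : q = 0 := by
        by_contra hcon
        have : 1 ≤ q := Nat.one_le_iff_ne_zero.mpr hcon
        nlinarith
      subst hq
      have hk4 : k = 3 := by omega
      subst hk4
      have he2 : e = 2 := by omega
      subst he2
      refine ⟨rfl, rfl, rfl, ?_⟩
      omega


/-- the combinatorial core of the counting argument -/
theorem count_core {Γ : Type*} [Finite Γ] (Cl : Set Γ → Prop) (cls : Γ → Set Γ) (γ : Γ → ℕ) (g : ℕ)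
    (hsub : ∀ A, Cl A → ∀ y ∈ A, cls y ⊆ A)
    (hdiff : ∀ A, Cl A → ∀ y, Cl (A \ cls y))
    (hγ : ∀ A, Cl A → ∀ y ∈ A, 2 ∣ γ y ∧ 4 ≤ γ y ∧
      ∃ ν, (ν = γ y ∨ ν = 2 * γ y) ∧ (cls y).ncard * ν = g * (γ y - 2))
    (hconst : ∀ y, ∀ w ∈ cls y, γ w = γ y)
    (A₀ : Set Γ) (hA₀ : Cl A₀)
    (N q e' k : ℕ) (hN : N = 1 + k * (q + 3)) (hk : 1 ≤ k) (he : e' + 1 ≤ q + 2)
    (hg : g = N * ((q + 3) * (2 * (e' + 1))))
    (hcount : A₀.ncard + 2 + N * (2 * q + 4) = g)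
    (hb : 1 ≤ e' → ∃ b ∈ A₀, γ b = 2 * (e' + 1)) :
    k = 1 ∨ (q = 0 ∧ ∀ w ∈ A₀, γ w = 4 ∨ γ w = 10) := by
  have pick : ∀ A, Cl A → ∀ y ∈ A, ∃ m ν, m = (cls y).ncard ∧ 2 ∣ γ y ∧ 4 ≤ γ y ∧
      (ν = γ y ∨ ν = 2 * γ y) ∧ m * ν = g * (γ y - 2) ∧ g ≤ 4 * m ∧ (ν = γ y → g ≤ 2 * m) ∧
      (A \ cls y).ncard + m = A.ncard := by
    intro A hA y hy
    obtain ⟨h2, h4, ν, hν, heq⟩ := hγ A hA y hy
    obtain ⟨b1, b2⟩ := ar_class g (γ y) ν _ heq h4 hν
    exact ⟨_, ν, rfl, h2, h4, hν, heq, b1, b2,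
      Set.ncard_sdiff_add_ncard_of_subset (hsub A hA y hy) (Set.toFinite A)⟩
  have hN4 : 4 ≤ N := by
    rw [hN]
    have : 1 * 3 ≤ k * (q + 3) := Nat.mul_le_mul hk (by omega)
    omega
  have hA1 : A₀.ncard + 2 = 2 * N * (q + 3) * e' + 2 * N := by
    have h1 : N * ((q + 3) * (2 * (e' + 1))) =
        (2 * N * (q + 3) * e' + 2 * N) + N * (2 * q + 4) := by ring
    rw [hg, h1] at hcount
    linarith
  have hNq : 0 ≤ N * q := Nat.zero_le _
  rcases Nat.eq_zero_or_pos e' with he0 | he1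
  · -- `e' = 0`
    subst he0
    have hA1' : A₀.ncard + 2 = 2 * N := by rw [hA1]; ring
    have hgg : g = 2 * (N * q) + 6 * N := by rw [hg]; ring
    obtain ⟨y, hy⟩ : A₀.Nonempty := Set.nonempty_of_ncard_ne_zero (by omega)
    obtain ⟨m, ν, hm, h2γ, h4γ, hν, heq, b1, b2, hsplit⟩ := pick A₀ hA₀ y hy
    have hν2 : ν = 2 * γ y := by
      rcases hν with h | h
      · exfalso
        have := b2 h
        linarith
      · exact h
    have hA' : (A₀ \ cls y).ncard = 0 := by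
      by_contra hne'
      obtain ⟨y', hy'⟩ := Set.nonempty_of_ncard_ne_zero hne'
      obtain ⟨m', ν', hm', -, -, -, -, b1', -, hsplit'⟩ := pick _ (hdiff A₀ hA₀ y) y' hy'
      linarith
    have hm_eq : m = 2 * N - 2 := by omega
    left
    have hL := ar_L1 N q (γ y) (by omega) h4γ h2γ (by
      rw [← hm_eq, ← hν2, heq, hg]; ring)
    obtain ⟨hq0, hN4'⟩ := hL
    subst hq0
    omega
  · obtain ⟨b, hbA, hγb⟩ := hb he1
    obtain ⟨mb, νb, hmb, -, -, hνb, heqb, b1b, b2b, hsplitb⟩ := pick A₀ hA₀ b hbA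
    rw [hγb] at hνb heqb b2b
    have e2 : 2 * (e' + 1) - 2 = 2 * e' := by omega
    rw [e2, hg] at heqb
    have hcl' := hdiff A₀ hA₀ b
    rcases hνb with h | h
    · exfalso
      rw [h] at heqb
      have hmb' : mb = N * (q + 3) * (2 * e') := by
        have h1 : mb * (2 * (e' + 1)) = (N * (q + 3) * (2 * e')) * (2 * (e' + 1)) := by
          rw [heqb]; ring
        exact Nat.eq_of_mul_eq_mul_right (by omega) h1
      have hA'c : (A₀ \ cls b).ncard + 2 = 2 * N := by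
        have h1 : N * (q + 3) * (2 * e') = 2 * N * (q + 3) * e' := by ring
        linarith
      obtain ⟨y', hy'⟩ : (A₀ \ cls b).Nonempty := Set.nonempty_of_ncard_ne_zero (by omega)
      obtain ⟨m', ν', hm', -, -, -, -, b1', -, hsplit'⟩ := pick _ hcl' y' hy'
      have hg12 : 12 * N ≤ g := by
        have h1 : N * 1 ≤ N * e' := Nat.mul_le_mul_left N he1
        have h3 : N * ((q + 3) * (2 * (e' + 1))) =
            2 * (N * q * e') + 2 * (N * q) + 6 * (N * e') + 6 * N := by ring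
        rw [hg, h3]
        have h4 := Nat.zero_le (N * q * e')
        linarith
      linarith
    · rw [h] at heqb
      have hmb' : mb = N * (q + 3) * e' := by
        have h1 : mb * (2 * (2 * (e' + 1))) = (N * (q + 3) * e') * (2 * (2 * (e' + 1))) := by
          rw [heqb]; ring
        exact Nat.eq_of_mul_eq_mul_right (by omega) h1
      have hA2 : (A₀ \ cls b).ncard + 2 = N * (q + 3) * e' + 2 * N := by
        have h1 : 2 * N * (q + 3) * e' = N * (q + 3) * e' + N * (q + 3) * e' := by ring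
        linarith
      have hX : 0 ≤ N * (q + 3) * e' := Nat.zero_le _
      obtain ⟨y, hy⟩ : (A₀ \ cls b).Nonempty := by
        apply Set.nonempty_of_ncard_ne_zero
        intro h0
        rw [h0] at hA2
        linarith
      obtain ⟨m, ν, hm, h2γ, h4γ, hν, heq, b1, b2, hsplit⟩ := pick _ hcl' y hy
      have hgexp : g = 2 * (N * (q + 3) * e') + 2 * (N * q) + 6 * N := by rw [hg]; ring
      have hν2 : ν = 2 * γ y := by
        rcases hν with h' | h'
        · exfalso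
          have := b2 h'
          linarith
        · exact h'
      have hA'' : ((A₀ \ cls b) \ cls y).ncard = 0 := by
        by_contra hne'
        obtain ⟨y', hy'⟩ := Set.nonempty_of_ncard_ne_zero hne'
        obtain ⟨m', ν', hm', -, -, -, -, b1', -, hsplit'⟩ := pick _ (hdiff _ hcl' y) y' hy'
        linarith
      have hm_eq : m + 2 = N * (q + 3) * e' + 2 * N := by linarith
      obtain ⟨c, hc⟩ := h2γ
      have hc2 : 2 ≤ c := by omega
      obtain ⟨c', rfl⟩ : ∃ c', c = c' + 1 := ⟨c - 1, by omega⟩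
      rw [hν2, hc, hg] at heq
      have e3 : 2 * (c' + 1) - 2 = 2 * c' := by omega
      rw [e3] at heq
      have key : (c' + 1) * (1 + k * (q + 1)) = (e' + 1) * (1 + k * (q + 3)) := by
        subst hN
        have h4 : 4 * ((q + 3) * ((c' + 1) * (1 + k * (q + 1)))) =
            4 * ((q + 3) * ((e' + 1) * (1 + k * (q + 3)))) := by
          zify at heq hm_eq ⊢
          linear_combination (-1 : ℤ) * heq + (4 * ((c' : ℤ) + 1)) * hm_eq
        have h5 := Nat.eq_of_mul_eq_mul_left (by norm_num : 0 < 4) h4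
        exact Nat.eq_of_mul_eq_mul_left (by omega : 0 < q + 3) h5
      rcases ar_L2 q (e' + 1) k (c' + 1) (by omega) he hk key with hk1 | ⟨hk3, hq0, he2, hc5⟩
      · exact Or.inl hk1
      · right
        refine ⟨hq0, fun w hw => ?_⟩
        by_cases hwb : w ∈ cls b
        · left
          rw [hconst b w hwb, hγb]; omega
        · right
          have hwy : w ∈ cls y := by
            by_contra hwy
            have hmem : w ∈ (A₀ \ cls b) \ cls y := ⟨⟨hw, hwb⟩, hwy⟩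
            have hempty : (A₀ \ cls b) \ cls y = ∅ := (Set.ncard_eq_zero (Set.toFinite _)).mp hA''
            rw [hempty] at hmem
            exact hmem
          rw [hconst y w hwy, hc]; omega

section count
variable {F : Type*} [Field F] {G : Subgroup (S2 F)}

/-- semisimple elements -/
def SSset (G : Subgroup (S2 F)) : Set ↥G := {y | disc y.1 ≠ 0}

/-- sets of semisimple elements closed under centralizer classes -/
def ClosedS (G : Subgroup (S2 F)) (A : Set ↥G) : Prop :=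
  (∀ w ∈ A, disc w.1 ≠ 0) ∧ (∀ w ∈ A, Scl (ZG G) w ⊆ A)

theorem closedS_sdiff {A : Set ↥G} (hA : ClosedS G A) (y : ↥G) :
    ClosedS G (A \ Scl (ZG G) y) := by
  refine ⟨fun w hw => hA.1 w hw.1, fun w hw v hv => ⟨hA.2 w hw.1 hv, fun hvy => ?_⟩⟩
  have hwZ : w ∉ ZG G := ss_not_mem_ZG (hA.1 w hw.1)
  exact Set.disjoint_left.mp (Scl_disjoint (ZG G) hwZ hw.2) hv hvy

theorem closedS_SS (p : ℕ) [Fact p.Prime] [CharP F p] [Finite G] (h2 : (2 : F) ≠ 0)
    (hneg : (-1 : S2 F) ∈ G) {μ₀ : F} (hμ : μ₀ ≠ 0) (hx : xm μ₀ ∈ G) : ClosedS G (SSset G) := by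
  refine ⟨fun w hw => hw, fun w hw v hv => ?_⟩
  show disc v.1 ≠ 0
  intro hd
  have hvZ : v ∉ ZG G := hv.1
  have hv0 : v ∈ Scl (ZG G) (⟨xm μ₀, hx⟩ : ↥G) := by
    rw [Scl_unip p h2 hneg hμ hx]; exact ⟨hvZ, hd⟩
  have hwZ : w ∉ ZG G := ss_not_mem_ZG hw
  by_cases hw0 : w ∈ Scl (ZG G) (⟨xm μ₀, hx⟩ : ↥G)
  · rw [Scl_unip p h2 hneg hμ hx] at hw0
    exact hw hw0.2
  · exact Set.disjoint_left.mp (Scl_disjoint (ZG G) hwZ hw0) hv hv0

/-- **the counting theorem in standard position** -/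
theorem main_std (p : ℕ) [Fact p.Prime] [CharP F p] [Finite G] (h2 : (2 : F) ≠ 0)
    (hneg : (-1 : S2 F) ∈ G) {μ₀ ν₀ : F} (hμ : μ₀ ≠ 0) (hx : xm μ₀ ∈ G) (hν : ν₀ ≠ 0)
    (hy : ym ν₀ ∈ G) :
    xm (-(1 / (2 * ν₀))) ∈ G ∨
    (p = 3 ∧ ∀ w : ↥G, disc w.1 ≠ 0 → Nat.card (cen w) = 4 ∨ Nat.card (cen w) = 10) := by
  classical
  obtain ⟨k, hk1, hcardG, hkx⟩ := W_main (G := G) h2 hν hy
  have hpp := (Fact.out : p.Prime)
  have hUp : IsPGroup p (UTG G) := isPGroup_UTG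
  obtain ⟨nP, hnP⟩ := hUp.exists_card_eq
  have hp2 : p ≠ 2 := by
    rintro rfl
    apply h2
    have := CharP.cast_eq_zero F 2
    exact_mod_cast this
  have hp3 : 3 ≤ p := by have := hpp.two_le; omega
  have hnP0 : nP ≠ 0 := by
    rintro rfl
    rw [pow_zero] at hnP
    haveI hsub : Subsingleton (UTG G) := (Nat.card_eq_one_iff_unique.mp hnP).1
    have hmem : (⟨xm μ₀, hx⟩ : ↥G) ∈ UTG G := xm_mem_UT μ₀
    have h0 := Subsingleton.elim (⟨⟨xm μ₀, hx⟩, hmem⟩ : UTG G) 1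
    have h1 : xm μ₀ = (1 : S2 F) := congrArg (fun z : UTG G => (z.1.1 : S2 F)) h0
    rw [← xm_zero] at h1
    exact hμ (xm_inj h1)
  have hP3 : 3 ≤ Nat.card (UTG G) := by
    rw [hnP]
    calc 3 ≤ p := hp3
      _ = p ^ 1 := (pow_one p).symm
      _ ≤ p ^ nP := Nat.pow_le_pow_right hpp.pos (Nat.one_le_iff_ne_zero.mpr hnP0)
  have hPp : Nat.card (UTG G) = 3 → p = 3 := by
    intro h
    rw [hnP] at h
    have h1 : p ∣ 3 := by rw [← h]; exact dvd_pow_self p hnP0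
    exact (Nat.prime_dvd_prime_iff_eq hpp Nat.prime_three).mp h1
  obtain ⟨q, hq⟩ : ∃ q, Nat.card (UTG G) = q + 3 := ⟨Nat.card (UTG G) - 3, by omega⟩
  haveI := finite_T0 (G := G)
  have htpos : 0 < Nat.card (T0 G) := Nat.card_pos
  obtain ⟨e, he⟩ := two_dvd_card_T0 (G := G) h2 hneg
  obtain ⟨e', rfl⟩ : ∃ e', e = e' + 1 := ⟨e - 1, by omega⟩
  have htle := card_T0_le (G := G) hμ hx
  have hee : e' + 1 ≤ q + 2 := by omega
  have hBT : Nat.card (BTG G) = (q + 3) * (2 * (e' + 1)) := by rw [card_BTG, hq, he]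
  obtain ⟨N, hN⟩ : ∃ N, N = 1 + k * (q + 3) := ⟨_, rfl⟩
  have hg : Nat.card G = N * ((q + 3) * (2 * (e' + 1))) := by rw [hcardG, hq, hBT, hN]
  have hu0 : (⟨xm μ₀, hx⟩ : ↥G) ∉ ZG G := fun h => not_isScal_xm hμ (mem_ZG.mp h)
  have hS0 := class_count (ZG G) hZ_G hCT_G (⟨xm μ₀, hx⟩ : ↥G) hu0
  rw [cen_xmG hμ hx, normalizer_PUTG hμ hx, card_PUTG h2 hneg, card_ZG h2 hneg, hBT, hq] at hS0
  have hS0' : (Scl (ZG G) (⟨xm μ₀, hx⟩ : ↥G)).ncard = N * (2 * q + 4) := by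
    have e1 : 2 * (q + 3) - 2 = 2 * q + 4 := by omega
    rw [e1, hg] at hS0
    have h1 : (Scl (ZG G) (⟨xm μ₀, hx⟩ : ↥G)).ncard * ((q + 3) * (2 * (e' + 1))) =
        (N * (2 * q + 4)) * ((q + 3) * (2 * (e' + 1))) := by rw [hS0]; ring
    exact Nat.eq_of_mul_eq_mul_right (by positivity) h1
  have hpart : (SSset G).ncard + 2 + N * (2 * q + 4) = Nat.card G := by
    rw [← hS0', Scl_unip p h2 hneg hμ hx]
    have hZc : ((ZG G : Subgroup ↥G) : Set ↥G).ncard = 2 := by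
      rw [← card_eq_ncard]; exact card_ZG h2 hneg
    have huniv : (Set.univ : Set ↥G) = SSset G ∪ (((ZG G : Subgroup ↥G) : Set ↥G) ∪
        {y : ↥G | y ∉ ZG G ∧ disc y.1 = 0}) := by
      ext y
      simp only [Set.mem_univ, Set.mem_union, SetLike.mem_coe, true_iff]
      by_cases hd : disc y.1 = 0
      · by_cases hz : y ∈ ZG G
        · exact Or.inr (Or.inl hz)
        · exact Or.inr (Or.inr ⟨hz, hd⟩)
      · exact Or.inl hd
    have hd1 : Disjoint (SSset G) (((ZG G : Subgroup ↥G) : Set ↥G) ∪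
        {y : ↥G | y ∉ ZG G ∧ disc y.1 = 0}) := by
      rw [Set.disjoint_left]
      rintro y hy (hz | hz)
      · exact hy (disc_scal (mem_ZG.mp hz))
      · exact hy hz.2
    have hd2 : Disjoint (((ZG G : Subgroup ↥G) : Set ↥G))
        {y : ↥G | y ∉ ZG G ∧ disc y.1 = 0} := by
      rw [Set.disjoint_left]
      rintro y hy hz
      exact hz.1 hy
    rw [← Set.ncard_univ, huniv, Set.ncard_union_eq hd1 (Set.toFinite _) (Set.toFinite _),
      Set.ncard_union_eq hd2 (Set.toFinite _) (Set.toFinite _), hZc]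
    ring
  have hcore := count_core (Γ := ↥G) (ClosedS G) (Scl (ZG G)) (fun y => Nat.card (cen y))
    (Nat.card G) (fun A hA y hy => hA.2 y hy) (fun A hA y => closedS_sdiff hA y)
    (fun A hA y hy => by
      have hd := hA.1 y hy
      obtain ⟨c1, c2⟩ := ss_card_cen h2 hneg hd
      have hcc := class_count (ZG G) hZ_G hCT_G y (ss_not_mem_ZG hd)
      rw [card_ZG h2 hneg] at hcc
      exact ⟨c1, c2, _, ss_card_normalizer h2 hd, hcc⟩)
    (fun y w hw => card_cen_of_mem_Scl (ZG G) hw)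
    (SSset G) (closedS_SS p h2 hneg hμ hx) N q e' k hN hk1 hee hg hpart
    (fun he1 => by
      obtain ⟨b, hb1, hb2⟩ := exists_T_elt (G := G) (by rw [he]; omega)
      exact ⟨b, hb1, by rw [hb2, he]⟩)
  rcases hcore with hk | ⟨hq0, hall⟩
  · exact Or.inl (hkx hk)
  · right
    exact ⟨hPp (by rw [hq, hq0]), fun w hw => hall w hw⟩

end count

end Cfsg.Agent.Helper5.SL2
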