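import Cfsg.Agent.Helper5.SL2F
set_option autoImplicit false
namespace Cfsg.Agent.Helper5.SL2
open Matrix

variable {F : Type*} [Field F]

theorem tr_mul_add (g x : S2 F) : tr (g * x) + tr (g⁻¹ * x) = tr g * tr x := by
  unfold tr
  rw [mul00, mul11, mul00, mul11, inv00, inv01, inv10, inv11]
  ring

theorem tr_pow_succ2 (g : S2 F) (n : ℕ) :
    tr (g ^ (n + 2)) = tr g * tr (g ^ (n + 1)) - tr (g ^ n) := by
  have h := tr_mul_add g (g ^ (n + 1))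
  have e1 : g * g ^ (n + 1) = g ^ (n + 2) := by rw [← pow_succ']
  have e2 : g⁻¹ * g ^ (n + 1) = g ^ n := by rw [pow_succ', inv_mul_cancel_left]
  rw [e1, e2] at h
  linear_combination h

theorem tr_pow2 (g : S2 F) : tr (g ^ 2) = tr g ^ 2 - 2 := by
  have h := tr_pow_succ2 g 0
  rw [pow_zero, tr_one, zero_add, pow_one] at h
  linear_combination h

theorem tr_pow3 (g : S2 F) : tr (g ^ 3) = tr g ^ 3 - 3 * tr g := by
  have h := tr_pow_succ2 g 1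
  rw [pow_one, tr_pow2] at h
  linear_combination h

theorem tr_pow4 (g : S2 F) : tr (g ^ 4) = tr g ^ 4 - 4 * tr g ^ 2 + 2 := by
  have h := tr_pow_succ2 g 2
  rw [tr_pow3, tr_pow2] at h
  linear_combination h

theorem tr_pow5 (g : S2 F) : tr (g ^ 5) = tr g ^ 5 - 5 * tr g ^ 3 + 5 * tr g := by
  have h := tr_pow_succ2 g 3
  rw [tr_pow4, tr_pow3] at h
  linear_combination h

theorem tr_of_pow4 {g : S2 F} (hd : disc g ≠ 0) (h4 : g ^ 4 = 1) : tr g = 0 := by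
  have h := tr_pow4 g
  rw [h4, tr_one] at h
  have h1 : tr g ^ 2 * disc g = 0 := by rw [disc_eq]; linear_combination -h
  rcases mul_eq_zero.mp h1 with h' | h'
  · exact pow_eq_zero_iff (by norm_num) |>.mp h'
  · exact absurd h' hd

theorem tr_of_pow10 {g : S2 F} (hd : disc g ≠ 0) (h10 : g ^ 10 = 1) :
    tr g ^ 2 + tr g - 1 = 0 ∨ tr g ^ 2 - tr g - 1 = 0 := by
  have h := tr_pow2 (g ^ 5)
  rw [← pow_mul, h10, tr_one, tr_pow5] at h
  rw [disc_eq] at hd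
  have hm2 : tr g - 2 ≠ 0 := by
    intro h0; apply hd; linear_combination (tr g + 2) * h0
  have hp2 : tr g + 2 ≠ 0 := by
    intro h0; apply hd; linear_combination (tr g - 2) * h0
  have h1 : ((tr g - 2) * (tr g ^ 2 + tr g - 1) ^ 2) * ((tr g + 2) * (tr g ^ 2 - tr g - 1) ^ 2) = 0 := by
    linear_combination -h
  rcases mul_eq_zero.mp h1 with h' | h'
  · left
    rcases mul_eq_zero.mp h' with h'' | h''
    · exact absurd h'' hm2
    · exact pow_eq_zero_iff (by norm_num) |>.mp h''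
  · right
    rcases mul_eq_zero.mp h' with h'' | h''
    · exact absurd h'' hp2
    · exact pow_eq_zero_iff (by norm_num) |>.mp h''

theorem v2_prop {G : Subgroup (S2 F)} {μ₀ ν₀ : F} (hx : xm μ₀ ∈ G) (hy : ym ν₀ ∈ G) :
    ∃ v ∈ G, tr v = 2 ∧ v.1 1 0 = -(μ₀ ^ 3 * ν₀ ^ 4) := by
  have h1 : ym ν₀ * xm μ₀ * (ym ν₀)⁻¹ ∈ G := G.mul_mem (G.mul_mem hy hx) (G.inv_mem hy)
  refine ⟨(ym ν₀ * xm μ₀ * (ym ν₀)⁻¹) * xm μ₀ * (ym ν₀ * xm μ₀ * (ym ν₀)⁻¹)⁻¹,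
    G.mul_mem (G.mul_mem h1 hx) (G.inv_mem h1), ?_, ?_⟩
  · rw [tr_conj, tr_xm]
  · rw [conj_xm_10, conj_xm_10, ym_10]
    ring

/-- a unipotent pair whose parameters have product in the prime field -/
def GoodPair (p : ℕ) [Fact p.Prime] [CharP F p] (G : Subgroup (S2 F)) : Prop :=
  ∃ (μ : F) (v : S2 F), xm μ ∈ G ∧ v ∈ G ∧ tr v = 2 ∧
    ∃ i : ZMod p, i ≠ 0 ∧ μ * v.1 1 0 = ZMod.castHom (dvd_refl p) F i

theorem goodPair_std (p : ℕ) [Fact p.Prime] [CharP F p] {G : Subgroup (S2 F)} [Finite G]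
    (h2 : (2 : F) ≠ 0) (hneg : (-1 : S2 F) ∈ G) {μ₀ ν₀ : F} (hμ : μ₀ ≠ 0) (hx : xm μ₀ ∈ G)
    (hν : ν₀ ≠ 0) (hy : ym ν₀ ∈ G) : GoodPair p G := by
  rcases main_std p h2 hneg hμ hx hν hy with h | ⟨h3, hall⟩
  · refine ⟨-(1 / (2 * ν₀)), ym ν₀, h, hy, tr_ym ν₀, -(2 : ZMod p)⁻¹, ?_, ?_⟩
    · apply neg_ne_zero.mpr
      apply inv_ne_zero
      intro h0
      apply h2
      have := congrArg (ZMod.castHom (dvd_refl p) F) h0
      rwa [map_ofNat, map_zero] at this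
    · rw [ym_10, map_neg, map_inv₀, map_ofNat]
      field_simp
  · subst h3
    have h3F : (3 : F) = 0 := by exact_mod_cast CharP.cast_eq_zero F 3
    have hMG : xm μ₀ * ym ν₀ ∈ G := G.mul_mem hx hy
    have htr : tr (xm μ₀ * ym ν₀) = 2 + μ₀ * ν₀ := by
      unfold tr
      rw [mul00, mul11]
      simp
      ring
    have hρ0 : μ₀ * ν₀ ≠ 0 := mul_ne_zero hμ hν
    by_cases hd : disc (xm μ₀ * ym ν₀) = 0
    · have h1 : μ₀ * ν₀ * (μ₀ * ν₀ + 4) = 0 := by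
        rw [disc_eq, htr] at hd; linear_combination hd
      have hρ : μ₀ * ν₀ = -1 := by
        rcases mul_eq_zero.mp h1 with h | h
        · exact absurd h hρ0
        · linear_combination h - h3F
      exact ⟨μ₀, ym ν₀, hx, hy, tr_ym ν₀, -1, neg_ne_zero.mpr one_ne_zero, by
        rw [ym_10, hρ, map_neg, map_one]⟩
    · have hpw : ∀ n : ℕ, Nat.card (cen (⟨xm μ₀ * ym ν₀, hMG⟩ : ↥G)) = n →
          (xm μ₀ * ym ν₀) ^ n = 1 := by
        intro n hn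
        have h1 : (⟨⟨xm μ₀ * ym ν₀, hMG⟩, self_mem_cen _⟩ :
            cen (⟨xm μ₀ * ym ν₀, hMG⟩ : ↥G)) ^ Nat.card (cen (⟨xm μ₀ * ym ν₀, hMG⟩ : ↥G)) = 1 :=
          pow_card_eq_one'
        rw [hn] at h1
        have h2' := congrArg (fun z : cen (⟨xm μ₀ * ym ν₀, hMG⟩ : ↥G) => ((z : ↥G) : S2 F)) h1
        exact h2'
      obtain ⟨v, hvG, hvtr, hv10⟩ := v2_prop hx hy
      rcases hall ⟨xm μ₀ * ym ν₀, hMG⟩ hd with h4 | h10
      · have ht0 := tr_of_pow4 hd (hpw 4 h4)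
        have hρ : μ₀ * ν₀ = 1 := by rw [htr] at ht0; linear_combination ht0 - h3F
        exact ⟨μ₀, ym ν₀, hx, hy, tr_ym ν₀, 1, one_ne_zero, by rw [ym_10, hρ, map_one]⟩
      · rcases tr_of_pow10 hd (hpw 10 h10) with h | h
        · rw [htr] at h
          have hρ4 : (μ₀ * ν₀) ^ 4 = -1 := by
            linear_combination ((μ₀ * ν₀) ^ 2 + μ₀ * ν₀ + 2) * h +
              (-2 * (μ₀ * ν₀) ^ 3 - 4 * (μ₀ * ν₀) ^ 2 - 5 * (μ₀ * ν₀) - 3) * h3F
          refine ⟨μ₀, v, hx, hvG, hvtr, 1, one_ne_zero, ?_⟩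
          rw [hv10, map_one]
          linear_combination -hρ4
        · rw [htr] at h
          have hρ4 : (μ₀ * ν₀) ^ 4 = 1 := by
            linear_combination ((μ₀ * ν₀) ^ 2 - 1) * h +
              (-((μ₀ * ν₀) ^ 2 - 1) * (μ₀ * ν₀)) * h3F
          refine ⟨μ₀, v, hx, hvG, hvtr, -1, neg_ne_zero.mpr one_ne_zero, ?_⟩
          rw [hv10, map_neg, map_one]
          linear_combination -hρ4

end Cfsg.Agent.Helper5.SL2
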