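import Cfsg.Agent.Helper5.SL2G
import Cfsg.Agent.Helper27.SL2Elem
set_option autoImplicit false
namespace Cfsg.Agent.Helper5.SL2
open Matrix
open Cfsg.Agent.Helper27.SL2E

variable {F : Type*} [Field F]

/-- conjugation by `diag(μ, 1)` -/
def delta (μ : F) (hμ : μ ≠ 0) : S2 F →* S2 F where
  toFun g := mk2 (g.1 0 0) (μ * g.1 0 1) (μ⁻¹ * g.1 1 0) (g.1 1 1) (by
    have h := det_eq g
    have e : μ * g.1 0 1 * (μ⁻¹ * g.1 1 0) = g.1 0 1 * g.1 1 0 := by
      field_simp
    rw [e]; exact h)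
  map_one' := by
    apply ext2 <;> simp
  map_mul' := by
    intro a b
    apply ext2
    · simp only [mk2_00, mk2_01, mk2_10, mul00]
      field_simp
    · simp only [mk2_00, mk2_01, mk2_11, mul01, mul00]
      ring
    · simp only [mk2_00, mk2_10, mk2_11, mul10]
      ring
    · simp only [mk2_01, mk2_10, mk2_11, mul11]
      field_simp

theorem delta_injective (μ : F) (hμ : μ ≠ 0) : Function.Injective (delta μ hμ) := by
  intro g h hgh
  have e00 := congrArg (fun z : S2 F => z.1 0 0) hgh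
  have e01 := congrArg (fun z : S2 F => z.1 0 1) hgh
  have e10 := congrArg (fun z : S2 F => z.1 1 0) hgh
  have e11 := congrArg (fun z : S2 F => z.1 1 1) hgh
  simp only [delta, MonoidHom.coe_mk, OneHom.coe_mk, mk2_00, mk2_01, mk2_10, mk2_11] at e00 e01 e10 e11
  exact ext2 e00 (mul_left_cancel₀ hμ e01) (mul_left_cancel₀ (inv_ne_zero hμ) e10) e11

theorem delta_xm (μ : F) (hμ : μ ≠ 0) (t : F) : delta μ hμ (xm t) = xm (μ * t) := by
  apply ext2 <;> simp [delta]

theorem delta_ym (μ : F) (hμ : μ ≠ 0) (t : F) : delta μ hμ (ym t) = ym (μ⁻¹ * t) := by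
  apply ext2 <;> simp [delta]

/-- a unipotent element with nonzero lower-left entry is an `xm`-conjugate of a `ym` -/
theorem unip_conj_ym (u : S2 F) (htr : tr u = 2) (hc : u.1 1 0 ≠ 0) :
    xm ((u.1 0 0 - 1) / u.1 1 0) * ym (u.1 1 0) * (xm ((u.1 0 0 - 1) / u.1 1 0))⁻¹ = u := by
  have hd := det_eq u
  unfold tr at htr
  apply ext2
  · rw [mul00, mul00, mul01, inv00, inv10]
    simp
    field_simp
    ring
  · rw [mul01, mul00, mul01, inv01, inv11]
    simp
    field_simp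
    linear_combination (1 : F) * hd - (u.1 0 0) * htr
  · rw [mul10, mul10, mul11, inv00, inv10]
    simp
  · rw [mul11, mul10, mul11, inv01, inv11]
    simp
    field_simp
    linear_combination (-1 : F) * htr

/-- a unipotent element with nonzero upper-right entry is a `ym`-conjugate of an `xm` -/
theorem unip_conj_xm (u : S2 F) (htr : tr u = 2) (hc : u.1 0 1 ≠ 0) :
    ym ((u.1 1 1 - 1) / u.1 0 1) * xm (u.1 0 1) * (ym ((u.1 1 1 - 1) / u.1 0 1))⁻¹ = u := by
  have hd := det_eq u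
  unfold tr at htr
  apply ext2
  · rw [mul00, mul00, mul01, inv00, inv10]
    simp
    field_simp
    linear_combination (-1 : F) * htr
  · rw [mul01, mul00, mul01, inv01, inv11]
    simp
  · rw [mul10, mul10, mul11, inv00, inv10]
    simp
    field_simp
    linear_combination (1 : F) * hd - (u.1 1 1) * htr
  · rw [mul11, mul10, mul11, inv01, inv11]
    simp
    field_simp
    ring

theorem Lm_pow' {p : ℕ} [Fact p.Prime] (t : ZMod p) (n : ℕ) :
    Lm t ^ n = Lm ((n : ZMod p) * t) := by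
  induction n with
  | zero => rw [pow_zero, Nat.cast_zero, zero_mul, Lm_zero]
  | succ k ih => rw [pow_succ, ih, ← Lm_add, Nat.cast_succ, add_mul, one_mul]

theorem closure_Um_Lm {p : ℕ} [Fact p.Prime] (i : ZMod p) (hi : i ≠ 0) :
    Subgroup.closure {Um (1 : ZMod p), Lm i} = ⊤ := by
  rw [eq_top_iff, ← closure_eq_top (p := p)]
  apply (Subgroup.closure_le _).mpr
  intro x hx
  rcases hx with h | h
  · rw [h]; exact Subgroup.subset_closure (by simp)
  · rw [Set.mem_singleton_iff] at h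
    rw [h]
    haveI : NeZero p := ⟨(Fact.out : p.Prime).ne_zero⟩
    have h1 : Lm (1 : ZMod p) = Lm i ^ (i⁻¹).val := by
      rw [Lm_pow', ZMod.natCast_zmod_val, inv_mul_cancel₀ hi]
    rw [h1]
    exact Subgroup.pow_mem _ (Subgroup.subset_closure (by simp)) _

theorem map_Um {p : ℕ} [Fact p.Prime] [CharP F p] (t : ZMod p) :
    Matrix.SpecialLinearGroup.map (ZMod.castHom (dvd_refl p) F) (Um t) =
      xm (ZMod.castHom (dvd_refl p) F t) := by
  apply ext2 <;> simp [Matrix.SpecialLinearGroup.map_apply_coe, Um_coe]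

theorem map_Lm {p : ℕ} [Fact p.Prime] [CharP F p] (t : ZMod p) :
    Matrix.SpecialLinearGroup.map (ZMod.castHom (dvd_refl p) F) (Lm t) =
      ym (ZMod.castHom (dvd_refl p) F t) := by
  apply ext2 <;> simp [Matrix.SpecialLinearGroup.map_apply_coe, Lm_coe]

/-- a good pair generates a copy of `SL(2, p)` -/
theorem K_of_goodPair (p : ℕ) [Fact p.Prime] [CharP F p] (H : Subgroup (S2 F))
    (h : GoodPair p H) :
    ∃ K : Subgroup (S2 F), K ≤ H ∧
      Nonempty (K ≃* Matrix.SpecialLinearGroup (Fin 2) (ZMod p)) := by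
  obtain ⟨μ, v, hxμ, hv, htr, i, hi, hprod⟩ := h
  have hιi : ZMod.castHom (dvd_refl p) F i ≠ 0 := by
    intro h0
    apply hi
    exact (RingHom.injective (ZMod.castHom (dvd_refl p) F)) (by rw [h0, map_zero])
  have hμ : μ ≠ 0 := by
    rintro rfl
    rw [zero_mul] at hprod
    exact hιi hprod.symm
  have hc : v.1 1 0 ≠ 0 := by
    intro h0
    rw [h0, mul_zero] at hprod
    exact hιi hprod.symm
  let ψ : Matrix.SpecialLinearGroup (Fin 2) (ZMod p) →* S2 F :=
    (MulAut.conj (xm ((v.1 0 0 - 1) / v.1 1 0))).toMonoidHom.comp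
      ((delta μ hμ).comp (Matrix.SpecialLinearGroup.map (ZMod.castHom (dvd_refl p) F)))
  have hψinj : Function.Injective ψ := by
    have h1 : Function.Injective
        (Matrix.SpecialLinearGroup.map (n := Fin 2) (ZMod.castHom (dvd_refl p) F)) := by
      intro a b hab
      apply Matrix.SpecialLinearGroup.ext
      intro r s
      have h2 := congrArg (fun z : S2 F => z.1 r s) hab
      simp only [Matrix.SpecialLinearGroup.map_apply_coe, RingHom.mapMatrix_apply,
        Matrix.map_apply] at h2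
      exact (RingHom.injective (ZMod.castHom (dvd_refl p) F)) h2
    exact (MulAut.conj (xm ((v.1 0 0 - 1) / v.1 1 0))).injective.comp
      ((delta_injective μ hμ).comp h1)
  have hψU : ψ (Um 1) = xm μ := by
    show xm ((v.1 0 0 - 1) / v.1 1 0) * delta μ hμ (Matrix.SpecialLinearGroup.map
      (ZMod.castHom (dvd_refl p) F) (Um 1)) * (xm ((v.1 0 0 - 1) / v.1 1 0))⁻¹ = xm μ
    rw [map_Um, map_one, delta_xm, mul_one, xm_inv, xm_add, xm_add]
    congr 1
    ring
  have hψL : ψ (Lm i) = v := by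
    show xm ((v.1 0 0 - 1) / v.1 1 0) * delta μ hμ (Matrix.SpecialLinearGroup.map
      (ZMod.castHom (dvd_refl p) F) (Lm i)) * (xm ((v.1 0 0 - 1) / v.1 1 0))⁻¹ = v
    rw [map_Lm, delta_ym]
    have h1 : μ⁻¹ * ZMod.castHom (dvd_refl p) F i = v.1 1 0 := by
      rw [← hprod]; field_simp
    rw [h1]
    exact unip_conj_ym v htr hc
  refine ⟨ψ.range, ?_, ⟨(MonoidHom.ofInjective hψinj).symm⟩⟩
  rw [MonoidHom.range_eq_map, ← closure_Um_Lm i hi, MonoidHom.map_closure, Set.image_pair,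
    hψU, hψL]
  apply (Subgroup.closure_le _).mpr
  intro z hz
  rcases hz with h | h
  · rw [h]; exact hxμ
  · rw [Set.mem_singleton_iff] at h
    rw [h]; exact hv

theorem unip_upper {u : S2 F} (htr : tr u = 2) (h10 : u.1 1 0 = 0) : u = xm (u.1 0 1) := by
  have hd := det_eq u
  unfold tr at htr
  have h1 : (u.1 0 0 - 1) ^ 2 = 0 := by
    rw [h10] at hd
    linear_combination (-1 : F) * hd + (u.1 0 0) * htr
  have h00 : u.1 0 0 = 1 := sub_eq_zero.mp (pow_eq_zero_iff (by norm_num) |>.mp h1)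
  exact UT_eq_xm (mem_UT.mpr ⟨h10, h00⟩)

theorem unip_lower {u : S2 F} (htr : tr u = 2) (h01 : u.1 0 1 = 0) : u = ym (u.1 1 0) := by
  have hd := det_eq u
  unfold tr at htr
  have h1 : (u.1 0 0 - 1) ^ 2 = 0 := by
    rw [h01] at hd
    linear_combination (-1 : F) * hd + (u.1 0 0) * htr
  have h00 : u.1 0 0 = 1 := sub_eq_zero.mp (pow_eq_zero_iff (by norm_num) |>.mp h1)
  apply ext2
  · rw [ym_00]; exact h00
  · rw [ym_01]; exact h01
  · rw [ym_10]
  · rw [ym_11]; linear_combination htr - h00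

/-- standard position up to conjugacy -/
theorem exists_std (G : Subgroup (S2 F)) (u v : S2 F) (hu : u ∈ G) (hv : v ∈ G)
    (htu : tr u = 2) (htv : tr v = 2) (hne : u * v ≠ v * u) :
    ∃ (g : S2 F) (μ₀ ν₀ : F), μ₀ ≠ 0 ∧ ν₀ ≠ 0 ∧ g * xm μ₀ * g⁻¹ ∈ G ∧ g * ym ν₀ * g⁻¹ ∈ G := by
  by_cases hu10 : u.1 1 0 = 0
  · have huxm := unip_upper htu hu10
    have hv10 : v.1 1 0 ≠ 0 := by
      intro h0
      have hvxm := unip_upper htv h0
      apply hne
      rw [huxm, hvxm, xm_add, xm_add, add_comm]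
    have hμ0 : u.1 0 1 ≠ 0 := by
      intro h0
      apply hne
      rw [huxm, h0, xm_zero, one_mul, mul_one]
    refine ⟨xm ((v.1 0 0 - 1) / v.1 1 0), u.1 0 1, v.1 1 0, hμ0, hv10, ?_, ?_⟩
    · rw [xm_inv, xm_add, xm_add]
      have e : (v.1 0 0 - 1) / v.1 1 0 + u.1 0 1 + -((v.1 0 0 - 1) / v.1 1 0) = u.1 0 1 := by ring
      rw [e, ← huxm]
      exact hu
    · rw [unip_conj_ym v htv hv10]
      exact hv
  · have hu' := unip_conj_ym u htu hu10
    obtain ⟨ω, hω⟩ : ∃ ω : F, ω = (u.1 0 0 - 1) / u.1 1 0 := ⟨_, rfl⟩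
    rw [← hω] at hu'
    obtain ⟨v', hv'⟩ : ∃ v' : S2 F, v' = (xm ω)⁻¹ * v * xm ω := ⟨_, rfl⟩
    have htv' : tr v' = 2 := by
      have h1 := tr_conj (xm ω)⁻¹ v
      rw [inv_inv] at h1
      rw [hv', h1]
      exact htv
    have hv2 : v = xm ω * v' * (xm ω)⁻¹ := by rw [hv']; group
    have e1 : ∀ a b : S2 F, xm ω * a * (xm ω)⁻¹ * (xm ω * b * (xm ω)⁻¹) =
        xm ω * (a * b) * (xm ω)⁻¹ := by
      intro a b; group
    have hv'01 : v'.1 0 1 ≠ 0 := by
      intro h0
      have hv'ym := unip_lower htv' h0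
      apply hne
      rw [← hu', hv2, hv'ym, e1, e1, ym_add, ym_add, add_comm]
    have hv'' := unip_conj_xm v' htv' hv'01
    obtain ⟨ω', hω'⟩ : ∃ ω' : F, ω' = (v'.1 1 1 - 1) / v'.1 0 1 := ⟨_, rfl⟩
    rw [← hω'] at hv''
    refine ⟨xm ω * ym ω', v'.1 0 1, u.1 1 0, hv'01, hu10, ?_, ?_⟩
    · have e2 : xm ω * ym ω' * xm (v'.1 0 1) * (xm ω * ym ω')⁻¹ =
          xm ω * (ym ω' * xm (v'.1 0 1) * (ym ω')⁻¹) * (xm ω)⁻¹ := by group
      rw [e2, hv'', ← hv2]
      exact hv
    · have e2 : xm ω * ym ω' * ym (u.1 1 0) * (xm ω * ym ω')⁻¹ =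
          xm ω * (ym ω' * ym (u.1 1 0) * (ym ω')⁻¹) * (xm ω)⁻¹ := by group
      have e3 : ym ω' * ym (u.1 1 0) * (ym ω')⁻¹ = ym (u.1 1 0) := by
        rw [ym_add, add_comm, ← ym_add, mul_inv_cancel_right]
      rw [e2, e3, hu']
      exact hu

/-- `G` together with the negatives of its elements -/
def Gpm (G : Subgroup (S2 F)) : Subgroup (S2 F) where
  carrier := {g | g ∈ G ∨ -g ∈ G}
  mul_mem' := by
    rintro a b (ha | ha) (hb | hb)
    · exact Or.inl (G.mul_mem ha hb)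
    · right
      show -(a * b) ∈ G
      rw [← mul_neg]; exact G.mul_mem ha hb
    · right
      show -(a * b) ∈ G
      rw [← neg_mul]; exact G.mul_mem ha hb
    · left
      show a * b ∈ G
      rw [← neg_mul_neg]; exact G.mul_mem ha hb
  one_mem' := Or.inl G.one_mem
  inv_mem' := by
    rintro a (ha | ha)
    · exact Or.inl (G.inv_mem ha)
    · right
      show -a⁻¹ ∈ G
      rw [neg_inv]; exact G.inv_mem ha

theorem finite_Gpm (G : Subgroup (S2 F)) [Finite G] : Finite ↥(Gpm G) := by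
  have hGf : (G : Set (S2 F)).Finite := Set.toFinite _
  have h1 : ((Gpm G : Subgroup (S2 F)) : Set (S2 F)).Finite := by
    apply Set.Finite.subset (hGf.union (hGf.image (fun g => -g)))
    intro g hg
    rcases hg with h | h
    · exact Or.inl h
    · exact Or.inr ⟨-g, h, neg_neg g⟩
  exact h1.to_subtype

theorem unip_mem_of_Gpm (p : ℕ) [Fact p.Prime] [CharP F p] (hp2 : p ≠ 2) {G : Subgroup (S2 F)}
    {u : S2 F} (hu : u ∈ Gpm G) (htr : tr u = 2) : u ∈ G := by
  rcases hu with h | h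
  · exact h
  · have hodd : Odd p := (Fact.out : p.Prime).odd_of_ne_two hp2
    have h1 : (-u) ^ p = -1 := by
      rw [Odd.neg_pow hodd, pow_p_unip p u htr]
    have h2 : (-1 : S2 F) ∈ G := by rw [← h1]; exact G.pow_mem h p
    have h3 : u = (-1) * (-u) := by rw [neg_mul_neg, one_mul]
    rw [h3]
    exact G.mul_mem h2 h

/-- **Dickson**: a finite subgroup of `SL₂(F)` (`F` of odd characteristic `p`) containing two
noncommuting unipotent elements contains a copy of `SL(2, p)`. -/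
theorem dickson_unip (p : ℕ) [Fact p.Prime] [CharP F p] (hp2 : p ≠ 2) (G : Subgroup (S2 F))
    [Finite G] (u v : S2 F) (hu : u ∈ G) (hv : v ∈ G) (htu : tr u = 2) (htv : tr v = 2)
    (hne : u * v ≠ v * u) :
    ∃ K : Subgroup (S2 F), K ≤ G ∧
      Nonempty (K ≃* Matrix.SpecialLinearGroup (Fin 2) (ZMod p)) := by
  have hpp := (Fact.out : p.Prime)
  have h2 : (2 : F) ≠ 0 := by
    intro h
    have h' : ((2 : ℕ) : F) = 0 := by exact_mod_cast h
    have h3 := (CharP.cast_eq_zero_iff F p 2).mp h'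
    exact hp2 ((Nat.prime_dvd_prime_iff_eq hpp Nat.prime_two).mp h3)
  obtain ⟨g, μ₀, ν₀, hμ, hν, hx, hy⟩ :=
    exists_std (Gpm G) u v (Or.inl hu) (Or.inl hv) htu htv hne
  haveI : Finite ↥(Gpm G) := finite_Gpm G
  haveI : Finite ↥((Gpm G).comap (MulAut.conj g).toMonoidHom) :=
    Finite.of_injective
      (fun z : ↥((Gpm G).comap (MulAut.conj g).toMonoidHom) =>
        (⟨g * z.1 * g⁻¹, z.2⟩ : ↥(Gpm G))) (by
      intro a b hab
      have h1 : g * a.1 * g⁻¹ = g * b.1 * g⁻¹ := congrArg Subtype.val hab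
      apply Subtype.ext
      exact (MulAut.conj g).injective h1)
  have hneg : (-1 : S2 F) ∈ (Gpm G).comap (MulAut.conj g).toMonoidHom := by
    show g * (-1) * g⁻¹ ∈ Gpm G
    have e : g * (-1) * g⁻¹ = -1 := by rw [mul_neg, mul_one, neg_mul, mul_inv_cancel]
    rw [e]
    exact Or.inr (by rw [neg_neg]; exact G.one_mem)
  have hgp := goodPair_std p (G := (Gpm G).comap (MulAut.conj g).toMonoidHom) h2 hneg hμ hx hν hy
  obtain ⟨μ, w, hxμ, hw, htr, i, hi, hprod⟩ := hgp
  have hxμ' : xm μ ∈ G.comap (MulAut.conj g).toMonoidHom := by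
    show g * xm μ * g⁻¹ ∈ G
    exact unip_mem_of_Gpm p hp2 (show g * xm μ * g⁻¹ ∈ Gpm G from hxμ) (by rw [tr_conj, tr_xm])
  have hw' : w ∈ G.comap (MulAut.conj g).toMonoidHom := by
    show g * w * g⁻¹ ∈ G
    exact unip_mem_of_Gpm p hp2 (show g * w * g⁻¹ ∈ Gpm G from hw) (by rw [tr_conj]; exact htr)
  obtain ⟨K', hK', ⟨e⟩⟩ := K_of_goodPair p (G.comap (MulAut.conj g).toMonoidHom)
    ⟨μ, w, hxμ', hw', htr, i, hi, hprod⟩
  refine ⟨K'.map (MulAut.conj g).toMonoidHom, ?_,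
    ⟨(K'.equivMapOfInjective _ (MulAut.conj g).injective).symm.trans e⟩⟩
  rintro _ ⟨k, hk, rfl⟩
  exact hK' hk

end Cfsg.Agent.Helper5.SL2
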