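import Mathlib
import Cfsg.Prelude
import Cfsg.Agent.Helper5.PStabSolv

/-!
# `SL(2,3)` sections survive quotients by normal `3`-subgroups (helper5)
-/

set_option autoImplicit false

namespace Cfsg.Agent.Helper5

open scoped commutatorElement

set_option maxRecDepth 100000 in
theorem sl23_aux : ∀ a b c d : ZMod 3, a * d - b * c = 1 →
    (!![a, b; c, d] : Matrix (Fin 2) (Fin 2) (ZMod 3)) ^ 3 = 1 →
    (!![a, b; c, d] * (!![1, 1; 0, 1] * !![a, b; c, d] * !![1, -1; 0, 1])) ^ 3 = 1 →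
    (!![a, b; c, d] * (!![1, 0; 1, 1] * !![a, b; c, d] * !![1, 0; -1, 1])) ^ 3 = 1 →
    (!![a, b; c, d] : Matrix (Fin 2) (Fin 2) (ZMod 3)) = 1 := by decide

/-- `O_3(SL(2,3)) = 1`: a normal subgroup of exponent `3` of `SL(2,3)` is trivial -/
theorem sl23_normal_three (N : Subgroup (Matrix.SpecialLinearGroup (Fin 2) (ZMod 3)))
    [hN : N.Normal] (h : ∀ x ∈ N, x ^ 3 = 1) : N = ⊥ := by
  rw [eq_bot_iff]
  intro x hx
  rw [Subgroup.mem_bot]
  obtain ⟨U, hU⟩ : ∃ U : Matrix.SpecialLinearGroup (Fin 2) (ZMod 3),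
      (U : Matrix (Fin 2) (Fin 2) (ZMod 3)) = !![1, 1; 0, 1] :=
    ⟨⟨!![1, 1; 0, 1], by simp [Matrix.det_fin_two]⟩, rfl⟩
  obtain ⟨Ui, hUi⟩ : ∃ U : Matrix.SpecialLinearGroup (Fin 2) (ZMod 3),
      (U : Matrix (Fin 2) (Fin 2) (ZMod 3)) = !![1, -1; 0, 1] :=
    ⟨⟨!![1, -1; 0, 1], by simp [Matrix.det_fin_two]⟩, rfl⟩
  obtain ⟨L, hL⟩ : ∃ U : Matrix.SpecialLinearGroup (Fin 2) (ZMod 3),
      (U : Matrix (Fin 2) (Fin 2) (ZMod 3)) = !![1, 0; 1, 1] :=
    ⟨⟨!![1, 0; 1, 1], by simp [Matrix.det_fin_two]⟩, rfl⟩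
  obtain ⟨Li, hLi⟩ : ∃ U : Matrix.SpecialLinearGroup (Fin 2) (ZMod 3),
      (U : Matrix (Fin 2) (Fin 2) (ZMod 3)) = !![1, 0; -1, 1] :=
    ⟨⟨!![1, 0; -1, 1], by simp [Matrix.det_fin_two]⟩, rfl⟩
  have hUU : U⁻¹ = Ui := by
    apply inv_eq_of_mul_eq_one_right
    apply Subtype.ext
    rw [Matrix.SpecialLinearGroup.coe_mul, hU, hUi]
    decide
  have hLL : L⁻¹ = Li := by
    apply inv_eq_of_mul_eq_one_right
    apply Subtype.ext
    rw [Matrix.SpecialLinearGroup.coe_mul, hL, hLi]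
    decide
  have h1 := congrArg Subtype.val (h x hx)
  have h2 := congrArg Subtype.val (h _ (N.mul_mem hx (hN.conj_mem x hx U)))
  have h3 := congrArg Subtype.val (h _ (N.mul_mem hx (hN.conj_mem x hx L)))
  rw [hUU] at h2
  rw [hLL] at h3
  have e : (x : Matrix (Fin 2) (Fin 2) (ZMod 3)) =
      !![x.1 0 0, x.1 0 1; x.1 1 0, x.1 1 1] := Matrix.eta_fin_two _
  have hdet : x.1 0 0 * x.1 1 1 - x.1 0 1 * x.1 1 0 = 1 := by
    have := x.2
    rw [Matrix.det_fin_two] at this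
    exact this
  rw [Matrix.SpecialLinearGroup.coe_pow] at h1 h2 h3
  rw [Matrix.SpecialLinearGroup.coe_mul, Matrix.SpecialLinearGroup.coe_mul,
    Matrix.SpecialLinearGroup.coe_mul, hU, hUi] at h2
  rw [Matrix.SpecialLinearGroup.coe_mul, Matrix.SpecialLinearGroup.coe_mul,
    Matrix.SpecialLinearGroup.coe_mul, hL, hLi] at h3
  rw [e] at h1 h2 h3
  apply Subtype.ext
  rw [e]
  exact sl23_aux _ _ _ _ hdet h1 h2 h3

/-- an `SL(2,3)` section survives the quotient by a normal subgroup of exponent `3` -/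
theorem hasSL2Sec_quot_three {G : Type*} [Group G] (N : Subgroup G) [N.Normal]
    (hN : ∀ n ∈ N, n ^ 3 = 1) (h : HasSL2Sec 3 G) : HasSL2Sec 3 (G ⧸ N) := by
  obtain ⟨K, ψ, hψ⟩ := h
  have hker : N.subgroupOf K ≤ ψ.ker := by
    haveI : ((N.subgroupOf K).map ψ).Normal := Subgroup.Normal.map inferInstance ψ hψ
    have h1 := sl23_normal_three ((N.subgroupOf K).map ψ) (by
      rintro _ ⟨x, hx, rfl⟩
      rw [← map_pow]
      have : x ^ 3 = 1 := Subtype.ext (by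
        rw [Subgroup.coe_pow]; exact hN _ (Subgroup.mem_subgroupOf.mp hx))
      rw [this, map_one])
    intro x hx
    rw [MonoidHom.mem_ker]
    have : ψ x ∈ (N.subgroupOf K).map ψ := Subgroup.mem_map_of_mem ψ hx
    rw [h1, Subgroup.mem_bot] at this
    exact this
  have hgs : Function.Surjective ((QuotientGroup.mk' N).subgroupMap K) :=
    (QuotientGroup.mk' N).subgroupMap_surjective K
  have hgk : ((QuotientGroup.mk' N).subgroupMap K).ker ≤ ψ.ker := by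
    intro x hx
    apply hker
    rw [Subgroup.mem_subgroupOf]
    rw [MonoidHom.mem_ker] at hx
    have := congrArg Subtype.val hx
    exact (QuotientGroup.eq_one_iff _).mp this
  refine ⟨K.map (QuotientGroup.mk' N),
    MonoidHom.liftOfSurjective ((QuotientGroup.mk' N).subgroupMap K) hgs ⟨ψ, hgk⟩, ?_⟩
  intro t
  obtain ⟨k, hk⟩ := hψ t
  refine ⟨(QuotientGroup.mk' N).subgroupMap K k, ?_⟩
  rw [← hk]
  exact MonoidHom.liftOfRightInverse_comp_apply _ _ _ _ k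

end Cfsg.Agent.Helper5
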