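import Mathlib
import Cfsg.Prelude
import Cfsg.Agent.Helper5.PStabGen
import Cfsg.Agent.S0274

/-!
# `SL(2, p)` sections from quadratic pairs (helper5)

* `sl2_section_of_quad_pair`: a quadratic pair on an elementary abelian `p`-group `V` (`p` odd)
  which does not generate a `p`-group modulo `C(V)` involves `SL(2, p)`.
* `quad_mem_LL_or_sec`: an element acting quadratically on a normal `p`-subgroup `V` lies in
  `O_p` modulo `C_G(V)`, or `SL(2, p)` is a section of `G`.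
-/

set_option autoImplicit false

namespace Cfsg.Agent.Helper5

open scoped IsMulCommutative
open scoped commutatorElement
open Cfsg.Agent.S0653 Cfsg.Agent.Helper5.SL2

universe u

variable {G : Type u} [Group G]

theorem sl2_section_of_quad_pair [Finite G] {p : ℕ} [Fact p.Prime] (hp : p ≠ 2)
    (V : Subgroup G) [IsMulCommutative V] (hVp : ∀ v ∈ V, v ^ p = 1)
    (a b : G) (haV : a ∈ Subgroup.normalizer (V : Set G))
    (hbV : b ∈ Subgroup.normalizer (V : Set G))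
    (hqa : ∀ v ∈ V, ⁅⁅v, a⁆, a⁆ = 1) (hqb : ∀ v ∈ V, ⁅⁅v, b⁆, b⁆ = 1)
    (hnp : ∃ g ∈ Subgroup.closure {a, b}, ∀ k : ℕ,
      g ^ p ^ k ∉ Subgroup.centralizer (V : Set G)) :
    ∃ (K : Subgroup G) (ψ : ↥K →* Matrix.SpecialLinearGroup (Fin 2) (ZMod p)),
      K ≤ Subgroup.closure {a, b} ∧ Function.Surjective ψ := by
  obtain ⟨m, φ, hφ, hφa, hφb⟩ := bridge V hVp a b haV hbV hqa hqb hnp
  letI : Fintype (GaloisField p m) := Fintype.ofFinite _
  have hD : Subgroup.closure ({⟨a, Subgroup.subset_closure (by simp)⟩,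
      ⟨b, Subgroup.subset_closure (by simp)⟩} : Set ↥(Subgroup.closure {a, b})) = ⊤ := by
    rw [← Subgroup.closure_closure_coe_preimage (k := ({a, b} : Set G))]
    congr 1
    ext z
    simp only [Set.mem_insert_iff, Set.mem_singleton_iff, Set.mem_preimage, Subtype.ext_iff]
  have hD₁ : Subgroup.closure ({φ.rangeRestrict ⟨a, Subgroup.subset_closure (by simp)⟩,
      φ.rangeRestrict ⟨b, Subgroup.subset_closure (by simp)⟩} : Set ↥φ.range) = ⊤ := by
    have h1 : Subgroup.map φ.rangeRestrict (Subgroup.closure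
        {⟨a, Subgroup.subset_closure (by simp)⟩, ⟨b, Subgroup.subset_closure (by simp)⟩}) = ⊤ := by
      rw [hD, Subgroup.map_top_of_surjective _ φ.rangeRestrict_surjective]
    rw [MonoidHom.map_closure, Set.image_pair] at h1
    exact h1
  have hgt : 1 < Nat.card (Sylow p φ.range) :=
    card_sylow_gt_one_of_gen p _ _ hD₁ (Subtype.ext hφa) (Subtype.ext hφb) hφ
  obtain ⟨K₀, hK₀, ⟨e⟩⟩ := Cfsg.Agent.S0274.result p hp φ.range hgt
  have hf : Function.Surjective (φ.subgroupComap K₀) := by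
    rintro ⟨k, hk⟩
    obtain ⟨d, rfl⟩ := hK₀ hk
    exact ⟨⟨d, hk⟩, rfl⟩
  refine ⟨(K₀.comap φ).map (Subgroup.closure {a, b}).subtype,
    (e.toMonoidHom.comp (φ.subgroupComap K₀)).comp
      ((K₀.comap φ).equivMapOfInjective (Subgroup.closure {a, b}).subtype
        (Subgroup.closure {a, b}).subtype_injective).symm.toMonoidHom, ?_, ?_⟩
  · exact Subgroup.map_subtype_le _
  · exact (e.surjective.comp hf).comp
      ((K₀.comap φ).equivMapOfInjective (Subgroup.closure {a, b}).subtype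
        (Subgroup.closure {a, b}).subtype_injective).symm.surjective

/-- minimal case: quadratic elements centralize, or `SL(2, p)` is a section -/
theorem min_case_sec [Finite G] {p : ℕ} [Fact p.Prime] (hp2 : p ≠ 2) (V : Subgroup G)
    [hVn : V.Normal] (hVp : IsPGroup p V) (hV1 : V ≠ ⊥)
    (hmin : ∀ U : Subgroup G, U.Normal → U ≤ V → U = ⊥ ∨ U = V)
    (hVc : ∀ s ∈ V, ∀ t ∈ V, s * t = t * s) (hVe : ∀ v ∈ V, v ^ p = 1)
    (a : G) (hq : ⁅⁅V, Subgroup.zpowers a⁆, Subgroup.zpowers a⁆ = ⊥) :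
    a ∈ Subgroup.centralizer (V : Set G) ∨ HasSL2Sec p G := by
  haveI : IsMulCommutative V := ⟨⟨fun x y => Subtype.ext (hVc x.1 x.2 y.1 y.2)⟩⟩
  by_cases haC : a ∈ Subgroup.centralizer (V : Set G)
  · exact Or.inl haC
  right
  obtain ⟨x, hnp⟩ := min_case_pair V hVp hV1 hmin a haC
  have hnorm : ∀ g : G, g ∈ Subgroup.normalizer (V : Set G) := by
    intro g; rw [Subgroup.normalizer_eq_top]; exact Subgroup.mem_top g
  have hqa := quad_elem V a hq
  obtain ⟨K, ψ, -, hψ⟩ := sl2_section_of_quad_pair hp2 V hVe a (x * a * x⁻¹) (hnorm _) (hnorm _)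
    hqa (quad_conj V a x (hnorm x) hqa) hnp
  exact ⟨K, ψ, hψ⟩

/-- an element acting quadratically on a normal `p`-subgroup lies in `O_p` modulo the
centralizer, or `SL(2, p)` is a section (`p` odd) -/
theorem quad_mem_LL_or_sec [Finite G] {p : ℕ} [Fact p.Prime] (hp2 : p ≠ 2)
    (V : Subgroup G) [V.Normal] (hV : IsPGroup p V) (a : G)
    (hq : ⁅⁅V, Subgroup.zpowers a⁆, Subgroup.zpowers a⁆ = ⊥) :
    a ∈ LL p V ∨ HasSL2Sec p G := by
  have hminc : ∀ (V₁ : Subgroup G) [V₁.Normal] (Vb : Subgroup (G ⧸ V₁)) [Vb.Normal],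
      IsPGroup p Vb → Vb ≠ ⊥ →
      (∀ U : Subgroup (G ⧸ V₁), U.Normal → U ≤ Vb → U = ⊥ ∨ U = Vb) →
      (∀ s ∈ Vb, ∀ t ∈ Vb, s * t = t * s) → (∀ v ∈ Vb, v ^ p = 1) →
      ∀ ab : G ⧸ V₁, ⁅⁅Vb, Subgroup.zpowers ab⁆, Subgroup.zpowers ab⁆ = ⊥ →
      ab ∈ Subgroup.centralizer (Vb : Set (G ⧸ V₁)) ∨ HasSL2Sec p G := by
    intro V₁ _ Vb _ hVbp hVb1 hmin hVbc hVbe ab hqb
    rcases min_case_sec hp2 Vb hVbp hVb1 hmin hVbc hVbe ab hqb with h | h
    · exact Or.inl h
    · exact Or.inr (hasSL2Sec_lift p (QuotientGroup.mk' V₁) (QuotientGroup.mk'_surjective V₁) h)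
  exact pstable_gen_aux (HasSL2Sec p G) hminc _ V hV rfl a hq

end Cfsg.Agent.Helper5
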