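import Mathlib
import Cfsg.Prelude.Def_Classical
import Cfsg.Prelude.Def_LieClassical
import Cfsg.Prelude.Def_LieRecognition
import Cfsg.Agent.Helper3.Unitary

/-!
Sylow 2-subgroups of `PSU 3 F q` for `q` a power of two and `|F| = q^2`: an explicit
model group `HQ D` of order `q^3`, embedded in `SU 3 F q`; it is a Suzuki 2-group.
-/

set_option autoImplicit false

namespace Cfsg.Agent.Helper5.SU3q

open Cfsg Matrix

/-- field data: the involutive field automorphism `x ↦ x^q` in characteristic two -/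
structure FD (F : Type*) [Field F] (q : ℕ) where
  φ : F →+* F
  hφ : ∀ x, φ x = x ^ q
  hφ2 : ∀ x, φ (φ x) = x
  two : (2 : F) = 0

section field

variable {F : Type*} [Field F] {q : ℕ} (D : FD F q)

/-- the trace map to the fixed field -/
def tauQ : F →+ F where
  toFun x := x + D.φ x
  map_zero' := by simp
  map_add' x y := by rw [map_add]; ring

theorem tauQ_apply (x : F) : tauQ D x = x + D.φ x := rfl

theorem tauQ_range_le : (tauQ D).range ≤ (tauQ D).ker := by
  rintro _ ⟨x, rfl⟩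
  rw [AddMonoidHom.mem_ker, tauQ_apply, tauQ_apply, map_add, D.hφ2]
  linear_combination (x + D.φ x) * D.two

theorem phi_eq_of_ker (x : F) (hx : x + D.φ x = 0) : D.φ x = x := by
  linear_combination hx - x * D.two

theorem ker_of_phi_eq (x : F) (hx : D.φ x = x) : x + D.φ x = 0 := by
  linear_combination hx + x * D.two

variable [Fintype F]

theorem card_kerQ_le (hq : 1 < q) : Nat.card (tauQ D).ker ≤ q := by
  classical
  let p : Polynomial F := Polynomial.X ^ q - Polynomial.X
  have hdeg : p.natDegree = q := FiniteField.X_pow_card_sub_X_natDegree_eq F hq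
  have hp0 : p ≠ 0 := FiniteField.X_pow_card_sub_X_ne_zero F hq
  have hsub : ∀ x : (tauQ D).ker, (x : F) ∈ p.roots.toFinset := by
    intro x
    have hx : (x : F) + D.φ (x : F) = 0 := x.2
    rw [Multiset.mem_toFinset, Polynomial.mem_roots hp0, Polynomial.IsRoot.def]
    simp only [p, Polynomial.eval_sub, Polynomial.eval_pow, Polynomial.eval_X]
    rw [← D.hφ]
    linear_combination hx - (x : F) * D.two
  have hinj : Function.Injective (fun x : (tauQ D).ker =>
      (⟨(x : F), hsub x⟩ : {y : F // y ∈ p.roots.toFinset})) := by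
    intro x y hxy
    exact Subtype.ext (congrArg (fun z : {y : F // y ∈ p.roots.toFinset} => (z : F)) hxy)
  have h1 := Nat.card_le_card_of_injective _ hinj
  have h2 : Nat.card {y : F // y ∈ p.roots.toFinset} = p.roots.toFinset.card := by
    rw [Nat.card_eq_fintype_card, Fintype.card_coe]
  have h3 : p.roots.toFinset.card ≤ p.roots.card := Multiset.toFinset_card_le _
  have h4 : p.roots.card ≤ p.natDegree := Polynomial.card_roots' p
  omega

theorem card_kerQ (hF : Fintype.card F = q ^ 2) (hq : 1 < q) :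
    Nat.card (tauQ D).ker = q ∧ (tauQ D).range = (tauQ D).ker := by
  have h1 := AddSubgroup.card_mul_index (tauQ D).ker
  rw [AddSubgroup.index_ker, Nat.card_eq_fintype_card (α := F), hF] at h1
  have h2 := card_kerQ_le D hq
  have h3 : Nat.card (tauQ D).range ≤ Nat.card (tauQ D).ker :=
    AddSubgroup.card_le_of_le (tauQ_range_le D)
  have h4 : Nat.card (tauQ D).ker = q := by
    generalize Nat.card (tauQ D).ker = k at *
    generalize Nat.card (tauQ D).range = r at *
    have h5 : q ^ 2 ≤ k ^ 2 := by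
      rw [← h1, pow_two]
      exact Nat.mul_le_mul_left k h3
    have h6 : q ≤ k := (Nat.pow_le_pow_iff_left (by norm_num)).mp h5
    omega
  refine ⟨h4, AddSubgroup.eq_of_le_of_card_ge (tauQ_range_le D) ?_⟩
  rw [h4] at h1 ⊢
  have h7 : q * Nat.card (tauQ D).range = q * q := by rw [h1]; ring
  exact (Nat.eq_of_mul_eq_mul_left (by omega) h7).ge

theorem exists_omegaQ (hF : Fintype.card F = q ^ 2) (hq : 1 < q) : ∃ w : F, w + D.φ w = 1 := by
  have h1 : (1 : F) ∈ (tauQ D).ker := by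
    rw [AddMonoidHom.mem_ker, tauQ_apply, map_one]
    linear_combination D.two
  rw [← (card_kerQ D hF hq).2] at h1
  obtain ⟨w, hw⟩ := h1
  exact ⟨w, hw⟩

end field

section model

/-- the model group: pairs `(b, c)` with `c + φ c = b * φ b` -/
@[ext] structure HQ {F : Type*} [Field F] {q : ℕ} (D : FD F q) where
  b : F
  c : F
  rel : c + D.φ c = b * D.φ b

variable {F : Type*} [Field F] {q : ℕ} {D : FD F q}

instance instMulHQ : Mul (HQ D) :=
  ⟨fun x y => ⟨x.b + y.b, x.c + y.c + D.φ x.b * y.b, by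
    simp only [map_add, map_mul, D.hφ2]
    linear_combination x.rel + y.rel⟩⟩

instance instOneHQ : One (HQ D) := ⟨⟨0, 0, by simp⟩⟩

instance instInvHQ : Inv (HQ D) :=
  ⟨fun x => ⟨x.b, x.c + x.b * D.φ x.b, by
    simp only [map_add, map_mul, D.hφ2]
    linear_combination x.rel + (x.b * D.φ x.b) * D.two⟩⟩

theorem mul_b (x y : HQ D) : (x * y).b = x.b + y.b := rfl
theorem mul_c (x y : HQ D) : (x * y).c = x.c + y.c + D.φ x.b * y.b := rfl
theorem one_b : (1 : HQ D).b = 0 := rfl
theorem one_c : (1 : HQ D).c = 0 := rfl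
theorem inv_b (x : HQ D) : (x⁻¹).b = x.b := rfl
theorem inv_c (x : HQ D) : (x⁻¹).c = x.c + x.b * D.φ x.b := rfl

instance instGroupHQ : Group (HQ D) :=
  Group.ofLeftAxioms
    (fun x y z => by
      ext
      · simp only [mul_b]; ring
      · simp only [mul_b, mul_c, map_add]; ring)
    (fun x => by
      ext
      · simp only [mul_b, one_b, zero_add]
      · simp only [mul_c, one_b, one_c, map_zero]; ring)
    (fun x => by
      ext
      · simp only [mul_b, inv_b, one_b]
        linear_combination x.b * D.two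
      · simp only [mul_c, inv_b, inv_c, one_c]
        linear_combination (x.c + x.b * D.φ x.b) * D.two)

theorem gmul_b (x y : HQ D) : (x * y).b = x.b + y.b := rfl
theorem gmul_c (x y : HQ D) : (x * y).c = x.c + y.c + D.φ x.b * y.b := rfl
theorem gone_b : (1 : HQ D).b = 0 := rfl
theorem gone_c : (1 : HQ D).c = 0 := rfl

/-- the centre of the model group -/
def ZQ (D : FD F q) : Subgroup (HQ D) where
  carrier := {x | x.b = 0}
  mul_mem' {x y} hx hy := by
    show (x * y).b = 0
    rw [gmul_b, show x.b = 0 from hx, show y.b = 0 from hy, add_zero]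
  one_mem' := rfl
  inv_mem' {x} hx := hx

theorem mem_ZQ (x : HQ D) : x ∈ ZQ D ↔ x.b = 0 := Iff.rfl

/-- lift of a field element to the model group -/
def liftQ (w : F) (hw : w + D.φ w = 1) (t : F) : HQ D :=
  ⟨t, w * (t * D.φ t), by
    simp only [map_mul, D.hφ2]
    linear_combination (t * D.φ t) * hw⟩

theorem liftQ_b (w : F) (hw : w + D.φ w = 1) (t : F) : (liftQ (D := D) w hw t).b = t := rfl
theorem liftQ_c (w : F) (hw : w + D.φ w = 1) (t : F) :
    (liftQ (D := D) w hw t).c = w * (t * D.φ t) := rfl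

/-- the model group is in bijection with `F × ker tauQ` -/
noncomputable def hqEquiv (w : F) (hw : w + D.φ w = 1) : HQ D ≃ F × (tauQ D).ker where
  toFun x := (x.b, ⟨x.c + w * (x.b * D.φ x.b), by
    rw [AddMonoidHom.mem_ker, tauQ_apply]
    simp only [map_add, map_mul, D.hφ2]
    linear_combination x.rel + (x.b * D.φ x.b) * hw + (x.b * D.φ x.b) * D.two⟩)
  invFun p := ⟨p.1, p.2.1 + w * (p.1 * D.φ p.1), by
    have hk : (p.2 : F) + D.φ (p.2 : F) = 0 := p.2.2
    simp only [map_add, map_mul, D.hφ2]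
    linear_combination hk + (p.1 * D.φ p.1) * hw⟩
  left_inv x := by
    ext
    · rfl
    · show x.c + w * (x.b * D.φ x.b) + w * (x.b * D.φ x.b) = x.c
      linear_combination (w * (x.b * D.φ x.b)) * D.two
  right_inv p := by
    apply Prod.ext
    · rfl
    · apply Subtype.ext
      show (p.2 : F) + w * (p.1 * D.φ p.1) + w * (p.1 * D.φ p.1) = (p.2 : F)
      linear_combination (w * (p.1 * D.φ p.1)) * D.two

/-- the centre is in bijection with `ker tauQ` -/
noncomputable def zqEquiv : ZQ D ≃ (tauQ D).ker where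
  toFun x := ⟨x.1.c, by
    have h := x.1.rel
    have hb : x.1.b = 0 := x.2
    rw [AddMonoidHom.mem_ker, tauQ_apply, h, hb]
    simp⟩
  invFun k := ⟨⟨0, k.1, by
    have hk : (k : F) + D.φ (k : F) = 0 := k.2
    rw [hk]; simp⟩, rfl⟩
  left_inv x := by
    have hb : x.1.b = 0 := x.2
    apply Subtype.ext
    ext
    · exact hb.symm
    · rfl
  right_inv k := rfl

theorem ZQ_central (z : HQ D) (hz : z ∈ ZQ D) (g : HQ D) : g * z = z * g := by
  have hb : z.b = 0 := hz
  ext
  · rw [gmul_b, gmul_b, add_comm]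
  · rw [gmul_c, gmul_c, hb, map_zero]; ring

theorem mem_ZQ_of_sq (x : HQ D) (hx : x * x = 1) : x ∈ ZQ D := by
  have h := congrArg HQ.c hx
  rw [gmul_c, gone_c] at h
  have h5 : D.φ x.b * x.b = 0 := by linear_combination h - x.c * D.two
  rcases mul_eq_zero.mp h5 with h6 | h6
  · have h7 := congrArg D.φ h6
    rw [D.hφ2, map_zero] at h7
    exact h7
  · exact h6

theorem ZQ_sq (z : HQ D) (hz : z ∈ ZQ D) : z * z = 1 := by
  have hb : z.b = 0 := hz
  ext
  · rw [gmul_b, hb, gone_b, add_zero]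
  · rw [gmul_c, hb, gone_c, map_zero]
    linear_combination z.c * D.two

theorem mem_ZQ_of_central (w : F) (hw : w + D.φ w = 1) (x : HQ D)
    (hx : ∀ g : HQ D, g * x = x * g) : x ∈ ZQ D := by
  have h1 := congrArg HQ.c (hx (liftQ w hw 1))
  have h3 := congrArg HQ.c (hx (liftQ w hw w))
  rw [gmul_c, gmul_c, liftQ_b, liftQ_c] at h1 h3
  rw [mem_ZQ]
  rw [map_one] at h1
  have e1 : D.φ x.b = x.b := by linear_combination -h1
  rw [e1] at h3
  linear_combination (-x.b) * hw + h3 + (w * x.b) * D.two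

variable [Fintype F]

theorem card_HQ (hF : Fintype.card F = q ^ 2) (hq : 1 < q) : Nat.card (HQ D) = q ^ 3 := by
  obtain ⟨w, hw⟩ := exists_omegaQ D hF hq
  rw [Nat.card_congr (hqEquiv w hw), Nat.card_prod, (card_kerQ D hF hq).1,
    Nat.card_eq_fintype_card, hF]
  ring

theorem card_ZQ (hF : Fintype.card F = q ^ 2) (hq : 1 < q) : Nat.card (ZQ D) = q := by
  rw [Nat.card_congr zqEquiv, (card_kerQ D hF hq).1]

end model

section autos

variable {F : Type*} [Field F] {q : ℕ} {D : FD F q}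

/-- the units fixed by the field automorphism -/
def U0 (D : FD F q) : Subgroup Fˣ where
  carrier := {u | D.φ (u : F) = (u : F)}
  mul_mem' {a b} ha hb := by
    show D.φ ((a * b : Fˣ) : F) = ((a * b : Fˣ) : F)
    rw [Units.val_mul, map_mul, show D.φ (a : F) = (a : F) from ha,
      show D.φ (b : F) = (b : F) from hb]
  one_mem' := by
    show D.φ ((1 : Fˣ) : F) = ((1 : Fˣ) : F)
    rw [Units.val_one, map_one]
  inv_mem' {a} ha := by
    show D.φ ((a⁻¹ : Fˣ) : F) = ((a⁻¹ : Fˣ) : F)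
    rw [Units.val_inv_eq_inv_val, map_inv₀, show D.φ (a : F) = (a : F) from ha]

theorem U0_fix (u : U0 D) : D.φ ((u : Fˣ) : F) = ((u : Fˣ) : F) := u.2

/-- scaling by a fixed element -/
def scl (a : F) (ha : D.φ a = a) (x : HQ D) : HQ D :=
  ⟨a * x.b, a ^ 2 * x.c, by
    simp only [map_mul, map_pow, ha]
    linear_combination a ^ 2 * x.rel⟩

theorem scl_b (a : F) (ha : D.φ a = a) (x : HQ D) : (scl a ha x).b = a * x.b := rfl
theorem scl_c (a : F) (ha : D.φ a = a) (x : HQ D) : (scl a ha x).c = a ^ 2 * x.c := rfl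

/-- the automorphism attached to a fixed unit -/
def autQ (u : U0 D) : HQ D ≃* HQ D where
  toFun := scl ((u : Fˣ) : F) (U0_fix u)
  invFun := scl (((u⁻¹ : U0 D) : Fˣ) : F) (U0_fix u⁻¹)
  left_inv x := by
    have h0 : ((u : Fˣ) : F) ≠ 0 := Units.ne_zero _
    have h1 : ((((u⁻¹ : U0 D) : Fˣ) : F)) = ((u : Fˣ) : F)⁻¹ := by
      rw [Subgroup.coe_inv, Units.val_inv_eq_inv_val]
    ext
    · rw [scl_b, scl_b, h1, ← mul_assoc, inv_mul_cancel₀ h0, one_mul]
    · rw [scl_c, scl_c, h1, ← mul_assoc, ← mul_pow, inv_mul_cancel₀ h0, one_pow, one_mul]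
  right_inv x := by
    have h0 : ((u : Fˣ) : F) ≠ 0 := Units.ne_zero _
    have h1 : ((((u⁻¹ : U0 D) : Fˣ) : F)) = ((u : Fˣ) : F)⁻¹ := by
      rw [Subgroup.coe_inv, Units.val_inv_eq_inv_val]
    ext
    · rw [scl_b, scl_b, h1, ← mul_assoc, mul_inv_cancel₀ h0, one_mul]
    · rw [scl_c, scl_c, h1, ← mul_assoc, ← mul_pow, mul_inv_cancel₀ h0, one_pow, one_mul]
  map_mul' x y := by
    have hu : D.φ ((u : Fˣ) : F) = ((u : Fˣ) : F) := u.2
    ext
    · rw [scl_b, gmul_b, gmul_b, scl_b, scl_b]; ring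
    · rw [scl_c, gmul_c, gmul_c, scl_c, scl_c, scl_b, scl_b, map_mul, hu]; ring

theorem autQ_apply (u : U0 D) (x : HQ D) : autQ u x = scl ((u : Fˣ) : F) (U0_fix u) x := rfl

/-- the cyclic group of automorphisms, as a homomorphism -/
def AQ (D : FD F q) : U0 D →* MulAut (HQ D) where
  toFun := autQ
  map_one' := by
    apply MulEquiv.ext
    intro x
    rw [autQ_apply]
    ext
    · rw [scl_b]; simp
    · rw [scl_c]; simp
  map_mul' u v := by
    apply MulEquiv.ext
    intro x
    rw [MulAut.mul_apply, autQ_apply, autQ_apply, autQ_apply]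
    ext
    · rw [scl_b, scl_b, scl_b, Subgroup.coe_mul, Units.val_mul]; ring
    · rw [scl_c, scl_c, scl_c, Subgroup.coe_mul, Units.val_mul]; ring

theorem AQ_apply (u : U0 D) (x : HQ D) : AQ D u x = scl ((u : Fˣ) : F) (U0_fix u) x := rfl

theorem regQ {m : ℕ} (hq : q = 2 ^ (m + 1)) (x y : HQ D) (hx1 : x ≠ 1) (hx2 : x * x = 1)
    (hy1 : y ≠ 1) (hy2 : y * y = 1) :
    ∃! k : (AQ D).range, (k : MulAut (HQ D)) x = y := by
  have hxb : x.b = 0 := mem_ZQ_of_sq x hx2
  have hyb : y.b = 0 := mem_ZQ_of_sq y hy2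
  have hxc : x.c ≠ 0 := by
    intro h
    apply hx1
    ext
    · rw [hxb, gone_b]
    · rw [h, gone_c]
  have hyc : y.c ≠ 0 := by
    intro h
    apply hy1
    ext
    · rw [hyb, gone_b]
    · rw [h, gone_c]
  have hxφ : D.φ x.c = x.c := by
    apply phi_eq_of_ker
    rw [x.rel, hxb, zero_mul]
  have hyφ : D.φ y.c = y.c := by
    apply phi_eq_of_ker
    rw [y.rel, hyb, zero_mul]
  have hμφ : D.φ (y.c / x.c) = y.c / x.c := by rw [map_div₀, hxφ, hyφ]
  have hμ0 : y.c / x.c ≠ 0 := div_ne_zero hyc hxc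
  have hl2 : ((y.c / x.c) ^ (2 ^ m)) ^ 2 = y.c / x.c := by
    rw [← pow_mul, ← pow_succ, ← hq, ← D.hφ, hμφ]
  have hlφ : D.φ ((y.c / x.c) ^ (2 ^ m)) = (y.c / x.c) ^ (2 ^ m) := by rw [map_pow, hμφ]
  have hl0 : (y.c / x.c) ^ (2 ^ m) ≠ 0 := pow_ne_zero _ hμ0
  let u : U0 D := ⟨Units.mk0 _ hl0, hlφ⟩
  have huv : ((u : Fˣ) : F) = (y.c / x.c) ^ (2 ^ m) := rfl
  refine ⟨⟨AQ D u, ⟨u, rfl⟩⟩, ?_, ?_⟩
  · show AQ D u x = y
    rw [AQ_apply]
    ext
    · rw [scl_b, hxb, hyb, mul_zero]
    · rw [scl_c, huv, hl2, div_mul_cancel₀ _ hxc]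
  · rintro ⟨k', u', rfl⟩ hk'
    have h1 : AQ D u' x = y := hk'
    rw [AQ_apply] at h1
    have h2 := congrArg HQ.c h1
    rw [scl_c] at h2
    have h3 : ((u' : Fˣ) : F) ^ 2 = ((u : Fˣ) : F) ^ 2 := by
      rw [huv, hl2]
      field_simp
      exact h2
    have h4 : (((u' : Fˣ) : F) - ((u : Fˣ) : F)) ^ 2 = 0 := by
      linear_combination h3 + (((u : Fˣ) : F) ^ 2 - ((u' : Fˣ) : F) * ((u : Fˣ) : F)) * D.two
    have h5 : ((u' : Fˣ) : F) = ((u : Fˣ) : F) := by
      have := pow_eq_zero_iff (two_ne_zero) |>.mp h4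
      exact sub_eq_zero.mp this
    have h6 : u' = u := Subtype.ext (Units.ext h5)
    apply Subtype.ext
    show AQ D u' = AQ D u
    rw [h6]

end autos

section suzuki

variable {F : Type*} [Field F] [Fintype F] {q : ℕ} {D : FD F q}

theorem center_HQ (hF : Fintype.card F = q ^ 2) (hq : 1 < q) :
    Subgroup.center (HQ D) = ZQ D := by
  obtain ⟨w, hw⟩ := exists_omegaQ D hF hq
  apply le_antisymm
  · intro x hx
    exact mem_ZQ_of_central w hw x (fun g => Subgroup.mem_center_iff.mp hx g)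
  · intro z hz
    exact Subgroup.mem_center_iff.mpr (fun g => ZQ_central z hz g)

theorem card_center_HQ (hF : Fintype.card F = q ^ 2) (hq : 1 < q) :
    Nat.card (Subgroup.center (HQ D)) = q := by
  rw [center_HQ hF hq]
  exact card_ZQ hF hq

theorem suzuki_HQ {m : ℕ} (hq : q = 2 ^ (m + 2)) (hF : Fintype.card F = q ^ 2) :
    IsSuzukiTwoGroup (HQ D) := by
  have hq1 : 1 < q := by rw [hq]; exact Nat.one_lt_two_pow (by omega)
  have hq4 : 4 ≤ q := by
    rw [hq, pow_add]
    have := Nat.one_le_two_pow (n := m)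
    omega
  have hcard := card_HQ (D := D) hF hq1
  have hfin : Finite (HQ D) := Nat.finite_of_card_ne_zero (by rw [hcard]; positivity)
  obtain ⟨w, hw⟩ := exists_omegaQ D hF hq1
  refine ⟨hfin, ?_, ?_, ?_, ?_⟩
  · apply IsPGroup.of_card (n := (m + 2) * 3)
    rw [hcard, hq, ← pow_mul]
  · refine ⟨liftQ w hw 1, liftQ w hw w, fun h => ?_⟩
    have hc := congrArg HQ.c h
    rw [gmul_c, gmul_c, liftQ_b, liftQ_b, liftQ_c, liftQ_c, map_one] at hc
    have h10 : (1 : F) = 0 := by linear_combination (-1 : F) * hw - hc + w * D.two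
    exact one_ne_zero h10
  · have hZ := card_ZQ (D := D) hF hq1
    have hfinZ : Finite (ZQ D) := inferInstance
    obtain ⟨a, b, c, hab, hac, hbc⟩ : ∃ a b c : ZQ D, a ≠ b ∧ a ≠ c ∧ b ≠ c := by
      have := Fintype.ofFinite (ZQ D)
      apply Fintype.two_lt_card_iff.mp
      rw [← Nat.card_eq_fintype_card, hZ]; omega
    have key : ∀ z : ZQ D, (z : HQ D) * z = 1 := fun z => ZQ_sq z.1 z.2
    have hab' : (a : HQ D) ≠ b := fun h => hab (Subtype.ext h)
    have hac' : (a : HQ D) ≠ c := fun h => hac (Subtype.ext h)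
    have hbc' : (b : HQ D) ≠ c := fun h => hbc (Subtype.ext h)
    by_cases ha : (a : HQ D) = 1
    · exact ⟨b, c, hbc', fun h => hab' (ha.trans h.symm), key b, fun h => hac' (ha.trans h.symm),
        key c⟩
    · by_cases hb : (b : HQ D) = 1
      · exact ⟨a, c, hac', ha, key a, fun h => hbc' (hb.trans h.symm), key c⟩
      · exact ⟨a, b, hab', ha, key a, hb, key b⟩
  · refine ⟨(AQ D).range, ?_, fun x y hx1 hx2 hy1 hy2 => regQ (m := m + 1) hq x y hx1 hx2 hy1 hy2⟩
    have : IsCyclic (U0 D) := inferInstance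
    exact isCyclic_of_surjective (AQ D).rangeRestrict (AQ D).rangeRestrict_surjective

theorem suzuki_transport {M P : Type*} [Group M] [Group P] (e : M ≃* P)
    (h : IsSuzukiTwoGroup M) : IsSuzukiTwoGroup P := by
  obtain ⟨hfin, hp, ⟨x, y, hxy⟩, ⟨a, b, hab, ha1, ha2, hb1, hb2⟩, K, hK, hreg⟩ := h
  refine ⟨Finite.of_equiv M e.toEquiv, hp.of_equiv e,
    ⟨e x, e y, fun h' => hxy (e.injective (by rw [map_mul, map_mul]; exact h'))⟩,
    ⟨e a, e b, fun h' => hab (e.injective h'),
      fun h' => ha1 (e.injective (h'.trans (map_one e).symm)), by rw [← map_mul, ha2, map_one],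
      fun h' => hb1 (e.injective (h'.trans (map_one e).symm)), by rw [← map_mul, hb2, map_one]⟩,
    K.map (MulAut.congr e).toMonoidHom, ?_, ?_⟩
  · exact isCyclic_of_surjective ((MulAut.congr e).toMonoidHom.subgroupMap K)
      ((MulAut.congr e).toMonoidHom.subgroupMap_surjective K)
  · intro x y hx1 hx2 hy1 hy2
    have hx1' : e.symm x ≠ 1 := fun h' => hx1 (e.symm.injective (h'.trans (map_one e.symm).symm))
    have hy1' : e.symm y ≠ 1 := fun h' => hy1 (e.symm.injective (h'.trans (map_one e.symm).symm))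
    have hx2' : e.symm x * e.symm x = 1 := by rw [← map_mul, hx2, map_one]
    have hy2' : e.symm y * e.symm y = 1 := by rw [← map_mul, hy2, map_one]
    obtain ⟨k, hk, hku⟩ := hreg (e.symm x) (e.symm y) hx1' hx2' hy1' hy2'
    refine ⟨⟨MulAut.congr e k.1, Subgroup.mem_map_of_mem _ k.2⟩, ?_, ?_⟩
    · show e ((k : MulAut M) (e.symm x)) = y
      rw [hk, e.apply_symm_apply]
    · rintro ⟨k', k0, hk0, rfl⟩ hk'
      have h1 : e (k0 (e.symm x)) = y := hk'
      have h2 : (⟨k0, hk0⟩ : K) = k := by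
        apply hku
        show k0 (e.symm x) = e.symm y
        rw [← h1, e.symm_apply_apply]
      apply Subtype.ext
      show (MulAut.congr e) k0 = (MulAut.congr e) k.1
      rw [← h2]

end suzuki

section embed

variable {F : Type*} [Field F] {q : ℕ} {D : FD F q}

/-- the matrix of a model group element -/
def GQ (D : FD F q) (b c : F) : Matrix (Fin 3) (Fin 3) F :=
  !![1 + c, c, D.φ b; c, 1 + c, D.φ b; b, b, 1]

theorem GQ_det (b c : F) : (GQ D b c).det = 1 := by
  rw [Matrix.det_fin_three]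
  simp [GQ]
  linear_combination (c - b * D.φ b) * D.two

theorem GQ_one : GQ D (0 : F) 0 = 1 := by
  ext i j
  fin_cases i <;> fin_cases j <;> simp [GQ]

theorem GQ_mul (b c b' c' : F) :
    GQ D b c * GQ D b' c' = GQ D (b + b') (c + c' + D.φ b * b') := by
  ext i j
  fin_cases i <;> fin_cases j <;>
    simp [GQ, Matrix.mul_apply, Fin.sum_univ_three]
  · linear_combination (c * c') * D.two
  · linear_combination (c * c') * D.two
  · linear_combination (c * D.φ b') * D.two
  · linear_combination (c * c') * D.two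
  · linear_combination (c * c') * D.two
  · linear_combination (c * D.φ b') * D.two
  · linear_combination (b * c') * D.two
  · linear_combination (b * c') * D.two
  · linear_combination (b * D.φ b') * D.two

theorem GQ_pres (b c : F) (h : c + D.φ c = b * D.φ b) (u v : Fin 3 → F) :
    hermForm 3 F q (GQ D b c *ᵥ u) (GQ D b c *ᵥ v) = hermForm 3 F q u v := by
  unfold hermForm
  simp only [← D.hφ]
  simp [Fin.sum_univ_three, GQ, Matrix.mulVec, dotProduct, D.hφ2]
  generalize D.φ c = c4 at h ⊢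
  generalize D.φ b = b4 at h ⊢
  generalize D.φ (v 0) = w0
  generalize D.φ (v 1) = w1
  generalize D.φ (v 2) = w2
  generalize u 0 = u0
  generalize u 1 = u1
  generalize u 2 = u2
  linear_combination (u0 * w0 + u0 * w1 + u1 * w0 + u1 * w1) * h +
    ((u0 * w0 + u0 * w1 + u1 * w0 + u1 * w1) * (c * c4 + b * b4) + (u0 * w2 + u1 * w2) * (b + c * b)
      + (u2 * w0 + u2 * w1) * (b4 + b4 * c4) + u2 * w2 * (b * b4)) * D.two

/-- the embedding of the model group in `SU 3 F q` -/
def toSUq (D : FD F q) : HQ D →* SU 3 F q where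
  toFun x := ⟨⟨GQ D x.b x.c, GQ_det x.b x.c⟩, fun u v => GQ_pres x.b x.c x.rel u v⟩
  map_one' := Subtype.ext (Subtype.ext GQ_one)
  map_mul' x y := Subtype.ext (Subtype.ext (GQ_mul x.b x.c y.b y.c).symm)

theorem toSUq_mat (x : HQ D) : (toSUq D x).1.1 = GQ D x.b x.c := rfl

theorem eq_one_of_scalar (x : HQ D) (a : F)
    (h : GQ D x.b x.c = a • (1 : Matrix (Fin 3) (Fin 3) F)) : x = 1 := by
  have h1 := congrFun (congrFun h 2) 0
  have h2 := congrFun (congrFun h 0) 1
  simp [GQ] at h1 h2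
  exact HQ.ext h1 h2

end embed

section final

open Cfsg.Agent.Helper3

variable {F : Type*} [Field F] [Fintype F]

theorem two_zero_of_card {n : ℕ} (hn : 1 ≤ n) (hF : Fintype.card F = (2 ^ n) ^ 2) :
    (2 : F) = 0 := by
  have h : ((Fintype.card F : ℕ) : F) = 0 := Nat.cast_card_eq_zero F
  rw [hF] at h
  push_cast at h
  have h1 : (2 : F) ^ n = 0 := (pow_eq_zero_iff (two_ne_zero)).mp h
  exact (pow_eq_zero_iff (by omega)).mp h1

theorem exists_FD {n : ℕ} (hn : 1 ≤ n) (hF : Fintype.card F = (2 ^ n) ^ 2) :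
    Nonempty (FD F (2 ^ n)) := by
  obtain ⟨φ, h1, h2⟩ := exists_frob (q := 2 ^ n) hF
  exact ⟨⟨φ, h1, h2, two_zero_of_card hn hF⟩⟩

theorem card_center_congr {M P : Type*} [Group M] [Group P] (e : M ≃* P) :
    Nat.card (Subgroup.center M) = Nat.card (Subgroup.center P) := by
  refine Nat.card_congr ⟨fun z => ⟨e z.1, ?_⟩, fun z => ⟨e.symm z.1, ?_⟩, ?_, ?_⟩
  · rw [Subgroup.mem_center_iff]
    intro g
    have h := Subgroup.mem_center_iff.mp z.2 (e.symm g)
    apply e.symm.injective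
    rw [map_mul, map_mul, e.symm_apply_apply]
    exact h
  · rw [Subgroup.mem_center_iff]
    intro g
    have h := Subgroup.mem_center_iff.mp z.2 (e g)
    apply e.injective
    rw [map_mul, map_mul, e.apply_symm_apply]
    exact h
  · intro z
    apply Subtype.ext
    exact e.symm_apply_apply z.1
  · intro z
    apply Subtype.ext
    exact e.apply_symm_apply z.1

theorem fact_PSU3 {n : ℕ} (hn : 1 ≤ n) (hF : Fintype.card F = (2 ^ n) ^ 2) :
    (Nat.card (PSU 3 F (2 ^ n))).factorization 2 = 3 * n := by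
  have hfin : Finite (PSU 3 F (2 ^ n)) := inferInstance
  have hN0 : Nat.card (PSU 3 F (2 ^ n)) ≠ 0 := Nat.card_pos.ne'
  have hq3 : (2 ^ n) ^ 3 = 2 ^ (3 * n) := by rw [← pow_mul, mul_comm]
  obtain ⟨r, hr⟩ : ∃ r, 2 ^ n = 2 * r := ⟨2 ^ (n - 1), by
    rw [← pow_succ', Nat.sub_add_cancel hn]⟩
  have hr1 : 1 ≤ r := by
    have : 1 < 2 ^ n := Nat.one_lt_two_pow (by omega)
    omega
  generalize 2 ^ n = q at *
  have h1 := card_PSU (F := F) (q := q) hF (n := 3) (by norm_num)
  have h2 := card_GU (F := F) (q := q) hF 3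
  rw [h2] at h1
  have h3 : ∏ i ∈ Finset.range 3, (if Even i then q ^ (i + 1) + 1 else q ^ (i + 1) - 1) =
      (q + 1) * ((q ^ 2 - 1) * (q ^ 3 + 1)) := by
    rw [Finset.prod_range_succ, Finset.prod_range_succ, Finset.prod_range_succ,
      Finset.prod_range_zero, if_pos (by decide), if_neg (by decide), if_pos (by decide)]
    ring
  rw [h3] at h1
  have h4 : Nat.gcd 3 (q + 1) * Nat.card (PSU 3 F q) = q ^ 3 * ((q ^ 2 - 1) * (q ^ 3 + 1)) := by
    apply Nat.eq_of_mul_eq_mul_left (Nat.succ_pos q)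
    calc (q + 1) * (Nat.gcd 3 (q + 1) * Nat.card (PSU 3 F q))
        = Nat.gcd 3 (q + 1) * ((q + 1) * Nat.card (PSU 3 F q)) := by ring
      _ = q ^ (3 * (3 - 1) / 2) * ((q + 1) * ((q ^ 2 - 1) * (q ^ 3 + 1))) := h1
      _ = (q + 1) * (q ^ 3 * ((q ^ 2 - 1) * (q ^ 3 + 1))) := by
        have : 3 * (3 - 1) / 2 = 3 := by norm_num
        rw [this]; ring
  have hg0 : Nat.gcd 3 (q + 1) ≠ 0 := (Nat.gcd_pos_of_pos_left _ (by norm_num)).ne'
  have hg2 : ¬ 2 ∣ Nat.gcd 3 (q + 1) := by
    intro h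
    have h' : 2 ∣ 3 := Nat.dvd_trans h (Nat.gcd_dvd_left 3 _)
    omega
  have hm2 : ¬ 2 ∣ (q ^ 2 - 1) * (q ^ 3 + 1) := by
    intro h
    have e2 : q ^ 2 = 2 * (r * q) := by rw [pow_two]; nth_rewrite 1 [hr]; ring
    have e3 : q ^ 3 = 2 * (r * q ^ 2) := by rw [pow_succ']; nth_rewrite 1 [hr]; ring
    have hrq : 1 ≤ r * q := Nat.mul_pos hr1 (by omega)
    rw [e2, e3] at h
    generalize r * q = t at *
    generalize r * q ^ 2 = t' at *
    rcases (Nat.Prime.dvd_mul Nat.prime_two).mp h with h' | h' <;> omega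
  have hm0 : (q ^ 2 - 1) * (q ^ 3 + 1) ≠ 0 := by
    intro h
    rw [h] at hm2
    exact hm2 (dvd_zero 2)
  have hq30 : q ^ 3 ≠ 0 := by
    have : 0 < q := by omega
    positivity
  have h5 : (Nat.gcd 3 (q + 1) * Nat.card (PSU 3 F q)).factorization 2 =
      (q ^ 3 * ((q ^ 2 - 1) * (q ^ 3 + 1))).factorization 2 := by rw [h4]
  rw [Nat.factorization_mul hg0 hN0, Nat.factorization_mul hq30 hm0, Finsupp.add_apply,
    Finsupp.add_apply, Nat.factorization_eq_zero_of_not_dvd hg2,
    Nat.factorization_eq_zero_of_not_dvd hm2, hq3, Nat.Prime.factorization_pow Nat.prime_two,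
    Finsupp.single_eq_same] at h5
  omega

theorem mainQ {n : ℕ} (hn : 2 ≤ n) (hF : Fintype.card F = (2 ^ n) ^ 2)
    (S : Sylow 2 (PSU 3 F (2 ^ n))) :
    Nat.card (S : Subgroup (PSU 3 F (2 ^ n))) = (2 ^ n) ^ 3 ∧
      Nat.card (Subgroup.center ↥(S : Subgroup (PSU 3 F (2 ^ n)))) = 2 ^ n ∧
      IsSuzukiTwoGroup ↥(S : Subgroup (PSU 3 F (2 ^ n))) := by
  have : Fact (Nat.Prime 2) := ⟨Nat.prime_two⟩
  have : Finite (PSU 3 F (2 ^ n)) := inferInstance
  obtain ⟨D⟩ := exists_FD (F := F) (n := n) (by omega) hF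
  have hq1 : 1 < 2 ^ n := Nat.one_lt_two_pow (by omega)
  have hfac := fact_PSU3 (F := F) (n := n) (by omega) hF
  have hS : Nat.card (S : Subgroup (PSU 3 F (2 ^ n))) = (2 ^ n) ^ 3 := by
    have h := Sylow.card_eq_multiplicity S
    rw [hfac] at h
    rw [h, ← pow_mul, mul_comm]
  let f : HQ D →* PSU 3 F (2 ^ n) :=
    (QuotientGroup.mk' (Subgroup.center (SU 3 F (2 ^ n)))).comp (toSUq D)
  have hf : Function.Injective f := by
    rw [← MonoidHom.ker_eq_bot_iff]
    ext x
    rw [MonoidHom.mem_ker, Subgroup.mem_bot]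
    constructor
    · intro hx
      have h1 : toSUq D x ∈ Subgroup.center (SU 3 F (2 ^ n)) := by
        have : (QuotientGroup.mk' (Subgroup.center (SU 3 F (2 ^ n)))) (toSUq D x) = 1 := hx
        rwa [QuotientGroup.mk'_apply, QuotientGroup.eq_one_iff] at this
      obtain ⟨a, -, -, ha⟩ := SU_center_scalar hF (by norm_num) (toSUq D x) h1
      exact eq_one_of_scalar x a ha
    · rintro rfl
      exact map_one f
  have hrange : Nat.card f.range = 2 ^ (Nat.card (PSU 3 F (2 ^ n))).factorization 2 := by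
    rw [hfac, ← Nat.card_congr (MonoidHom.ofInjective hf).toEquiv, card_HQ hF hq1, ← pow_mul,
      mul_comm]
  let S' : Sylow 2 (PSU 3 F (2 ^ n)) := Sylow.ofCard f.range hrange
  have e1 : HQ D ≃* (S' : Subgroup (PSU 3 F (2 ^ n))) := MonoidHom.ofInjective hf
  have e2 : (S' : Subgroup (PSU 3 F (2 ^ n))) ≃* (S : Subgroup (PSU 3 F (2 ^ n))) :=
    Sylow.equiv S' S
  refine ⟨hS, ?_, suzuki_transport (e1.trans e2)
    (suzuki_HQ (m := n - 2) (by rw [Nat.sub_add_cancel hn]) hF)⟩
  exact (card_center_congr (e1.trans e2)).symm.trans (card_center_HQ (D := D) hF hq1)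

end final

end Cfsg.Agent.Helper5.SU3q
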