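import Mathlib
import Cfsg.Prelude.Def_Classical
import Cfsg.Prelude.Def_LieClassical
import Cfsg.Agent.Helper3.Unitary
import Cfsg.Agent.Helper5.SU3q

/-!
Automorphisms of the model group `HQ D` (Sylow 2-subgroup of `SU 3 F q`, `q` a power of two)
whose square is inner fix the centre pointwise.
-/

set_option autoImplicit false

namespace Cfsg.Agent.Helper5.SU3Aut

open Cfsg Matrix Cfsg.Agent.Helper5.SU3q

/-- hypotheses on the map induced on `F` by an automorphism of the model group with inner square -/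
structure AH {F : Type*} [Field F] {q : ℕ} (D : FD F q) (a : F → F) : Prop where
  add : ∀ x y, a (x + y) = a x + a y
  inv : ∀ x, a (a x) = x
  nrm : ∀ x y, x * D.φ x = y * D.φ y → a x * D.φ (a x) = a y * D.φ (a y)
  com : ∀ x y, D.φ x * y = D.φ y * x → D.φ (a x) * a y = D.φ (a y) * a x

section core

variable {F : Type*} [Field F] {q : ℕ} {D : FD F q} {a : F → F}

theorem AH.zero (h : AH D a) : a 0 = 0 := by
  have h1 := h.add 0 0
  rw [add_zero] at h1
  linear_combination -h1

theorem AH.ne_zero (h : AH D a) {x : F} (hx : x ≠ 0) : a x ≠ 0 := by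
  intro h0
  apply hx
  have h1 := h.inv x
  rw [h0, h.zero] at h1
  exact h1.symm

theorem dep_div {x y : F} (hx : x ≠ 0) (hxy : D.φ x * y = D.φ y * x) :
    D.φ (y / x) = y / x := by
  have hφx : D.φ x ≠ 0 := by
    intro h0
    have h1 := congrArg D.φ h0
    rw [D.hφ2, map_zero] at h1
    exact hx h1
  rw [map_div₀, div_eq_div_iff hφx hx]
  linear_combination -hxy

theorem dep_mul {l x : F} (hl : D.φ l = l) : D.φ x * (l * x) = D.φ (l * x) * x := by
  rw [map_mul, hl]; ring

theorem AH.indep (h : AH D a) {x y : F} (hxy : ¬ (D.φ x * y = D.φ y * x)) :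
    ¬ (D.φ (a x) * a y = D.φ (a y) * a x) := by
  intro hp
  apply hxy
  have h1 := h.com (a x) (a y) hp
  rw [h.inv, h.inv] at h1
  exact h1

theorem AH.ratio_mem (h : AH D a) {x l : F} (hl : D.φ l = l) (hx : x ≠ 0) :
    D.φ (a (l * x) / a x) = a (l * x) / a x :=
  dep_div (h.ne_zero hx) (h.com x (l * x) (dep_mul hl))

theorem AH.pair (h : AH D a) {x y l : F} (hl : D.φ l = l)
    (hxy : ¬ (D.φ x * y = D.φ y * x)) : a (l * x) / a x = a (l * y) / a y := by
  have hx : x ≠ 0 := by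
    rintro rfl
    apply hxy
    rw [map_zero, zero_mul, mul_zero]
  have hy : y ≠ 0 := by
    rintro rfl
    apply hxy
    rw [map_zero, zero_mul, mul_zero]
  have hxy0 : x + y ≠ 0 := by
    intro h0
    apply hxy
    have hyx : y = x := by linear_combination h0 - x * D.two
    rw [hyx]
  have hax := h.ne_zero hx
  have hay := h.ne_zero hy
  have haxy := h.ne_zero hxy0
  have hu := h.ratio_mem hl hx
  have hv := h.ratio_mem hl hy
  have ht := h.ratio_mem hl hxy0
  set u := a (l * x) / a x with hu_def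
  set v := a (l * y) / a y with hv_def
  set t := a (l * (x + y)) / a (x + y) with ht_def
  have e1 : a (l * x) = u * a x := by rw [hu_def, div_mul_cancel₀ _ hax]
  have e2 : a (l * y) = v * a y := by rw [hv_def, div_mul_cancel₀ _ hay]
  have e3 : a (l * (x + y)) = t * a (x + y) := by rw [ht_def, div_mul_cancel₀ _ haxy]
  have e4 : (u - t) * a x = (t - v) * a y := by
    have h5 : a (l * (x + y)) = a (l * x) + a (l * y) := by rw [mul_add, h.add]
    rw [e3, e1, e2, h.add] at h5
    linear_combination -h5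
  have htv : t = v := by
    by_contra hne
    have hne' : t - v ≠ 0 := sub_ne_zero.mpr hne
    apply h.indep hxy
    have e5 : a y = (u - t) / (t - v) * a x := by
      field_simp
      linear_combination -e4
    have hc : D.φ ((u - t) / (t - v)) = (u - t) / (t - v) := by
      rw [map_div₀, map_sub, map_sub, hu, hv, ht]
    rw [e5]
    exact dep_mul hc
  rw [htv] at e4
  have h6 : (u - v) * a x = 0 := by linear_combination e4
  rcases mul_eq_zero.mp h6 with h7 | h7
  · exact sub_eq_zero.mp h7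
  · exact absurd h7 hax

/-- the normalised map -/
def sg (a : F → F) (l : F) : F := a l / a 1

theorem AH.sg_add (h : AH D a) (x y : F) : sg a (x + y) = sg a x + sg a y := by
  unfold sg; rw [h.add, add_div]

theorem AH.sg_one (h : AH D a) : sg a 1 = 1 := by
  unfold sg; exact div_self (h.ne_zero one_ne_zero)

theorem AH.sg_zero (h : AH D a) : sg a 0 = 0 := by
  unfold sg; rw [h.zero, zero_div]

theorem AH.sg_mem (h : AH D a) {l : F} (hl : D.φ l = l) : D.φ (sg a l) = sg a l := by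
  have h1 := h.ratio_mem hl (one_ne_zero (α := F))
  rw [mul_one] at h1
  exact h1

theorem AH.semi (h : AH D a) {w : F} (hw : w + D.φ w = 1) {l : F} (hl : D.φ l = l) (x : F) :
    a (l * x) = sg a l * a x := by
  have hww : D.φ w ≠ w := by
    intro h0
    rw [h0] at hw
    have h10 : (1 : F) = 0 := by linear_combination -hw + w * D.two
    exact one_ne_zero h10
  by_cases hx0 : x = 0
  · rw [hx0, mul_zero, h.zero, mul_zero]
  have hax := h.ne_zero hx0
  have key : ∀ y : F, y ≠ 0 → D.φ y ≠ y → a (l * y) = sg a l * a y := by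
    intro y hy0 hy
    have hind : ¬ (D.φ (1 : F) * y = D.φ y * 1) := by
      rw [map_one, one_mul, mul_one]
      exact fun h0 => hy h0.symm
    have h1 := h.pair hl hind
    rw [mul_one] at h1
    unfold sg
    rw [h1, div_mul_cancel₀ _ (h.ne_zero hy0)]
  by_cases hx : D.φ x = x
  · have hwx0 : w * x ≠ 0 := by
      apply mul_ne_zero _ hx0
      rintro rfl
      rw [map_zero, add_zero] at hw
      exact zero_ne_one hw
    have hwx : D.φ (w * x) ≠ w * x := by
      rw [map_mul, hx]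
      intro h0
      exact hww (mul_right_cancel₀ hx0 h0)
    have h1 := key (w * x) hwx0 hwx
    have hind : ¬ (D.φ x * (w * x) = D.φ (w * x) * x) := by
      rw [map_mul, hx]
      intro h0
      apply hww
      have h2 : w * (x * x) = D.φ w * (x * x) := by linear_combination h0
      exact (mul_right_cancel₀ (mul_ne_zero hx0 hx0) h2).symm
    have h3 := h.pair hl hind
    rw [h1, mul_div_assoc, div_self (h.ne_zero hwx0), mul_one] at h3
    rw [← h3, div_mul_cancel₀ _ hax]
  · exact key x hx0 hx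

theorem AH.sg_mul (h : AH D a) {w : F} (hw : w + D.φ w = 1) {l : F} (hl : D.φ l = l) (x : F) :
    sg a (l * x) = sg a l * sg a x := by
  unfold sg
  rw [h.semi hw hl x, mul_div_assoc]
  rfl

end core

section core2

variable {F : Type*} [Field F] {q : ℕ} {D : FD F q} {a : F → F}

theorem nrm_mem (x : F) : D.φ (x * D.φ x) = x * D.φ x := by
  rw [map_mul, D.hφ2]; ring

theorem sqrtK {m : ℕ} (hq : q = 2 ^ (m + 1)) {c : F} (hc : D.φ c = c) :
    D.φ (c ^ (2 ^ m)) = c ^ (2 ^ m) ∧ c ^ (2 ^ m) * c ^ (2 ^ m) = c := by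
  refine ⟨by rw [map_pow, hc], ?_⟩
  rw [← pow_two, ← pow_mul, ← pow_succ, ← hq, ← D.hφ, hc]

theorem AH.sg_sub (h : AH D a) (x y : F) : sg a (x - y) = sg a x - sg a y := by
  have h1 := h.sg_add (x - y) y
  rw [sub_add_cancel] at h1
  linear_combination -h1

theorem AH.norm (h : AH D a) {w : F} (hw : w + D.φ w = 1) {m : ℕ} (hq : q = 2 ^ (m + 1))
    (b : F) : a b * D.φ (a b) = (a 1 * D.φ (a 1)) * sg a (b * D.φ b) := by
  obtain ⟨hμ, hμ2⟩ := sqrtK (D := D) hq (nrm_mem (D := D) b)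
  have h1 : b * D.φ b = (b * D.φ b) ^ (2 ^ m) * D.φ ((b * D.φ b) ^ (2 ^ m)) := by
    rw [hμ, hμ2]
  have h2 := h.nrm b _ h1
  have h3 : a ((b * D.φ b) ^ (2 ^ m)) = sg a ((b * D.φ b) ^ (2 ^ m)) * a 1 := by
    have := h.semi hw hμ 1
    rw [mul_one] at this
    exact this
  have h4 : sg a (b * D.φ b) = sg a ((b * D.φ b) ^ (2 ^ m)) * sg a ((b * D.φ b) ^ (2 ^ m)) := by
    rw [← h.sg_mul hw hμ, hμ2]
  rw [h2, h3, map_mul, h.sg_mem hμ, h4]
  ring

theorem AH.sg_norm (h : AH D a) {w : F} (hw : w + D.φ w = 1) {m : ℕ} (hq : q = 2 ^ (m + 1))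
    (b : F) : sg a b * D.φ (sg a b) = sg a (b * D.φ b) := by
  have ha1 := h.ne_zero (one_ne_zero (α := F))
  have hφa1 : D.φ (a 1) ≠ 0 := by
    intro h0
    have h1 := congrArg D.φ h0
    rw [D.hφ2, map_zero] at h1
    exact ha1 h1
  have h1 := h.norm hw hq b
  have e : sg a b * D.φ (sg a b) = (a b * D.φ (a b)) / (a 1 * D.φ (a 1)) := by
    unfold sg
    rw [map_div₀, div_mul_div_comm]
  rw [e, h1, mul_div_cancel_left₀ _ (mul_ne_zero ha1 hφa1)]

theorem AH.sg_tr (h : AH D a) {w : F} (hw : w + D.φ w = 1) {m : ℕ} (hq : q = 2 ^ (m + 1))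
    (b : F) : sg a b + D.φ (sg a b) = sg a (b + D.φ b) := by
  have hN1 := h.sg_norm hw hq (b + 1)
  have e : (b + 1) * D.φ (b + 1) = b * D.φ b + (b + D.φ b) + 1 := by
    rw [map_add, map_one]; ring
  rw [e, h.sg_add, h.sg_add, h.sg_add, h.sg_one, map_add, map_one] at hN1
  have hN := h.sg_norm hw hq b
  linear_combination hN1 - hN

theorem AH.sg_mul_all (h : AH D a) {w : F} (hw : w + D.φ w = 1) {m : ℕ} (hq : q = 2 ^ (m + 1))
    (x y : F) : sg a (x * y) = sg a x * sg a y := by
  have hφw : D.φ w = 1 - w := by linear_combination hw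
  have dec : ∀ z : F, ∃ z0 z1 : F, D.φ z0 = z0 ∧ D.φ z1 = z1 ∧ z = z0 + z1 * w := by
    intro z
    refine ⟨z + (z + D.φ z) * w, z + D.φ z, ?_, ?_, ?_⟩
    · rw [map_add, map_mul, map_add, D.hφ2, hφw]
      linear_combination (D.φ z - z * w - D.φ z * w) * D.two
    · rw [map_add, D.hφ2]; ring
    · linear_combination (-(z + D.φ z) * w) * D.two
  obtain ⟨x0, x1, hx0, hx1, rfl⟩ := dec x
  obtain ⟨y0, y1, hy0, hy1, rfl⟩ := dec y
  have hn0 : D.φ (w * D.φ w) = w * D.φ w := nrm_mem w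
  have hw2 : w * w = w - w * D.φ w := by rw [hφw]; ring
  have hT := h.sg_tr hw hq w
  rw [hw, h.sg_one] at hT
  have hN := h.sg_norm hw hq w
  have hw'2 : sg a w * sg a w = sg a w - sg a (w * D.φ w) := by
    linear_combination (sg a w) * hT - hN
  have hc : D.φ (x0 * y1 + x1 * y0 + x1 * y1) = x0 * y1 + x1 * y0 + x1 * y1 := by
    simp only [map_add, map_mul, hx0, hx1, hy0, hy1]
  have e : (x0 + x1 * w) * (y0 + y1 * w) =
      (x0 * y0 - x1 * (y1 * (w * D.φ w))) + (x0 * y1 + x1 * y0 + x1 * y1) * w := by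
    linear_combination (x1 * y1) * hw2
  rw [e, h.sg_add, h.sg_sub, h.sg_mul hw hc w, h.sg_mul hw hx0 y0, h.sg_mul hw hx1,
    h.sg_mul hw hy1, h.sg_add, h.sg_add, h.sg_mul hw hx0 y1, h.sg_mul hw hx1 y0,
    h.sg_mul hw hx1 y1, h.sg_add, h.sg_add, h.sg_mul hw hx1 w, h.sg_mul hw hy1 w]
  linear_combination (-(sg a x1 * sg a y1)) * hw'2

theorem AH.sg_sg (h : AH D a) {w : F} (hw : w + D.φ w = 1) {m : ℕ} (hq : q = 2 ^ (m + 1))
    (x : F) : sg a (sg a x) = x := by
  have ha1 := h.ne_zero (one_ne_zero (α := F))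
  have e : ∀ y, a y = a 1 * sg a y := by
    intro y
    unfold sg
    field_simp
  have h1 : ∀ y, a 1 * sg a (a 1) * sg a (sg a y) = y := by
    intro y
    have h2 := h.inv y
    rw [e y, e (a 1 * sg a y), h.sg_mul_all hw hq] at h2
    linear_combination h2
  have h2 := h1 1
  rw [h.sg_one, h.sg_one, mul_one] at h2
  have h3 := h1 x
  rw [h2, one_mul] at h3
  exact h3

/-- the induced field automorphism -/
def psi (h : AH D a) {w : F} (hw : w + D.φ w = 1) {m : ℕ} (hq : q = 2 ^ (m + 1)) : F →+* F where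
  toFun := sg a
  map_one' := h.sg_one
  map_mul' := h.sg_mul_all hw hq
  map_zero' := h.sg_zero
  map_add' := h.sg_add

theorem AH.fix (h : AH D a) {w : F} (hw : w + D.φ w = 1) {m : ℕ} (hq : q = 2 ^ (m + 1))
    (hfix : ∀ x, D.φ x = x → sg a x = x) (b : F) : a b * D.φ (a b) = b * D.φ b := by
  have h1 := h.norm hw hq b
  rw [hfix _ (nrm_mem b)] at h1
  have hκK : D.φ (a 1 * D.φ (a 1)) = a 1 * D.φ (a 1) := nrm_mem (a 1)
  have h2 := h.norm hw hq (a 1)
  rw [h.inv, map_one, mul_one, hfix _ hκK] at h2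
  have h3 : (a 1 * D.φ (a 1) - 1) ^ 2 = 0 := by
    linear_combination -h2 + (1 - a 1 * D.φ (a 1)) * D.two
  have hκ : a 1 * D.φ (a 1) = 1 := sub_eq_zero.mp ((pow_eq_zero_iff two_ne_zero).mp h3)
  rw [hκ, one_mul] at h1
  exact h1

end core2

section subfield

variable {F : Type*} [Field F] [Fintype F] {q : ℕ} (D : FD F q)

theorem invol_fix (hF : Fintype.card F = q ^ 2) (hq : 1 < q) (ψ : F →+* F)
    (hψ : ∀ x, ψ (ψ x) = x) : ∀ x, D.φ x = x → ψ x = x := by
  classical
  let E : Subfield F := RingHom.eqLocusField ψ (RingHom.id F)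
  have hE : ∀ x, x ∈ E ↔ ψ x = x := fun x => Iff.rfl
  let g : F →+ F := ψ.toAddMonoidHom + AddMonoidHom.id F
  have hg : ∀ x, g x = ψ x + x := fun x => rfl
  have hker : ∀ x, x ∈ g.ker ↔ x ∈ E := by
    intro x
    rw [AddMonoidHom.mem_ker, hg, hE]
    constructor
    · intro h; linear_combination h - x * D.two
    · intro h; linear_combination h + x * D.two
  have hrange : ∀ x, x ∈ g.range → x ∈ E := by
    rintro _ ⟨y, rfl⟩
    rw [hE, hg, map_add, hψ]; ring
  have h1 := AddSubgroup.card_mul_index g.ker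
  rw [AddSubgroup.index_ker, Nat.card_eq_fintype_card (α := F), hF] at h1
  have h2 : Nat.card g.ker = Nat.card E := Nat.card_congr (Equiv.subtypeEquivRight hker)
  have h3 : Nat.card g.range ≤ Nat.card E := by
    apply Nat.card_le_card_of_injective (fun x : g.range => (⟨x.1, hrange x.1 x.2⟩ : E))
    intro x y hxy
    exact Subtype.ext (congrArg (fun z : E => (z : F)) hxy)
  have h4 : q ≤ Nat.card E := by
    have h5 : q ^ 2 ≤ Nat.card E ^ 2 := by
      rw [← h1, h2, pow_two]; exact Nat.mul_le_mul_left _ h3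
    exact (Nat.pow_le_pow_iff_left (by norm_num)).mp h5
  have h5 : Nat.card F = Nat.card E ^ Module.finrank E F :=
    Module.natCard_eq_pow_finrank (K := E) (V := F)
  rw [Nat.card_eq_fintype_card, hF] at h5
  obtain ⟨e, hee⟩ : ∃ e, Nat.card E = e := ⟨_, rfl⟩
  rw [hee] at h4 h5
  generalize Module.finrank E F = d at h5
  have hd2 : d ≤ 2 := by
    by_contra hcon
    have hcon' : 3 ≤ d := by omega
    have k1 : e ^ 3 ≤ e ^ d := Nat.pow_le_pow_right (by omega) hcon'
    have k2 : q ^ 3 ≤ e ^ 3 := Nat.pow_le_pow_left h4 3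
    have k3 : q ^ 2 < q ^ 3 := Nat.pow_lt_pow_right hq (by norm_num)
    omega
  intro x hx
  interval_cases d
  · have k1 : 1 < q ^ 2 := Nat.one_lt_pow (by norm_num) hq
    rw [pow_zero] at h5
    omega
  · rw [pow_one] at h5
    have hbij : Function.Bijective (fun z : E => (z : F)) := by
      apply Function.Injective.bijective_of_nat_card_le Subtype.val_injective
      rw [hee, Nat.card_eq_fintype_card, hF, h5]
    obtain ⟨z, hz⟩ := hbij.2 x
    have hz' : (z : F) = x := hz
    rw [← hz']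
    exact (hE z.1).mp z.2
  · have heq : q = e := Nat.pow_left_injective (by norm_num : 2 ≠ 0) h5
    have hEK : ∀ z : E, D.φ (z : F) = z := by
      intro z
      have : Fintype E := Fintype.ofFinite E
      have k1 := FiniteField.pow_card z
      rw [← Nat.card_eq_fintype_card, hee, ← heq] at k1
      rw [D.hφ]
      have k2 := congrArg (fun t : E => (t : F)) k1
      simpa using k2
    have hK := (card_kerQ D hF hq).1
    have hmem : ∀ z : E, (z : F) ∈ (tauQ D).ker := by
      intro z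
      rw [AddMonoidHom.mem_ker, tauQ_apply, hEK z]
      linear_combination (z : F) * D.two
    have hfbij : Function.Bijective (fun z : E => (⟨z.1, hmem z⟩ : (tauQ D).ker)) := by
      apply Function.Injective.bijective_of_nat_card_le
      · intro z z' hzz
        exact Subtype.ext (congrArg (fun t : (tauQ D).ker => (t : F)) hzz)
      · rw [hK, hee, heq]
    have hxk : x ∈ (tauQ D).ker := by
      rw [AddMonoidHom.mem_ker, tauQ_apply, hx]
      linear_combination x * D.two
    obtain ⟨z, hz⟩ := hfbij.2 ⟨x, hxk⟩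
    have hz' : (z : F) = x := congrArg (fun t : (tauQ D).ker => (t : F)) hz
    rw [← hz']
    exact (hE z.1).mp z.2

end subfield

section wrapper

variable {F : Type*} [Field F] {q : ℕ} {D : FD F q}

theorem aut_ZQ (α : HQ D ≃* HQ D) {z : HQ D} (hz : z ∈ ZQ D) : α z ∈ ZQ D := by
  apply mem_ZQ_of_sq
  rw [← map_mul, ZQ_sq z hz, map_one]

/-- the map induced on `F` by an automorphism -/
def aOf (α : HQ D ≃* HQ D) (w : F) (hw : w + D.φ w = 1) (b : F) : F := (α (liftQ w hw b)).b

theorem aOf_b (α : HQ D ≃* HQ D) (w : F) (hw : w + D.φ w = 1) (x : HQ D) :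
    (α x).b = aOf α w hw x.b := by
  have hz : (liftQ w hw x.b)⁻¹ * x ∈ ZQ D := by
    rw [mem_ZQ, gmul_b]
    show (liftQ w hw x.b).b + x.b = 0
    rw [liftQ_b]; linear_combination x.b * D.two
  have h1 := aut_ZQ α hz
  rw [mem_ZQ] at h1
  have h2 : α x = α (liftQ w hw x.b) * α ((liftQ w hw x.b)⁻¹ * x) := by
    rw [← map_mul, mul_inv_cancel_left]
  rw [h2, gmul_b, h1, add_zero]
  rfl

theorem ah_of_aut (α : HQ D ≃* HQ D) (s : HQ D) (hα : ∀ x, α (α x) = s * x * s⁻¹)
    (w : F) (hw : w + D.φ w = 1) : AH D (aOf α w hw) where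
  add x y := by
    have h1 := aOf_b α w hw (liftQ w hw x * liftQ w hw y)
    rw [map_mul, gmul_b, gmul_b, liftQ_b, liftQ_b] at h1
    exact h1.symm
  inv x := by
    have h1 := aOf_b α w hw (α (liftQ w hw x))
    rw [hα, gmul_b, gmul_b, liftQ_b] at h1
    show aOf α w hw (α (liftQ w hw x)).b = x
    rw [← h1]
    show s.b + x + s.b = x
    linear_combination s.b * D.two
  nrm x y hxy := by
    have e : liftQ w hw x * liftQ w hw x = liftQ w hw y * liftQ w hw y := by
      ext
      · rw [gmul_b, gmul_b, liftQ_b, liftQ_b]; linear_combination (x - y) * D.two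
      · rw [gmul_c, gmul_c, liftQ_b, liftQ_b, liftQ_c, liftQ_c]
        linear_combination (2 * w + 1) * hxy
    have h1 := congrArg (fun t => (α t).c) e
    simp only [map_mul, gmul_c] at h1
    show (α (liftQ w hw x)).b * D.φ (α (liftQ w hw x)).b =
      (α (liftQ w hw y)).b * D.φ (α (liftQ w hw y)).b
    linear_combination h1 - ((α (liftQ w hw x)).c - (α (liftQ w hw y)).c) * D.two
  com x y hxy := by
    have e : liftQ w hw x * liftQ w hw y = liftQ w hw y * liftQ w hw x := by
      ext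
      · rw [gmul_b, gmul_b, add_comm]
      · rw [gmul_c, gmul_c, liftQ_b, liftQ_b]; linear_combination hxy
    have h1 := congrArg (fun t => (α t).c) e
    simp only [map_mul, gmul_c] at h1
    show D.φ (α (liftQ w hw x)).b * (α (liftQ w hw y)).b =
      D.φ (α (liftQ w hw y)).b * (α (liftQ w hw x)).b
    linear_combination h1

variable [Fintype F]

theorem aut_fix_center {m : ℕ} (hq : q = 2 ^ (m + 1)) (hF : Fintype.card F = q ^ 2)
    (α : HQ D ≃* HQ D) (s : HQ D) (hα : ∀ x, α (α x) = s * x * s⁻¹) (z : HQ D)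
    (hz : z ∈ ZQ D) : α z = z := by
  have hq1 : 1 < q := by rw [hq]; exact Nat.one_lt_two_pow (by omega)
  obtain ⟨w, hw⟩ := exists_omegaQ D hF hq1
  have h := ah_of_aut α s hα w hw
  have hfix := invol_fix D hF hq1 (psi h hw hq) (fun x => h.sg_sg hw hq x)
  have hnorm := h.fix hw hq hfix
  have hb : z.b = 0 := hz
  have hc : D.φ z.c = z.c := by
    apply phi_eq_of_ker
    rw [z.rel, hb, zero_mul]
  obtain ⟨hμ, hμ2⟩ := sqrtK (D := D) hq hc
  have ez : z = liftQ w hw (z.c ^ (2 ^ m)) * liftQ w hw (z.c ^ (2 ^ m)) := by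
    ext
    · rw [gmul_b, liftQ_b, hb]; linear_combination (-(z.c ^ (2 ^ m))) * D.two
    · rw [gmul_c, liftQ_b, liftQ_c, hμ]
      linear_combination -hμ2 - (w * (z.c ^ (2 ^ m) * z.c ^ (2 ^ m))) * D.two
  have h1 : (α (liftQ w hw (z.c ^ (2 ^ m)))).b * D.φ (α (liftQ w hw (z.c ^ (2 ^ m)))).b =
      z.c ^ (2 ^ m) * D.φ (z.c ^ (2 ^ m)) := hnorm (z.c ^ (2 ^ m))
  have h2 : α (liftQ w hw (z.c ^ (2 ^ m)) * liftQ w hw (z.c ^ (2 ^ m))) =
      liftQ w hw (z.c ^ (2 ^ m)) * liftQ w hw (z.c ^ (2 ^ m)) := by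
    rw [map_mul]
    ext
    · rw [gmul_b, gmul_b, liftQ_b]
      linear_combination ((α (liftQ w hw (z.c ^ (2 ^ m)))).b - z.c ^ (2 ^ m)) * D.two
    · rw [gmul_c, gmul_c, liftQ_b, liftQ_c]
      linear_combination h1 + ((α (liftQ w hw (z.c ^ (2 ^ m)))).c -
        w * (z.c ^ (2 ^ m) * D.φ (z.c ^ (2 ^ m)))) * D.two
  rw [ez]
  exact h2

end wrapper

section final

open Cfsg.Agent.Helper3

variable {F : Type*} [Field F] [Fintype F]

omit [Fintype F] in
theorem toSUq_injective {q : ℕ} (D : FD F q) : Function.Injective (toSUq D) := by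
  intro x y hxy
  have h : GQ D x.b x.c = GQ D y.b y.c := congrArg (fun s : SU 3 F q => s.1.1) hxy
  have h1 := congrFun (congrFun h 2) 0
  have h2 := congrFun (congrFun h 0) 1
  simp [GQ] at h1 h2
  exact HQ.ext h1 h2

theorem fact_SU3 {n : ℕ} (hn : 1 ≤ n) (hF : Fintype.card F = (2 ^ n) ^ 2) :
    (Nat.card (SU 3 F (2 ^ n))).factorization 2 = 3 * n := by
  have hq3 : (2 ^ n) ^ 3 = 2 ^ (3 * n) := by rw [← pow_mul, mul_comm]
  obtain ⟨r, hr⟩ : ∃ r, 2 ^ n = 2 * r := ⟨2 ^ (n - 1), by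
    rw [← pow_succ', Nat.sub_add_cancel hn]⟩
  have hr1 : 1 ≤ r := by
    have : 1 < 2 ^ n := Nat.one_lt_two_pow (by omega)
    omega
  generalize 2 ^ n = q at *
  have h1 := card_SU (F := F) (q := q) hF (n := 3) (by norm_num)
  have h2 := card_GU (F := F) (q := q) hF 3
  rw [h2] at h1
  have h3 : ∏ i ∈ Finset.range 3, (if Even i then q ^ (i + 1) + 1 else q ^ (i + 1) - 1) =
      (q + 1) * ((q ^ 2 - 1) * (q ^ 3 + 1)) := by
    rw [Finset.prod_range_succ, Finset.prod_range_succ, Finset.prod_range_succ,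
      Finset.prod_range_zero, if_pos (by decide), if_neg (by decide), if_pos (by decide)]
    ring
  rw [h3] at h1
  have h4 : Nat.card (SU 3 F q) = q ^ 3 * ((q ^ 2 - 1) * (q ^ 3 + 1)) := by
    apply Nat.eq_of_mul_eq_mul_left (Nat.succ_pos q)
    calc (q + 1) * Nat.card (SU 3 F q)
        = q ^ (3 * (3 - 1) / 2) * ((q + 1) * ((q ^ 2 - 1) * (q ^ 3 + 1))) := h1
      _ = (q + 1) * (q ^ 3 * ((q ^ 2 - 1) * (q ^ 3 + 1))) := by
        have : 3 * (3 - 1) / 2 = 3 := by norm_num
        rw [this]; ring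
  have hm2 : ¬ 2 ∣ (q ^ 2 - 1) * (q ^ 3 + 1) := by
    intro h
    have e2 : q ^ 2 = 2 * (r * q) := by rw [pow_two]; nth_rewrite 1 [hr]; ring
    have e3 : q ^ 3 = 2 * (r * q ^ 2) := by rw [pow_succ']; nth_rewrite 1 [hr]; ring
    have hrq : 1 ≤ r * q := Nat.mul_pos hr1 (by omega)
    rw [e2, e3] at h
    generalize r * q = t at *
    generalize r * q ^ 2 = t' at *
    rcases (Nat.Prime.dvd_mul Nat.prime_two).mp h with h' | h' <;> omega
  have hm0 : (q ^ 2 - 1) * (q ^ 3 + 1) ≠ 0 := by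
    intro h
    rw [h] at hm2
    exact hm2 (dvd_zero 2)
  have hq30 : q ^ 3 ≠ 0 := by
    have : 0 < q := by omega
    positivity
  rw [h4, Nat.factorization_mul hq30 hm0, Finsupp.add_apply,
    Nat.factorization_eq_zero_of_not_dvd hm2, hq3, Nat.Prime.factorization_pow Nat.prime_two,
    Finsupp.single_eq_same]
  omega

theorem mainAut {R : Type*} [Group R] [Finite R] (n : ℕ) (hn : 2 ≤ n)
    (hF : Fintype.card F = 4 ^ n) (P : Sylow 2 ↥(SU 3 F (2 ^ n))) (S' : Subgroup R)
    (hS : Nonempty (↥S' ≃* ↥(P : Subgroup ↥(SU 3 F (2 ^ n))))) (hidx : S'.index = 2) :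
    (Subgroup.center ↥S').map S'.subtype ≤ Subgroup.center R := by
  have hF' : Fintype.card F = (2 ^ n) ^ 2 := by
    rw [hF, ← pow_mul, mul_comm, pow_mul]; norm_num
  have : Fact (Nat.Prime 2) := ⟨Nat.prime_two⟩
  obtain ⟨D⟩ := exists_FD (F := F) (n := n) (by omega) hF'
  have hq1 : 1 < 2 ^ n := Nat.one_lt_two_pow (by omega)
  have hfac := fact_SU3 (F := F) (n := n) (by omega) hF'
  have hrange : Nat.card (toSUq D).range = 2 ^ (Nat.card (SU 3 F (2 ^ n))).factorization 2 := by
    rw [hfac, ← Nat.card_congr (MonoidHom.ofInjective (toSUq_injective D)).toEquiv,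
      card_HQ hF' hq1, ← pow_mul, mul_comm]
  let P' : Sylow 2 ↥(SU 3 F (2 ^ n)) := Sylow.ofCard (toSUq D).range hrange
  have e1 : HQ D ≃* (P' : Subgroup ↥(SU 3 F (2 ^ n))) :=
    MonoidHom.ofInjective (toSUq_injective D)
  have e2 : (P' : Subgroup ↥(SU 3 F (2 ^ n))) ≃* (P : Subgroup ↥(SU 3 F (2 ^ n))) :=
    Sylow.equiv P' P
  obtain ⟨e3⟩ := hS
  let e : ↥S' ≃* HQ D := e3.trans (e1.trans e2).symm
  have hnorm : S'.Normal := Subgroup.normal_of_index_eq_two hidx
  rintro _ ⟨z, hz, rfl⟩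
  rw [Subgroup.mem_center_iff]
  intro r
  let αr : ↥S' ≃* ↥S' := MulAut.conjNormal r
  have hαr : ∀ x : ↥S', ((αr x : ↥S') : R) = r * x * r⁻¹ := fun x => rfl
  let s : ↥S' := ⟨r ^ 2, Subgroup.sq_mem_of_index_two hidx r⟩
  have hαα : ∀ x : ↥S', αr (αr x) = s * x * s⁻¹ := by
    intro x
    apply Subtype.ext
    rw [hαr, hαr]
    show r * (r * (x : R) * r⁻¹) * r⁻¹ = r ^ 2 * (x : R) * (r ^ 2)⁻¹
    rw [pow_two, _root_.mul_inv_rev]
    simp only [mul_assoc]
  let α : HQ D ≃* HQ D := e.symm.trans (αr.trans e)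
  have hα : ∀ y, α (α y) = e s * y * (e s)⁻¹ := by
    intro y
    show e (αr (e.symm (e (αr (e.symm y))))) = _
    rw [e.symm_apply_apply, hαα, map_mul, map_mul, map_inv, e.apply_symm_apply]
  have hzc : e z ∈ ZQ D := by
    rw [← center_HQ (D := D) hF' hq1, Subgroup.mem_center_iff]
    intro g
    have h0 := Subgroup.mem_center_iff.mp hz (e.symm g)
    apply e.symm.injective
    rw [map_mul, map_mul, e.symm_apply_apply]
    exact h0
  have hfix := aut_fix_center (m := n - 1) (by rw [Nat.sub_add_cancel (by omega)]) hF' α (e s)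
    hα (e z) hzc
  have h1 : αr z = z := by
    apply e.injective
    have h0 : e (αr (e.symm (e z))) = e z := hfix
    rwa [e.symm_apply_apply] at h0
  have h2 : r * (z : R) * r⁻¹ = (z : R) := by
    have h0 := congrArg (fun t : ↥S' => (t : R)) h1
    exact h0
  show r * (z : R) = (z : R) * r
  calc r * (z : R) = r * (z : R) * r⁻¹ * r := by group
    _ = (z : R) * r := by rw [h2]

end final

end Cfsg.Agent.Helper5.SU3Aut
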