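import Cfsg.Agent.Helper5.SU3Lin
import Cfsg.Agent.Helper5.PlaneFus
import Cfsg.Agent.Helper3.Unitary
import Cfsg.Agent.Helper3.HermCount

/-!
# `Qd(p)` is not involved in `SU₃(q)`, `q` a power of the odd prime `p` (helper5)
-/

set_option autoImplicit false

namespace Cfsg.Agent.Helper5.SU3

open Matrix Cfsg Cfsg.Agent.Helper5 Cfsg.Agent.Helper5.Plane Cfsg.Agent.Helper5.Qd
open Cfsg.Agent.Helper17 Cfsg.Agent.Helper27.SL2E

/-- a finite group mapping to a `p'`-group with a `p`-group as kernel has no `Qd(p)`-section -/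
theorem not_hasQdSec_of_hom {X D : Type*} [Group X] [Finite X] [Group D] [Finite D] {p : ℕ}
    [Fact p.Prime] (hp2 : p ≠ 2) (δ : X →* D) (hD : (Nat.card D).Coprime p)
    (hker : IsPGroup p δ.ker) : ¬ HasQdSec p X := by
  rintro ⟨L, ψ, hψ⟩
  have hpp := (Fact.out : p.Prime)
  haveI : NeZero p := ⟨hpp.ne_zero⟩
  obtain ⟨k, hk⟩ := hψ (Qm (Um 1) 0)
  obtain ⟨m, hm⟩ : ∃ m, m = Nat.card D := ⟨_, rfl⟩
  have hkm : ((k ^ m : ↥L) : X) ∈ δ.ker := by
    rw [MonoidHom.mem_ker, Subgroup.coe_pow, map_pow, hm, pow_card_eq_one']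
  obtain ⟨Y, hY⟩ : ∃ Y : Subgroup ↥(Cfsg.qd p), Y = (δ.ker.subgroupOf L).map ψ := ⟨_, rfl⟩
  haveI hkn : (δ.ker.subgroupOf L).Normal := inferInstance
  have hYn : Y.Normal := by rw [hY]; exact Subgroup.Normal.map hkn ψ hψ
  have hYp : IsPGroup p Y := by rw [hY]; exact hker.comap_subtype.map ψ
  have hamem : (Qm (Um 1) 0 : ↥(Cfsg.qd p)) ^ m ∈ Y := by
    rw [hY, ← hk, ← map_pow]
    exact ⟨k ^ m, Subgroup.mem_subgroupOf.mpr hkm, rfl⟩
  obtain ⟨Y', hY'⟩ : ∃ Y' : Subgroup (SL2p p), Y' = Y.map (Cfsg.Agent.S2795.beta p) := ⟨_, rfl⟩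
  have hβs : Function.Surjective (Cfsg.Agent.S2795.beta p) := fun M =>
    ⟨Qm M 0, Cfsg.Agent.S2795.beta_Qm M 0⟩
  haveI hY'n : Y'.Normal := by rw [hY']; exact Subgroup.Normal.map hYn _ hβs
  have hY'p : IsPGroup p Y' := by rw [hY']; exact hYp.map _
  have h1 : Um (1 : ZMod p) ^ m ∈ Y' := by
    rw [hY']
    exact ⟨_, hamem, by rw [map_pow, Cfsg.Agent.S2795.beta_Qm]⟩
  have hm0 : (m : ZMod p) ≠ 0 := by
    rw [Ne, ZMod.natCast_eq_zero_iff, hm]
    exact (Nat.Prime.coprime_iff_not_dvd hpp).mp hD.symm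
  have h2 : Um (1 : ZMod p) ∈ Y' := by
    have e : Um (1 : ZMod p) = (Um (1 : ZMod p) ^ m) ^ ((m : ZMod p)⁻¹).val := by
      rw [Cfsg.Agent.Helper5.QuadPair.Um_pow, Cfsg.Agent.Helper5.QuadPair.Um_pow,
        ZMod.natCast_zmod_val, mul_one, inv_mul_cancel₀ hm0]
    rw [e]
    exact Subgroup.pow_mem _ h1 _
  exact Cfsg.Agent.S2795.no_normal_p_Um hp2 Y' hY'p h2

/-- realizers of a plane datum normalize `R` -/
theorem isPlane_normalizer {G : Type*} [Group G] [Finite G] {p : ℕ} [Fact p.Prime]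
    {R E : Subgroup G} {lam : G → ZMod p × ZMod p} (h : IsPlane p R lam E) :
    IsPlane p R lam (Subgroup.normalizer (R : Set G)) := by
  obtain ⟨h1, h2, h3, h4⟩ := h
  refine ⟨h1, h2, h3, fun M => ?_⟩
  obtain ⟨g, -, hgR, hgl⟩ := h4 M
  refine ⟨g, ?_, hgR, hgl⟩
  apply mem_normalizer_of_cj_le
  intro x hx
  obtain ⟨r, hr, rfl⟩ := mem_cj'.mp hx
  exact hgR r hr

/-- a `Qd(p)`-section of a finite group is seen in the normalizer of a nontrivial `p`-subgroup -/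
theorem exists_local_qdSec {G : Type*} [Group G] [Finite G] {p : ℕ} [Fact p.Prime] (hp : p ≠ 2)
    (h : HasQdSec p G) :
    ∃ R : Subgroup G, IsPGroup p R ∧ R ≠ ⊥ ∧ HasQdSec p ↥(Subgroup.normalizer (R : Set G)) := by
  have hpp := (Fact.out : p.Prime)
  obtain ⟨R, lam, hpl⟩ := isPlane_of_hasQdSec h
  refine ⟨R, hpl.1, ?_, ?_⟩
  · rintro rfl
    obtain ⟨r, hr, hrl⟩ := hpl.2.2.1 (1, 0)
    rw [Subgroup.mem_bot] at hr
    rw [hr, hpl.lam_one] at hrl
    have h0 : (0 : ZMod p) = 1 := congrArg Prod.fst hrl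
    haveI : Nontrivial (ZMod p) := ZMod.nontrivial_iff.mpr hpp.ne_one
    exact zero_ne_one h0
  · exact ((isPlane_normalizer hpl).subgroupOf _ Subgroup.le_normalizer le_rfl).hasQdSec hp

section SU

variable {K : Type*} [Field K] [Fintype K]

/-- the matrix of an element of `SU₃` -/
def matHom (K : Type*) [Field K] (q : ℕ) :
    ↥(Cfsg.SU 3 K q) →* Matrix (Fin 3) (Fin 3) K :=
  (Cfsg.slToMat 3 K).comp (Cfsg.SU 3 K q).subtype

theorem matHom_injective (q : ℕ) : Function.Injective (matHom K q) := by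
  intro a b hab
  apply Subtype.ext
  apply Matrix.SpecialLinearGroup.toGL_injective
  apply Units.ext
  exact hab

theorem matHom_det (q : ℕ) (g : ↥(Cfsg.SU 3 K q)) : (matHom K q g).det = 1 :=
  (g : Matrix.SpecialLinearGroup (Fin 3) K).det_coe

theorem matHom_pres (q : ℕ) (g : ↥(Cfsg.SU 3 K q)) (u v : Fin 3 → K) :
    Cfsg.hermForm 3 K q (matHom K q g *ᵥ u) (matHom K q g *ᵥ v) = Cfsg.hermForm 3 K q u v :=
  g.2 u v

/-- the isotropic vectors -/
abbrev IsoVec (K : Type*) [Field K] (q : ℕ) : Type _ :=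
  {v : Fin 3 → K // Cfsg.hermForm 3 K q v v = 0}

/-- the action of `SU₃` on isotropic vectors -/
@[reducible] def isoAct (K : Type*) [Field K] [Fintype K] (q : ℕ) :
    MulAction ↥(Cfsg.SU 3 K q) (IsoVec K q) where
  smul g x := ⟨matHom K q g *ᵥ x.1, by rw [matHom_pres]; exact x.2⟩
  one_smul x := by
    apply Subtype.ext
    show matHom K q 1 *ᵥ x.1 = x.1
    rw [map_one, Matrix.one_mulVec]
  mul_smul g g' x := by
    apply Subtype.ext
    show matHom K q (g * g') *ᵥ x.1 = matHom K q g *ᵥ (matHom K q g' *ᵥ x.1)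
    rw [map_mul, Matrix.mulVec_mulVec]

theorem card_isoVec_dvd {p : ℕ} [Fact p.Prime] (n : ℕ) (hn : 1 ≤ n)
    (hK : Fintype.card K = (p ^ n) ^ 2) : p ∣ Nat.card (IsoVec K (p ^ n)) := by
  have hpp := (Fact.out : p.Prime)
  have h1 : Nat.card (IsoVec K (p ^ n)) = Cfsg.Agent.Helper3.hcount (F := K) (p ^ n) 3 0 :=
    Cfsg.Agent.Helper3.hcount_eq_card (F := K) (p ^ n) 3 0
  rw [h1, Cfsg.Agent.Helper3.hcount_isotropic hK 3, if_neg (by decide)]
  obtain ⟨q, hq⟩ : ∃ q, q = p ^ n := ⟨_, rfl⟩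
  rw [← hq]
  have hpq : p ∣ q := by rw [hq]; exact dvd_pow_self p (by omega)
  have hq1 : 1 ≤ q ^ (3 - 1) := Nat.one_le_pow _ _ (by rw [hq]; exact pow_pos hpp.pos n)
  obtain ⟨m, hm⟩ : ∃ m, q ^ (3 - 1) = m + 1 := ⟨q ^ (3 - 1) - 1, by omega⟩
  have e : (q ^ 3 + 1) * (q ^ (3 - 1) - 1) + 1 = q ^ 2 * (q * m + 1) := by
    have hm' : q ^ 2 = m + 1 := hm
    have h3 : q ^ (3 - 1) - 1 = m := by rw [hm, Nat.add_sub_cancel]
    rw [h3]
    calc (q ^ 3 + 1) * m + 1 = q ^ 3 * m + (m + 1) := by ring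
      _ = q ^ 3 * m + q ^ 2 := by rw [← hm']
      _ = q ^ 2 * (q * m + 1) := by ring
  rw [e]
  exact Dvd.dvd.mul_right (dvd_pow hpq two_ne_zero) _

/-- `Qd(p)` is not a section of `SU₃(q)`, `q` a power of the odd prime `p` -/
theorem not_hasQdSec_su3 {p : ℕ} [Fact p.Prime] (hp : p ≠ 2) [CharP K p] (n : ℕ) (hn : 1 ≤ n)
    (hK : Fintype.card K = (p ^ n) ^ 2) : ¬ HasQdSec p ↥(Cfsg.SU 3 K (p ^ n)) := by
  classical
  intro hsec
  have hpp := (Fact.out : p.Prime)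
  have hp3 : 3 ≤ p := by
    have := hpp.two_le
    omega
  haveI : Finite ↥(Cfsg.SU 3 K (p ^ n)) := inferInstance
  obtain ⟨R, hRp, hR1, hRsec⟩ := exists_local_qdSec hp hsec
  -- the Frobenius
  obtain ⟨σ, hσ⟩ : ∃ σ : K →+* K, ∀ x, σ x = x ^ p ^ n :=
    ⟨iterateFrobenius K p n, fun x => iterateFrobenius_def p n x⟩
  have hσ2 : ∀ x, σ (σ x) = x := by
    intro x
    rw [hσ, hσ, ← pow_mul, ← sq, ← hK, FiniteField.pow_card]
  have hH : ∀ u v : Fin 3 → K, Cfsg.hermForm 3 K (p ^ n) u v = u ⬝ᵥ sb σ v := by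
    intro u v
    simp [Cfsg.hermForm, dotProduct, sb, hσ]
  have hpres : ∀ (g : ↥(Cfsg.SU 3 K (p ^ n))) (u v : Fin 3 → K),
      (matHom K (p ^ n) g *ᵥ u) ⬝ᵥ sb σ (matHom K (p ^ n) g *ᵥ v) = u ⬝ᵥ sb σ v := by
    intro g u v
    rw [← hH, ← hH]
    exact matHom_pres (p ^ n) g u v
  -- a nonzero isotropic vector fixed by `R`
  letI := isoAct K (p ^ n)
  have h00 : Cfsg.hermForm 3 K (p ^ n) (0 : Fin 3 → K) 0 = 0 := by rw [hH]; simp
  have h0fix : (⟨0, h00⟩ : IsoVec K (p ^ n)) ∈ MulAction.fixedPoints ↥R (IsoVec K (p ^ n)) := by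
    intro r
    apply Subtype.ext
    show matHom K (p ^ n) (r : ↥(Cfsg.SU 3 K (p ^ n))) *ᵥ (0 : Fin 3 → K) = 0
    rw [Matrix.mulVec_zero]
  obtain ⟨b, hb, hb0⟩ := hRp.exists_fixed_point_of_prime_dvd_card_of_fixed_point
    (IsoVec K (p ^ n)) (card_isoVec_dvd n hn hK) h0fix
  obtain ⟨w, hwdef⟩ : ∃ w : Fin 3 → K, w = b.1 := ⟨_, rfl⟩
  have hw0 : w ≠ 0 := by
    intro h
    apply hb0
    apply Subtype.ext
    rw [← hwdef, h]
  have hwiso : w ⬝ᵥ sb σ w = 0 := by rw [← hH, hwdef]; exact b.2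
  have hRw : ∀ r ∈ R, matHom K (p ^ n) r *ᵥ w = w := by
    intro r hr
    have := hb ⟨r, hr⟩
    rw [hwdef]
    exact congrArg Subtype.val this
  obtain ⟨c, hc⟩ : ∃ c, c = sb σ w := ⟨_, rfl⟩
  have hc0 : c ≠ 0 := by rw [hc]; exact fun h => hw0 ((sb_eq_zero σ w).mp h)
  rw [← hc] at hwiso
  -- `N_G(R)` stabilizes the line of `w`
  have hNw : ∀ g ∈ Subgroup.normalizer (R : Set ↥(Cfsg.SU 3 K (p ^ n))),
      ∃ t : K, matHom K (p ^ n) g *ᵥ w = t • w := by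
    intro g hg
    by_contra hcon
    have hind : crossProduct w (matHom K (p ^ n) g *ᵥ w) ≠ 0 := by
      intro h0
      have h0' : crossProduct (matHom K (p ^ n) g *ᵥ w) w = 0 := by
        rw [← cross_anticomm, h0, neg_zero]
      exact hcon (cross_eq_zero_imp h0' hw0)
    apply hR1
    rw [eq_bot_iff]
    intro r hr
    rw [Subgroup.mem_bot]
    apply matHom_injective (p ^ n)
    rw [map_one]
    have hr' : g⁻¹ * r * g ∈ R := by
      have := (Subgroup.mem_normalizer_iff.mp (Subgroup.inv_mem _ hg) r).mp hr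
      rwa [inv_inv] at this
    refine eq_one_of_fix_two σ hσ2 _ (hpres r) (matHom_det (p ^ n) r) w
      (matHom K (p ^ n) g *ᵥ w) (by rw [hc] at hwiso; exact hwiso) ?_ (hRw r hr) ?_ hind
    · rw [hpres g, ← hc]; exact hwiso
    · have h1 := hRw _ hr'
      have h2 : r * g = g * (g⁻¹ * r * g) := by group
      rw [Matrix.mulVec_mulVec, ← map_mul, h2, map_mul, ← Matrix.mulVec_mulVec, h1]
  -- the eigenvalue character
  obtain ⟨i, hi⟩ := exists_ne_zero_coord hw0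
  obtain ⟨aF, haFdef⟩ : ∃ aF : ↥(Cfsg.SU 3 K (p ^ n)) → K,
      ∀ g, aF g = (matHom K (p ^ n) g *ᵥ w) i / w i := ⟨_, fun _ => rfl⟩
  have haF : ∀ g ∈ Subgroup.normalizer (R : Set ↥(Cfsg.SU 3 K (p ^ n))),
      matHom K (p ^ n) g *ᵥ w = aF g • w := by
    intro g hg
    obtain ⟨t, ht⟩ := hNw g hg
    rw [haFdef, ht]
    simp [hi]
  have hsmul_inj : ∀ s t : K, s • w = t • w → s = t := by
    intro s t hst
    have := congrFun hst i
    simp only [Pi.smul_apply, smul_eq_mul] at this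
    exact mul_right_cancel₀ hi this
  obtain ⟨aHom, haHom⟩ : ∃ aHom : ↥(Subgroup.normalizer (R : Set ↥(Cfsg.SU 3 K (p ^ n)))) →* K,
      ∀ g, aHom g = aF (g : ↥(Cfsg.SU 3 K (p ^ n))) :=
    ⟨{ toFun := fun g => aF (g : ↥(Cfsg.SU 3 K (p ^ n)))
       map_one' := by
         apply hsmul_inj
         rw [Subgroup.coe_one, ← haF _ (Subgroup.one_mem _), map_one, Matrix.one_mulVec, one_smul]
       map_mul' := by
         intro g g'
         apply hsmul_inj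
         rw [Subgroup.coe_mul, ← haF _ (Subgroup.mul_mem _ g.2 g'.2), map_mul,
           ← Matrix.mulVec_mulVec, haF _ g'.2, Matrix.mulVec_smul, haF _ g.2, smul_smul,
           mul_comm] }, fun _ => rfl⟩
  refine not_hasQdSec_of_hom hp aHom.toHomUnits ?_ ?_ hRsec
  · rw [Nat.card_units, Nat.card_eq_fintype_card, hK, Nat.coprime_comm,
      Nat.Prime.coprime_iff_not_dvd hpp]
    intro hdvd
    have h1 : p ∣ (p ^ n) ^ 2 := dvd_pow (dvd_pow_self p (by omega)) (by norm_num)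
    have h2 : 1 ≤ (p ^ n) ^ 2 := Nat.one_le_pow _ _ (pow_pos hpp.pos n)
    have h3 : p ∣ 1 := by
      have := (Nat.dvd_sub h1 hdvd)
      rwa [Nat.sub_sub_self h2] at this
    exact hpp.one_lt.ne' (Nat.dvd_one.mp h3)
  · intro g
    refine ⟨1, ?_⟩
    have hgk : aHom.toHomUnits (g : ↥(Subgroup.normalizer (R : Set ↥(Cfsg.SU 3 K (p ^ n))))) = 1 :=
      g.2
    have h1 : aHom (g : ↥(Subgroup.normalizer (R : Set ↥(Cfsg.SU 3 K (p ^ n))))) = 1 := by
      rw [← MonoidHom.coe_toHomUnits, hgk]; rfl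
    rw [haHom] at h1
    have hgw : matHom K (p ^ n) ((g : ↥(Subgroup.normalizer (R : Set ↥(Cfsg.SU 3 K (p ^ n))))) :
        ↥(Cfsg.SU 3 K (p ^ n))) *ᵥ w = w := by
      rw [haF _ (g : ↥(Subgroup.normalizer (R : Set ↥(Cfsg.SU 3 K (p ^ n))))).2, h1, one_smul]
    have hcg : c ᵥ* matHom K (p ^ n) ((g : ↥(Subgroup.normalizer
        (R : Set ↥(Cfsg.SU 3 K (p ^ n))))) : ↥(Cfsg.SU 3 K (p ^ n))) = c := by
      ext j
      have h2 := hpres ((g : ↥(Subgroup.normalizer (R : Set ↥(Cfsg.SU 3 K (p ^ n))))) :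
        ↥(Cfsg.SU 3 K (p ^ n))) (Pi.single j 1) w
      rw [hgw, ← hc, dotProduct_comm, Matrix.dotProduct_mulVec, dotProduct_comm _ c] at h2
      simpa using h2
    have h3 := pow_p_eq_one_of_eigen hp3 _ (matHom_det (p ^ n) _) w c hw0 hc0 hwiso hgw hcg
    apply Subtype.ext
    apply Subtype.ext
    apply matHom_injective (p ^ n)
    show matHom K (p ^ n) (((g : ↥(Subgroup.normalizer (R : Set ↥(Cfsg.SU 3 K (p ^ n))))) :
        ↥(Cfsg.SU 3 K (p ^ n))) ^ p ^ 1) = matHom K (p ^ n) 1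
    rw [pow_one, map_pow, h3, map_one]

end SU

end Cfsg.Agent.Helper5.SU3
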