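import Cfsg.Agent.Helper5.Plane

/-!
# Sylow subgroups of subgroups, as a relation between subgroups of the ambient group (helper5)
-/

set_option autoImplicit false

namespace Cfsg.Agent.Helper5.Plane

open Cfsg Cfsg.Agent.Helper17

variable {p : ℕ} [Fact p.Prime] {G : Type*} [Group G]

/-- `A` is a Sylow `p`-subgroup of `B` -/
def SylIn (p : ℕ) {G : Type*} [Group G] (A B : Subgroup G) : Prop :=
  A ≤ B ∧ IsPGroup p A ∧ ¬ p ∣ A.relIndex B

theorem SylIn.toSylow [Finite G] {A B : Subgroup G} (h : SylIn p A B) :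
    ∃ T : Sylow p ↥B, (T : Subgroup ↥B) = A.subgroupOf B :=
  ⟨IsPGroup.toSylow (P := A.subgroupOf B) h.2.1.comap_subtype h.2.2, rfl⟩

theorem sylIn_of_sylow [Finite G] {B : Subgroup G} (T : Sylow p ↥B) :
    SylIn p ((T : Subgroup ↥B).map B.subtype) B := by
  refine ⟨Subgroup.map_subtype_le _, T.2.map _, ?_⟩
  have h1 : ((T : Subgroup ↥B).map B.subtype).subgroupOf B = (T : Subgroup ↥B) :=
    Subgroup.comap_map_eq_self_of_injective (Subgroup.subtype_injective _) _
  show ¬ p ∣ (((T : Subgroup ↥B).map B.subtype).subgroupOf B).index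
  rw [h1]
  exact T.not_dvd_index

theorem sylIn_exists [Finite G] (p : ℕ) [Fact p.Prime] (B : Subgroup G) : ∃ A, SylIn p A B := by
  obtain ⟨T⟩ : Nonempty (Sylow p ↥B) := inferInstance
  exact ⟨_, sylIn_of_sylow T⟩

theorem SylIn.exists_conj_le [Finite G] {A B : Subgroup G} (h : SylIn p A B) {D : Subgroup G}
    (hD : D ≤ B) (hDp : IsPGroup p D) : ∃ b ∈ B, cj b D ≤ A := by
  obtain ⟨T, hT⟩ := h.toSylow
  obtain ⟨Q, hQ⟩ := (hDp.comap_subtype (K := B)).exists_le_sylow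
  obtain ⟨b, hb⟩ := MulAction.exists_smul_eq ↥B Q T
  refine ⟨(b : G), b.2, ?_⟩
  intro x hx
  obtain ⟨d, hd, rfl⟩ := mem_cj'.mp hx
  have h1 : (⟨d, hD hd⟩ : ↥B) ∈ (Q : Subgroup ↥B) := hQ (Subgroup.mem_subgroupOf.mpr hd)
  have h2 : b * ⟨d, hD hd⟩ * b⁻¹ ∈ ((b • Q : Sylow p ↥B) : Subgroup ↥B) := by
    rw [Sylow.coe_subgroup_smul, Subgroup.mem_pointwise_smul_iff_inv_smul_mem]
    simp only [MulAut.smul_def, MulAut.conj_inv_apply]
    have e : b⁻¹ * (b * ⟨d, hD hd⟩ * b⁻¹) * b = (⟨d, hD hd⟩ : ↥B) := by group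
    rw [e]; exact h1
  rw [hb, hT, Subgroup.mem_subgroupOf] at h2
  exact h2

theorem SylIn.card_le [Finite G] {A B : Subgroup G} (h : SylIn p A B) {D : Subgroup G}
    (hD : D ≤ B) (hDp : IsPGroup p D) : Nat.card D ≤ Nat.card A := by
  obtain ⟨b, -, hb⟩ := h.exists_conj_le hD hDp
  rw [← card_cj b D]
  exact Subgroup.card_le_of_le hb

theorem SylIn.eq_of_le [Finite G] {A B : Subgroup G} (h : SylIn p A B) {A' : Subgroup G}
    (hA : A ≤ A') (hA' : A' ≤ B) (hp : IsPGroup p A') : A = A' :=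
  Subgroup.eq_of_le_of_card_ge hA (h.card_le hA' hp)

theorem SylIn.of_le [Finite G] {A B : Subgroup G} (h : SylIn p A B) {A' : Subgroup G}
    (hA : A ≤ A') (hA' : A' ≤ B) (hp : IsPGroup p A') : SylIn p A' B := by
  rw [← h.eq_of_le hA hA' hp]; exact h

theorem SylIn.conj {A B : Subgroup G} (h : SylIn p A B) (g : G) :
    SylIn p (Cfsg.Agent.Helper17.cj g A) (Cfsg.Agent.Helper17.cj g B) := by
  refine ⟨cj_mono h.1, h.2.1.map _, ?_⟩
  have h1 : (Cfsg.Agent.Helper17.cj g A).relIndex (Cfsg.Agent.Helper17.cj g B) = A.relIndex B :=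
    Subgroup.relIndex_map_map_of_injective (f := (MulAut.conj g).toMonoidHom) A B
      (MulAut.conj g).injective
  rw [h1]; exact h.2.2

theorem SylIn.inf_normal [Finite G] {A B C : Subgroup G} (h : SylIn p A B) (hC : C ≤ B)
    (hBC : B ≤ Subgroup.normalizer (C : Set G)) : SylIn p (A ⊓ C) C := by
  obtain ⟨A₀, hA₀⟩ := sylIn_exists p C
  obtain ⟨b, hb, hbA⟩ := h.exists_conj_le (hA₀.1.trans hC) hA₀.2.1
  have h1 := hA₀.conj b
  rw [cj_eq_self_of_mem_normalizer (hBC hb)] at h1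
  exact h1.of_le (le_inf hbA h1.1) inf_le_right (h.2.1.to_le inf_le_left)

theorem sylow_sylIn_top [Finite G] (P : Sylow p G) : SylIn p (P : Subgroup G) ⊤ := by
  refine ⟨le_top, P.2, ?_⟩
  rw [Subgroup.relIndex_top_right]
  exact P.not_dvd_index

/-- every `p`-subgroup has a conjugate `X' ≤ P` with `N_P(X')` Sylow in `N_G(X')` -/
theorem exists_cj_sylIn_normalizer [Finite G] (P : Sylow p G) (X : Subgroup G)
    (hX : IsPGroup p X) :
    ∃ g : G, cj g X ≤ (P : Subgroup G) ∧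
      SylIn p ((P : Subgroup G) ⊓ Subgroup.normalizer ((cj g X : Subgroup G) : Set G))
        (Subgroup.normalizer ((cj g X : Subgroup G) : Set G)) := by
  obtain ⟨N, hN⟩ : ∃ N : Subgroup G, N = Subgroup.normalizer (X : Set G) := ⟨_, rfl⟩
  have hXN : X ≤ N := by rw [hN]; exact Subgroup.le_normalizer
  obtain ⟨T, hT⟩ := (hX.comap_subtype (K := N)).exists_le_sylow
  have hT' := sylIn_of_sylow T
  have hXT : X ≤ (T : Subgroup ↥N).map N.subtype := by
    intro x hx
    exact ⟨⟨x, hXN hx⟩, hT (Subgroup.mem_subgroupOf.mpr hx), rfl⟩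
  obtain ⟨g, -, hg⟩ := (sylow_sylIn_top P).exists_conj_le le_top hT'.2.1
  have h1 := hT'.conj g
  subst hN
  rw [← normalizer_cj] at h1
  refine ⟨g, (cj_mono hXT).trans hg, ?_⟩
  exact h1.of_le (le_inf hg h1.1) inf_le_right (P.2.to_le inf_le_left)

/-- a central Sylow `p`-subgroup is complemented by the set of `p'`-elements -/
theorem central_sylow_compl {C : Type*} [Group C] [Finite C] (Z : Sylow p C)
    (hZ : (Z : Subgroup C) ≤ Subgroup.center C) :
    ∃ K : Subgroup C, (∀ c : C, c ∈ K ↔ (orderOf c).Coprime p) ∧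
      ∀ c : C, ∃ k ∈ K, ∃ z ∈ (Z : Subgroup C), c = k * z := by
  have hpp := (Fact.out : p.Prime)
  have hN : Subgroup.normalizer ((Z : Subgroup C) : Set C) ≤
      Subgroup.centralizer ((Z : Subgroup C) : Set C) := by
    intro x _
    rw [Subgroup.mem_centralizer_iff]
    intro z hz
    exact ((Subgroup.mem_center_iff.mp (hZ hz)) x).symm
  have hcompl := MonoidHom.ker_transferSylow_isComplement' Z hN
  have hnd := MonoidHom.not_dvd_card_ker_transferSylow Z hN
  refine ⟨(MonoidHom.transferSylow Z hN).ker, fun c => ⟨fun hc => ?_, fun hc => ?_⟩, fun c => ?_⟩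
  · have h1 : orderOf c ∣ Nat.card ↥(MonoidHom.transferSylow Z hN).ker := by
      have := orderOf_dvd_natCard (⟨c, hc⟩ : ↥(MonoidHom.transferSylow Z hN).ker)
      rwa [Subgroup.orderOf_mk] at this
    exact Nat.Coprime.coprime_dvd_left h1 ((Nat.Prime.coprime_iff_not_dvd hpp).mpr hnd).symm
  · rw [MonoidHom.mem_ker]
    obtain ⟨k, hk⟩ := (IsPGroup.iff_orderOf.mp Z.2) (MonoidHom.transferSylow Z hN c)
    have h1 : p ^ k ∣ orderOf c := hk ▸ orderOf_map_dvd _ c
    have hk0 : k = 0 := by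
      by_contra hk0
      have h2 : p ∣ orderOf c := (dvd_pow_self p hk0).trans h1
      exact (Nat.Prime.coprime_iff_not_dvd hpp).mp hc.symm h2
    rw [hk0, pow_zero] at hk
    exact orderOf_eq_one_iff.mp hk
  · obtain ⟨⟨k, z⟩, hkz, -⟩ :=
      Subgroup.IsComplement.existsUnique (Subgroup.isComplement'_def.mp hcompl) c
    exact ⟨k, k.2, z, z.2, hkz.symm⟩

end Cfsg.Agent.Helper5.Plane
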