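import Mathlib
import Cfsg.Prelude.Def_Transfer
import Cfsg.Agent.Helper1.Extra2Iso

/-!
A concrete model of the extraspecial group of order 32 of minus type (even-weight vectors of
`F_2^5`, written with four coordinates, together with a cocycle bit), its automorphism group
(acting on the five singular points) and the transfer to an abstract group via
`Cfsg.Agent.Helper1.es2_iso`.
-/

set_option autoImplicit false

namespace Cfsg.Agent.Helper5.XM32

/-- the model: four coordinates of an even-weight vector of `F_2^5` and a central bit -/
structure M where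
  a : Bool
  b : Bool
  c : Bool
  d : Bool
  e : Bool
  deriving DecidableEq, Fintype

/-- the cocycle (a bilinear form whose diagonal is the quadratic form) -/
def bet (x y : M) : Bool :=
  xor (xor (xor (x.a && y.a) (x.b && (xor y.a y.b))) (x.c && (xor (xor y.a y.b) y.c)))
    (x.d && (xor (xor (xor y.a y.b) y.c) y.d))

def mulM (x y : M) : M :=
  ⟨xor x.a y.a, xor x.b y.b, xor x.c y.c, xor x.d y.d, xor (xor x.e y.e) (bet x y)⟩

def oneM : M := ⟨false, false, false, false, false⟩

def invM (x : M) : M := ⟨x.a, x.b, x.c, x.d, xor x.e (bet x x)⟩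

theorem mulM_assoc : ∀ x y w : M, mulM (mulM x y) w = mulM x (mulM y w) := by decide +kernel

theorem oneM_mulM : ∀ x : M, mulM oneM x = x := by decide +kernel

theorem mulM_oneM : ∀ x : M, mulM x oneM = x := by decide +kernel

theorem invM_mulM : ∀ x : M, mulM (invM x) x = oneM := by decide +kernel

instance : Group M where
  mul := mulM
  one := oneM
  inv := invM
  mul_assoc := mulM_assoc
  one_mul := oneM_mulM
  mul_one := mulM_oneM
  inv_mul_cancel := invM_mulM

theorem mul_def (x y : M) : x * y = mulM x y := rfl
theorem one_def : (1 : M) = oneM := rfl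
theorem inv_def (x : M) : x⁻¹ = invM x := rfl

/-- the central involution -/
def z : M := ⟨false, false, false, false, true⟩

/-- representatives of the five singular points -/
def p (i : Fin 5) : M :=
  if i = 0 then ⟨false, true, true, true, false⟩
  else if i = 1 then ⟨true, false, true, true, false⟩
  else if i = 2 then ⟨true, true, false, true, false⟩
  else if i = 3 then ⟨true, true, true, false, false⟩
  else ⟨true, true, true, true, false⟩

/-- index of the singular point of a noncentral involution -/
def idx (x : M) : Fin 5 :=
  if x.a = false then 0 else if x.b = false then 1 else if x.c = false then 2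
  else if x.d = false then 3 else 4

theorem z_ne_one : z ≠ (1 : M) := by decide

theorem z_sq : mulM z z = oneM := by decide

theorem z_central : ∀ g : M, mulM g z = mulM z g := by decide +kernel

theorem center_cases : ∀ x : M, (∀ g : M, mulM g x = mulM x g) → x = oneM ∨ x = z := by
  decide +kernel

theorem comm_cases : ∀ x y : M, mulM (mulM (mulM x y) (invM x)) (invM y) = oneM ∨
    mulM (mulM (mulM x y) (invM x)) (invM y) = z := by decide +kernel

theorem sq_cases : ∀ x : M, mulM x x = oneM ∨ mulM x x = z := by decide +kernel

theorem noE8 : ∀ x y : M, mulM x x = oneM → mulM y y = oneM → mulM x y = mulM y x →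
    (x = oneM ∨ x = z ∨ y = oneM ∨ y = z ∨ y = x ∨ y = mulM x z) := by decide +kernel

theorem invol_cases : ∀ x : M, mulM x x = oneM → x ≠ oneM → x ≠ z →
    (x = p (idx x) ∨ x = mulM (p (idx x)) z) := by decide +kernel

theorem idx_p : ∀ i : Fin 5, idx (p i) = i := by decide +kernel

theorem idx_z : ∀ x : M, idx (mulM x z) = idx x := by decide +kernel

theorem p_invol : ∀ i : Fin 5, mulM (p i) (p i) = oneM ∧ p i ≠ oneM ∧ p i ≠ z := by decide +kernel

theorem gen_cases : ∀ x : M, ∃ a b c d e : Bool,
    x = mulM (mulM (mulM (mulM (if a then p 0 else oneM) (if b then p 1 else oneM))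
      (if c then p 2 else oneM)) (if d then p 3 else oneM)) (if e then z else oneM) := by
  decide +kernel

theorem sign_cases : ∀ s0 s1 s2 s3 : Bool, ∃ g : M,
    mulM (mulM g (p 0)) (invM g) = mulM (p 0) (if s0 then z else oneM) ∧
    mulM (mulM g (p 1)) (invM g) = mulM (p 1) (if s1 then z else oneM) ∧
    mulM (mulM g (p 2)) (invM g) = mulM (p 2) (if s2 then z else oneM) ∧
    mulM (mulM g (p 3)) (invM g) = mulM (p 3) (if s3 then z else oneM) := by decide +kernel

theorem idx_conj : ∀ (g : M) (i : Fin 5), idx (mulM (mulM g (p i)) (invM g)) = i := by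
  decide +kernel

/-- the automorphism swapping the first two coordinates -/
def ft (x : M) : M := ⟨x.b, x.a, x.c, x.d, xor x.e (x.a && x.b)⟩

/-- the automorphism rotating the five coordinates -/
def fs (x : M) : M :=
  ⟨xor (xor (xor x.a x.b) x.c) x.d, x.a, x.b, x.c, xor x.e (xor (xor (xor x.a x.b) x.c) x.d)⟩

theorem ft_mul : ∀ x y : M, ft (mulM x y) = mulM (ft x) (ft y) := by decide +kernel
theorem fs_mul : ∀ x y : M, fs (mulM x y) = mulM (fs x) (fs y) := by decide +kernel
theorem ft_inj : ∀ x y : M, ft x = ft y → x = y := by decide +kernel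
theorem fs_inj : ∀ x y : M, fs x = fs y → x = y := by decide +kernel
theorem ft_idx : ∀ i : Fin 5, idx (ft (p i)) = Equiv.swap (0 : Fin 5) 1 i := by decide +kernel
theorem fs_idx : ∀ i : Fin 5, idx (fs (p i)) = i + 1 := by decide +kernel

theorem card_M : Nat.card M = 32 := by
  rw [Nat.card_eq_fintype_card]
  decide +kernel

end Cfsg.Agent.Helper5.XM32
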