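import Mathlib
import Cfsg.Prelude.Def_Transfer
import Cfsg.Agent.Helper1.Extra2Iso
import Cfsg.Agent.Helper5.XM32

/-!
The automorphism group of the extraspecial group of order 32 of minus type: the model `M`
of `Cfsg.Agent.Helper5.XM32` has inner automorphism group of order 16, and the action on the
five singular points gives a surjection onto the symmetric group of degree 5 with kernel the
inner automorphisms.  Transfer to an abstract group by `Cfsg.Agent.Helper1.es2_iso`.
-/

set_option autoImplicit false

namespace Cfsg.Agent.Helper5.XM32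

theorem esM : Cfsg.Agent.Helper1.ESData 2 M z where
  hz1 := z_ne_one
  hzp := by rw [pow_two, mul_def]; exact z_sq
  hcen := by
    have hle : Subgroup.zpowers z ≤ Subgroup.center M := by
      rw [Subgroup.zpowers_le, Subgroup.mem_center_iff]
      exact z_central
    ext x
    constructor
    · intro h
      rw [Subgroup.mem_center_iff] at h
      rcases center_cases x (fun g => h g) with h1 | h1
      · rw [h1]; exact Subgroup.one_mem _
      · rw [h1]; exact Subgroup.mem_zpowers z
    · intro h
      exact hle h
  hcomm := by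
    intro a b
    rw [commutatorElement_def]
    rcases comm_cases a b with h | h
    · have h' : a * b * a⁻¹ * b⁻¹ = 1 := h
      rw [h']; exact Subgroup.one_mem _
    · have h' : a * b * a⁻¹ * b⁻¹ = z := h
      rw [h']; exact Subgroup.mem_zpowers z
  hpow := by
    intro a
    rw [pow_two]
    rcases sq_cases a with h | h
    · have h' : a * a = 1 := h
      rw [h']; exact Subgroup.one_mem _
    · have h' : a * a = z := h
      rw [h']; exact Subgroup.mem_zpowers z

theorem comm_of_sq {G : Type*} [Group G] {a b : G} (ha : a ^ 2 = 1) (hb : b ^ 2 = 1)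
    (hab : (a * b) ^ 2 = 1) : a * b = b * a := by
  rw [pow_two] at ha hb hab
  have h1 : a = a⁻¹ := eq_inv_of_mul_eq_one_left ha
  have h2 : b = b⁻¹ := eq_inv_of_mul_eq_one_left hb
  have h3 : a * b = (a * b)⁻¹ := eq_inv_of_mul_eq_one_left hab
  rw [mul_inv_rev, ← h1, ← h2] at h3
  exact h3

theorem not_big_M : ¬ Cfsg.Agent.Helper1.HasBigElemAb M := by
  rintro ⟨A, hA, hcard⟩
  rw [card_M] at hcard
  have h4 : Nat.card A ≤ 4 := by
    classical
    have hfin : ∃ x : M, (A : Set M) ⊆ (({1, z, x, x * z} : Finset M) : Set M) := by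
      by_cases hex : ∃ x ∈ A, x ≠ 1 ∧ x ≠ z
      · obtain ⟨x, hxA, hx1, hxz⟩ := hex
        refine ⟨x, ?_⟩
        intro y hy
        have hxx : mulM x x = oneM := by have := hA x hxA; rwa [pow_two] at this
        have hyy : mulM y y = oneM := by have := hA y hy; rwa [pow_two] at this
        have hcomm : mulM x y = mulM y x :=
          comm_of_sq (hA x hxA) (hA y hy) (hA (x * y) (A.mul_mem hxA hy))
        rw [Finset.mem_coe]
        simp only [Finset.mem_insert, Finset.mem_singleton]
        rcases noE8 x y hxx hyy hcomm with h | h | h | h | h | h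
        · exact absurd h hx1
        · exact absurd h hxz
        · exact Or.inl h
        · exact Or.inr (Or.inl h)
        · exact Or.inr (Or.inr (Or.inl h))
        · exact Or.inr (Or.inr (Or.inr h))
      · refine ⟨1, ?_⟩
        intro y hy
        rw [Finset.mem_coe]
        simp only [Finset.mem_insert, Finset.mem_singleton]
        by_contra hcon
        apply hex
        refine ⟨y, hy, ?_, ?_⟩
        · intro h; exact hcon (Or.inl h)
        · intro h; exact hcon (Or.inr (Or.inl h))
    obtain ⟨x, hx⟩ := hfin
    have h1 : Nat.card A = (A : Set M).ncard := Nat.card_coe_set_eq (A : Set M)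
    rw [h1]
    refine (Set.ncard_le_ncard hx (Set.toFinite _)).trans ?_
    rw [Set.ncard_coe_finset]
    exact Finset.card_le_four
  have := Nat.pow_le_pow_left h4 2
  omega

theorem not_big_of_minus {P : Type*} [Group P] (h32 : Nat.card P = 32)
    (hminus : ∀ A : Subgroup P, Cfsg.IsElementaryAbelian 2 A → Nat.card ↥A ≤ 4) :
    ¬ Cfsg.Agent.Helper1.HasBigElemAb P := by
  rintro ⟨A, hA, hcard⟩
  have hEA : Cfsg.IsElementaryAbelian 2 A := by
    refine ⟨⟨⟨fun a b => ?_⟩⟩, hA⟩
    apply Subtype.ext
    exact comm_of_sq (hA a a.2) (hA b b.2) (hA (a * b) (A.mul_mem a.2 b.2))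
  have h4 := hminus A hEA
  rw [h32] at hcard
  have := Nat.pow_le_pow_left h4 2
  omega

/-- the action of an automorphism on the five singular points -/
def rhoFun (α : MulAut M) (i : Fin 5) : Fin 5 := idx (α (p i))

theorem aut_z (α : MulAut M) : α z = z := by
  have hc : ∀ g : M, mulM g (α z) = mulM (α z) g := by
    intro g
    obtain ⟨g', rfl⟩ := α.surjective g
    have h := z_central g'
    show α g' * α z = α z * α g'
    rw [← map_mul, ← map_mul]
    exact congrArg α h
  rcases center_cases _ hc with h | h
  · exfalso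
    have h' : α z = α 1 := by rw [map_one]; exact h
    exact z_ne_one (α.injective h')
  · exact h

theorem aut_p (α : MulAut M) (i : Fin 5) :
    α (p i) = p (rhoFun α i) ∨ α (p i) = p (rhoFun α i) * z := by
  obtain ⟨h1, h2, h3⟩ := p_invol i
  have hsq : mulM (α (p i)) (α (p i)) = oneM := by
    show α (p i) * α (p i) = 1
    rw [← map_mul]
    have h' : p i * p i = 1 := h1
    rw [h', map_one]
  have hne1 : α (p i) ≠ oneM := by
    intro h
    have h' : α (p i) = α 1 := by rw [map_one]; exact h
    exact h2 (α.injective h')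
  have hnez : α (p i) ≠ z := by
    intro h
    have h' : α (p i) = α z := by rw [aut_z]; exact h
    exact h3 (α.injective h')
  exact invol_cases _ hsq hne1 hnez

theorem rho_mul (α β : MulAut M) (i : Fin 5) : rhoFun (α * β) i = rhoFun α (rhoFun β i) := by
  show idx (α (β (p i))) = idx (α (p (rhoFun β i)))
  rcases aut_p β i with h | h
  · rw [h]
  · rw [h, map_mul, aut_z]; exact idx_z _

theorem rho_one (i : Fin 5) : rhoFun 1 i = i := idx_p i

/-- the permutation of the five singular points induced by an automorphism -/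
def rhoPerm (α : MulAut M) : Equiv.Perm (Fin 5) where
  toFun := rhoFun α
  invFun := rhoFun α⁻¹
  left_inv := fun i => by rw [← rho_mul, inv_mul_cancel, rho_one]
  right_inv := fun i => by rw [← rho_mul, mul_inv_cancel, rho_one]

/-- the action on the five singular points, as a homomorphism -/
def rho : MulAut M →* Equiv.Perm (Fin 5) where
  toFun := rhoPerm
  map_one' := Equiv.ext fun i => rho_one i
  map_mul' := fun α β => Equiv.ext fun i => rho_mul α β i

theorem rho_apply (α : MulAut M) (i : Fin 5) : rho α i = idx (α (p i)) := rfl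

theorem aut_ext (α β : MulAut M) (h0 : α (p 0) = β (p 0)) (h1 : α (p 1) = β (p 1))
    (h2 : α (p 2) = β (p 2)) (h3 : α (p 3) = β (p 3)) : α = β := by
  have ha : ∀ (a : Bool) (y : M), α y = β y →
      α (if a then y else 1) = β (if a then y else 1) := by
    intro a y h
    cases a
    · simp
    · simpa using h
  refine MulEquiv.ext fun x => ?_
  obtain ⟨a, b, c, d, e, rfl⟩ := gen_cases x
  show α ((if a then p 0 else 1) * (if b then p 1 else 1) * (if c then p 2 else 1) *
    (if d then p 3 else 1) * (if e then z else 1)) =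
    β ((if a then p 0 else 1) * (if b then p 1 else 1) * (if c then p 2 else 1) *
    (if d then p 3 else 1) * (if e then z else 1))
  rw [map_mul, map_mul, map_mul, map_mul, map_mul, map_mul, map_mul, map_mul,
    ha a _ h0, ha b _ h1, ha c _ h2, ha d _ h3, ha e z (by rw [aut_z, aut_z])]

theorem ker_le (α : MulAut M) (h : ∀ i, rhoFun α i = i) : ∃ g : M, MulAut.conj g = α := by
  have hp : ∀ i, α (p i) = mulM (p i) (if decide (α (p i) = p i * z) then z else oneM) := by
    intro i
    by_cases hd : α (p i) = p i * z
    · rw [if_pos (decide_eq_true hd)]; exact hd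
    · rw [if_neg (fun h' => hd (of_decide_eq_true h'))]
      rcases aut_p α i with h1 | h1
      · rw [h i] at h1
        rw [h1]; exact (mul_one (p i)).symm
      · rw [h i] at h1
        exact absurd h1 hd
  obtain ⟨g, g0, g1, g2, g3⟩ := sign_cases (decide (α (p 0) = p 0 * z))
    (decide (α (p 1) = p 1 * z)) (decide (α (p 2) = p 2 * z)) (decide (α (p 3) = p 3 * z))
  refine ⟨g, aut_ext _ _ ?_ ?_ ?_ ?_⟩
  · exact (MulAut.conj_apply g (p 0)).trans (g0.trans (hp 0).symm)
  · exact (MulAut.conj_apply g (p 1)).trans (g1.trans (hp 1).symm)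
  · exact (MulAut.conj_apply g (p 2)).trans (g2.trans (hp 2).symm)
  · exact (MulAut.conj_apply g (p 3)).trans (g3.trans (hp 3).symm)

theorem ker_rho : rho.ker = (MulAut.conj : M →* MulAut M).range := by
  ext α
  rw [MonoidHom.mem_ker, MonoidHom.mem_range]
  constructor
  · intro h
    apply ker_le
    intro i
    exact congrArg (fun σ : Equiv.Perm (Fin 5) => σ i) h
  · rintro ⟨g, rfl⟩
    refine Equiv.ext fun i => ?_
    show idx (MulAut.conj g (p i)) = i
    rw [MulAut.conj_apply]
    exact idx_conj g i

/-- a multiplicative injective self-map of `M` as an automorphism -/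
noncomputable def autOf (f : M → M) (hmul : ∀ x y, f (mulM x y) = mulM (f x) (f y))
    (hinj : ∀ x y, f x = f y → x = y) : MulAut M :=
  MulEquiv.ofBijective (MonoidHom.mk' f hmul)
    ⟨fun x y h => hinj x y h, Finite.surjective_of_injective (fun x y h => hinj x y h)⟩

theorem autOf_apply (f : M → M) (hmul : ∀ x y, f (mulM x y) = mulM (f x) (f y))
    (hinj : ∀ x y, f x = f y → x = y) (x : M) : autOf f hmul hinj x = f x := rfl

theorem rho_surj : Function.Surjective rho := by
  rw [← MonoidHom.range_eq_top]
  have h01 : finRotate 5 (0 : Fin 5) = 1 := by decide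
  have hcl := Equiv.Perm.closure_cycle_adjacent_swap (isCycle_finRotate (n := 3))
    (support_finRotate (n := 3)) (0 : Fin 5)
  rw [eq_top_iff, ← hcl, Subgroup.closure_le]
  intro σ hσ
  rcases hσ with rfl | hσ
  · refine ⟨autOf fs fs_mul fs_inj, Equiv.ext fun i => ?_⟩
    rw [rho_apply, autOf_apply, fs_idx, finRotate_apply]
  · rw [Set.mem_singleton_iff] at hσ
    rw [hσ, h01]
    refine ⟨autOf ft ft_mul ft_inj, Equiv.ext fun i => ?_⟩
    rw [rho_apply, autOf_apply, ft_idx]

theorem congr_conj {G H : Type*} [Group G] [Group H] (φ : G ≃* H) (g : G) :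
    MulAut.congr φ (MulAut.conj g) = MulAut.conj (φ g) := by
  refine MulEquiv.ext fun x => ?_
  show φ (MulAut.conj g (φ.symm x)) = MulAut.conj (φ g) x
  rw [MulAut.conj_apply, MulAut.conj_apply, map_mul, map_mul, map_inv, MulEquiv.apply_symm_apply]

theorem conj_ker_eq {G : Type*} [Group G] :
    (MulAut.conj : G →* MulAut G).ker = Subgroup.center G := by
  ext x
  rw [MonoidHom.mem_ker, Subgroup.mem_center_iff]
  constructor
  · intro h g
    have h' := congrArg (fun σ : MulAut G => σ g) h
    simp only [MulAut.conj_apply, MulAut.one_apply] at h'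
    exact (mul_inv_eq_iff_eq_mul.mp h').symm
  · intro h
    refine MulEquiv.ext fun g => ?_
    rw [MulAut.conj_apply, MulAut.one_apply, ← h g, mul_inv_cancel_right]

theorem main {P : Type*} [Group P] [Finite P] (hex : Cfsg.IsExtraspecial 2 P)
    (h32 : Nat.card P = 32)
    (hminus : ∀ A : Subgroup P, Cfsg.IsElementaryAbelian 2 A → Nat.card ↥A ≤ 4)
    [(MulAut.conj : P →* MulAut P).range.Normal] :
    Nat.card ↥(MulAut.conj : P →* MulAut P).range = 16 ∧ Nat.card (MulAut P) = 1920 ∧
      Nonempty ((MulAut P ⧸ (MulAut.conj : P →* MulAut P).range) ≃* Equiv.Perm (Fin 5)) := by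
  obtain ⟨⟨zP, esP⟩, hna⟩ := Cfsg.Agent.Helper1.esdata_two_of_extraspecial hex
  obtain ⟨φ, -⟩ := Cfsg.Agent.Helper1.es2_iso 32 P M zP z h32 card_M esP esM hna
    ⟨fun h => absurd h (not_big_of_minus h32 hminus), fun h => absurd h not_big_M⟩
  let ρP : MulAut P →* Equiv.Perm (Fin 5) := rho.comp (MulAut.congr φ).toMonoidHom
  have hsurj : Function.Surjective ρP := rho_surj.comp (MulAut.congr φ).surjective
  have hker : ρP.ker = (MulAut.conj : P →* MulAut P).range := by
    ext α
    rw [MonoidHom.mem_ker, MonoidHom.mem_range]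
    show rho (MulAut.congr φ α) = 1 ↔ _
    rw [← MonoidHom.mem_ker, ker_rho, MonoidHom.mem_range]
    constructor
    · rintro ⟨g, hg⟩
      refine ⟨φ.symm g, ?_⟩
      apply (MulAut.congr φ).injective
      rw [← hg, congr_conj, MulEquiv.apply_symm_apply]
    · rintro ⟨g, rfl⟩
      exact ⟨φ g, (congr_conj φ g).symm⟩
  have iso : (MulAut P ⧸ (MulAut.conj : P →* MulAut P).range) ≃* Equiv.Perm (Fin 5) :=
    (QuotientGroup.quotientMulEquivOfEq hker.symm).trans
      (QuotientGroup.quotientKerEquivOfSurjective ρP hsurj)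
  have hq : Nat.card (MulAut P ⧸ (MulAut.conj : P →* MulAut P).range) = 120 := by
    rw [Nat.card_congr iso.toEquiv, Nat.card_perm, Nat.card_fin]
    rfl
  have h16 : Nat.card (MulAut.conj : P →* MulAut P).range = 16 := by
    have h1 := Subgroup.card_mul_index (MulAut.conj : P →* MulAut P).ker
    rw [Subgroup.index_ker, conj_ker_eq, hex.2, h32] at h1
    omega
  refine ⟨h16, ?_, ⟨iso⟩⟩
  rw [Subgroup.card_eq_card_quotient_mul_card_subgroup (MulAut.conj : P →* MulAut P).range,
    hq, h16]

end Cfsg.Agent.Helper5.XM32
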